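import Groth.Agent.QuotRep.SecHom
import Groth.Agent.Lib.CurveTensor
import Groth.Agent.H9Existence.Lift

/-!
# Frames of finite locally free modules
-/

set_option autoImplicit false
set_option linter.style.haveILetI false
set_option linter.unusedSectionVars false
set_option backward.isDefEq.respectTransparency false
set_option backward.isDefEq.respectTransparency.types false
set_option maxHeartbeats 1000000
set_option synthInstance.maxHeartbeats 400000

universe u

open CategoryTheory CategoryTheory.Limits AlgebraicGeometry TopologicalSpace Opposite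

attribute [-instance] CategoryTheory.catToReflQuiver

noncomputable section

namespace Groth.Agent.QuotRep

open Groth.Agent

variable {X Y : Scheme.{u}} {N n : ℕ} {L M : X.Modules}

/-- An epimorphism of finite locally free modules of the same rank is an isomorphism. -/
theorem isIso_of_epi_rank (hL : FlatMod.IsFinLocFreeOfRank n L) (hM : FlatMod.IsFinLocFreeOfRank n M)
    (f : L ⟶ M) [Epi f] : IsIso f := by
  haveI : ∀ x, IsIso ((DerSch.stalkFunctor X x).map f) := fun x => by
    let R := X.presheaf.stalk x
    obtain ⟨b⟩ := CurveTensor.exists_basis_stalk hL x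
    obtain ⟨b'⟩ := CurveTensor.exists_basis_stalk hM x
    let F : (Fin n → R) →ₗ[R] (Fin n → R) :=
      b'.equivFun.toLinearMap ∘ₗ ((DerSch.stalkFunctor X x).map f).hom ∘ₗ b.equivFun.symm.toLinearMap
    have h1 : Function.Surjective ((DerSch.stalkFunctor X x).map f) :=
      (Synt29.OmegaStalk.epi_iff_stalk f).1 inferInstance x
    have hF : Function.Surjective F := b'.equivFun.surjective.comp (h1.comp b.equivFun.symm.surjective)
    have h2 := (Function.Bijective.of_comp_iff' b'.equivFun.bijective _).1
      (OrzechProperty.bijective_of_surjective_endomorphism F hF)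
    exact (ConcreteCategory.isIso_iff_bijective _).2
      ((Function.Bijective.of_comp_iff _ b.equivFun.symm.bijective).1 h2)
  exact KFlatLib.isIso_of_stalk f this

theorem comb_comb {m : ℕ} (e : Fin n → Γ(L, (⊤ : X.Opens))) (a : Fin m → Fin n → Γ(X, ⊤)) (c : Fin m → Γ(X, ⊤)) :
    comb (fun j => comb e (a j)) c = comb e fun r => ∑ j, c j * a j r := by
  simp only [comb, Finset.smul_sum, smul_smul, Finset.sum_smul]
  exact Finset.sum_comm

theorem comb_basis (s : Fin N → Γ(L, (⊤ : X.Opens))) (j : Fin N) :
    comb s (fun i => (1 : Matrix (Fin N) (Fin N) Γ(X, ⊤)) i j) = s j := by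
  classical
  rw [comb, Finset.sum_eq_single j]
  · rw [Matrix.one_apply_eq, one_smul]
  · intro i _ hi
    rw [Matrix.one_apply_ne hi, zero_smul]
  · exact fun h => absurd (Finset.mem_univ j) h

/-- Coordinates with respect to a frame are unique. -/
theorem comb_injective (e : Fin n → Γ(L, (⊤ : X.Opens))) [IsIso (secHom e)] {a b : Fin n → Γ(X, ⊤)}
    (h : comb e a = comb e b) : a = b := (existsUnique_coord e (comb e b)).unique h rfl

/-- The endomorphism of a free module given by a matrix. -/
def matHom (G : Matrix (Fin n) (Fin N) Γ(X, ⊤)) : FlatMod.freeMod X N ⟶ FlatMod.freeMod X n :=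
  secHom fun j => comb (basis X n) fun r => G r j

theorem matHom_comp_secHom (G : Matrix (Fin n) (Fin N) Γ(X, ⊤)) (e : Fin n → Γ(L, (⊤ : X.Opens))) :
    matHom G ≫ secHom e = secHom fun j => comb e fun r => G r j := by
  rw [matHom, secHom_comp]
  exact congrArg secHom (funext fun j => secHom_app_comb e _)

theorem matHom_mul {m : ℕ} (G : Matrix (Fin n) (Fin m) Γ(X, ⊤)) (H : Matrix (Fin m) (Fin N) Γ(X, ⊤)) :
    matHom H ≫ matHom G = matHom (G * H) := by
  rw [show matHom G = secHom _ from rfl, matHom_comp_secHom, matHom]
  refine congrArg secHom (funext fun j => ?_)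
  rw [comb_comb]
  exact congrArg (comb _) (funext fun r => (Finset.sum_congr rfl fun s _ => mul_comm _ _).trans (Matrix.mul_apply).symm)

theorem matHom_one : matHom (1 : Matrix (Fin n) (Fin n) Γ(X, ⊤)) = 𝟙 _ := by
  rw [matHom, ← secHom_basis]
  exact congrArg secHom (funext fun j => comb_basis _ j)

/-- Sections obtained from a frame by an invertible matrix form a frame. -/
theorem isIso_secHom_of_matrix (e v : Fin n → Γ(L, (⊤ : X.Opens))) [IsIso (secHom e)]
    (G : Matrix (Fin n) (Fin n) Γ(X, ⊤)) (hG : IsUnit G.det) (hv : ∀ j, v j = comb e fun r => G r j) :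
    IsIso (secHom v) := by
  haveI : IsIso (matHom G) := ⟨matHom G⁻¹, by rw [matHom_mul, Matrix.nonsing_inv_mul G hG, matHom_one],
    by rw [matHom_mul, Matrix.mul_nonsing_inv G hG, matHom_one]⟩
  rw [show secHom v = matHom G ≫ secHom e by rw [matHom_comp_secHom]; exact congrArg secHom (funext hv)]
  infer_instance

/-- The determinant of a product of rectangular matrices lies in the ideal of the minors. -/
theorem det_mul_mem {R : Type u} [CommRing R] (P : Matrix (Fin n) (Fin N) R) (Q : Matrix (Fin N) (Fin n) R) :
    (P * Q).det ∈ Ideal.span (Set.range fun f : Fin n → Fin N => (P.submatrix id f).det) := by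
  classical
  have h : (P * Q).transpose = fun i => ∑ l, Q l i • fun r => P r l := by
    funext i r
    simp only [Matrix.transpose_apply, Matrix.mul_apply, Finset.sum_apply, Pi.smul_apply, smul_eq_mul]
    exact Finset.sum_congr rfl fun l _ => mul_comm _ _
  rw [← Matrix.det_transpose, h]
  let D : MultilinearMap R (fun _ : Fin n => Fin n → R) R := (Matrix.detRowAlternating).toMultilinearMap
  show D (fun i => ∑ l, Q l i • fun r => P r l) ∈ _
  rw [MultilinearMap.map_sum]
  refine Ideal.sum_mem _ fun f _ => ?_
  rw [MultilinearMap.map_smul_univ, smul_eq_mul]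
  refine Ideal.mul_mem_left _ _ (Ideal.subset_span ⟨f, ?_⟩)
  show (P.submatrix id f).det = _
  rw [← Matrix.det_transpose]
  rfl

/-- Some minor of a matrix with a right inverse avoids a given proper ideal. -/
theorem exists_minor {R : Type u} [CommRing R] (P : Matrix (Fin n) (Fin N) R) (Q : Matrix (Fin N) (Fin n) R)
    (h : P * Q = 1) (p : Ideal R) (hp : p ≠ ⊤) : ∃ f : Fin n → Fin N, (P.submatrix id f).det ∉ p := by
  by_contra h'
  push Not at h'
  refine hp ((Ideal.eq_top_iff_one _).2 ?_)
  have := det_mul_mem P Q
  rw [h, Matrix.det_one] at this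
  exact Ideal.span_le.2 (Set.range_subset_iff.2 h') this

end Groth.Agent.QuotRep

end
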