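import Groth.Agent.HilbStrat.Uniform
import Groth.Agent.AmpleX.Generated
import Groth.Agent.AmpleVan.Tw
import Groth.Agent.AssDimLoci.Ring
import Groth.Agent.KFlatLib.Perfect.Tensor
import Groth.Agent.H23.PicInv
import Groth.Agent.InvX.GenEpi
import Groth.Agent.AmpleX.CounitEpi
import Groth.Agent.KFlatLib.Scheme.PullTensorCx

/-!
# Sections of high twists commute with base change to noetherian rings
-/

set_option autoImplicit false
set_option linter.style.haveILetI false
set_option linter.unusedSectionVars false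
set_option backward.isDefEq.respectTransparency false
set_option backward.isDefEq.respectTransparency.types false
set_option maxHeartbeats 1000000
set_option synthInstance.maxHeartbeats 400000

universe u

open CategoryTheory CategoryTheory.Limits AlgebraicGeometry TopologicalSpace Opposite
open Groth.Agent.PnCoh.Finite (mapLin exists_of_deltaLin_eq_zero)
open scoped TensorProduct Groth.Agent.H23.PicMul

noncomputable section

namespace Groth.Agent.QuotRep

open Groth.Agent Groth.Agent.AmpleVan Groth.Agent.HilbStrat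

variable {A B : Type u} [CommRing A] [CommRing B] {X X' : Scheme.{u}}

/-- Twisting commutes with pullback. -/
def twPullIso (g : X' ⟶ X) (Q : X.Modules) :
    AmpleVan.tw Q ⋙ Scheme.Modules.pullback g ≅
      Scheme.Modules.pullback g ⋙ AmpleVan.tw ((Scheme.Modules.pullback g).obj Q) :=
  NatIso.ofComponents (fun M => ((KFlatLib.pullTensorBiIso g).app M).app Q) fun φ =>
    NatTrans.congr_app ((KFlatLib.pullTensorBiIso g).hom.naturality φ) Q

/-- Vanishing of `H¹` of the kernel makes sections surjective. -/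
theorem app_top_surjective [X.Over (Spec (CommRingCat.of A))] {S : ShortComplex X.Modules} (hS : S.ShortExact)
    (h : Subsingleton (Coh.HH X S.X₁ 1)) : Function.Surjective (S.g.app ⊤) := fun y => by
  let e := fun M : X.Modules => Sheaf.H.equiv₀ (Coh.toAb M) isTerminalTop
  obtain ⟨x, hx⟩ := exists_of_deltaLin_eq_zero A hS 0 (x := (e S.X₃).symm y) (h.elim _ _)
  refine ⟨e S.X₂ x, ?_⟩
  refine (Sheaf.H.equiv₀_naturality isTerminalTop ((QCoh.toAbFunctor X).map S.g) x).trans ?_
  exact (congrArg (e S.X₃) hx).trans ((e S.X₃).apply_symm_apply y)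

/-- High twists keep a right exact sequence exact on sections. -/
theorem exists_high_exact [IsNoetherianRing A] (π : X ⟶ Spec (CommRingCat.of A)) [IsProper π]
    {L : X.Modules} (hL : CohB1.IsAmple L) {P₁ P₀ F : X.Modules} (h₁ : Coh.IsCoh P₁) (h₀ : Coh.IsCoh P₀)
    (hF : Coh.IsCoh F) (u : P₁ ⟶ P₀) (p : P₀ ⟶ F) [Epi p] (w : u ≫ p = 0)
    (hex : (ShortComplex.mk u p w).Exact) :
    ∃ N, ∀ n, N ≤ n →
      Function.Surjective (((AmpleVan.tw (CohB1.tensorPow L n)).map p).app ⊤) ∧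
      ∀ z, ((AmpleVan.tw (CohB1.tensorPow L n)).map p).app ⊤ z = 0 →
        ∃ y, ((AmpleVan.tw (CohB1.tensorPow L n)).map u).app ⊤ y = z := by
  letI : X.Over (Spec (CommRingCat.of A)) := ⟨π⟩
  haveI : IsProper (X ↘ Spec (CommRingCat.of A)) := ‹IsProper π›
  haveI : IsLocallyNoetherian X := LocallyOfFiniteType.isLocallyNoetherian π
  let e : P₁ ⟶ kernel p := kernel.lift p u w
  haveI : Epi e := hex.epi_kernelLift
  have hI : Coh.IsCoh (kernel p) := QCoh.isCoh_kernel h₀ hF p
  have hK : Coh.IsCoh (kernel e) := QCoh.isCoh_kernel h₁ hI e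
  obtain ⟨N₁, hN₁⟩ := AmpleVan.exists_vanishing (A := A) hL hI
  obtain ⟨N₂, hN₂⟩ := AmpleVan.exists_vanishing (A := A) hL hK
  refine ⟨max N₁ N₂, fun n hn => ?_⟩
  let T := AmpleVan.tw (CohB1.tensorPow L n)
  haveI : T.IsEquivalence :=
    AmpleVan.isEquivalence_tw (H23.PicMul.isInvertible_tensorPow (AmpleX.isAmple_iff.1 hL).1 n)
  haveI : T.Additive := Functor.additive_of_preserves_binary_products _
  have hs1 : (ShortComplex.mk (kernel.ι p) p (kernel.condition p)).ShortExact :=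
    { exact := ShortComplex.exact_of_f_is_kernel _ (kernelIsKernel p) }
  have hs2 : (ShortComplex.mk (kernel.ι e) e (kernel.condition e)).ShortExact :=
    { exact := ShortComplex.exact_of_f_is_kernel _ (kernelIsKernel e) }
  have ht1 := hs1.map_of_exact T
  have ht2 := hs2.map_of_exact T
  refine ⟨app_top_surjective (A := A) ht1 (hN₁ n (le_of_max_le_left hn) 0), fun z hz => ?_⟩
  haveI := ht1.mono_f
  have hs : InvX.ofSect z ≫ T.map p = 0 := by
    refine AmpleX.hom_ext_one' ?_
    show InvX.one (InvX.ofSect z ≫ T.map p) = 0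
    refine Eq.trans ?_ hz
    exact congrArg ((T.map p).app ⊤) (InvX.one_ofSect z)
  let l := ht1.exact.lift (InvX.ofSect z) hs
  have hl : l ≫ T.map (kernel.ι p) = InvX.ofSect z := ht1.exact.lift_f _ hs
  obtain ⟨y, hy⟩ := app_top_surjective (A := A) ht2 (hN₂ n (le_of_max_le_right hn) 0) (InvX.one l)
  refine ⟨y, ?_⟩
  have hu : T.map u = T.map e ≫ T.map (kernel.ι p) := by rw [← T.map_comp, kernel.lift_ι]
  rw [hu]
  refine Eq.trans (congrArg ((T.map (kernel.ι p)).app ⊤) hy) ?_
  exact (congrArg InvX.one hl).trans (InvX.one_ofSect z)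

/-- A locally free module is flat over the base of a flat morphism. -/
theorem isFlatOver_finLocFree {Z Y : Scheme.{u}} (f : Z ⟶ Y) [Flat f] {F : Z.Modules}
    (hF : FlatMod.IsFinLocFree F) : FlatMod.IsFlatOver f F := fun x => by
  show FlatMod.IsFlatOverAt f F x
  unfold FlatMod.IsFlatOverAt
  letI := FlatMod.moduleStalkOver f F x
  letI : Algebra (Y.presheaf.stalk (f.base x)) (Z.presheaf.stalk x) := (f.stalkMap x).hom.toAlgebra
  haveI : IsScalarTower (Y.presheaf.stalk (f.base x)) (Z.presheaf.stalk x) (F.presheaf.stalk x) :=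
    IsScalarTower.of_algebraMap_smul fun _ _ => rfl
  haveI : Module.Flat (Y.presheaf.stalk (f.base x)) (Z.presheaf.stalk x) := Flat.stalkMap f x
  haveI := QCoh.free_stalk_of_isFinLocFree hF x
  exact Module.Flat.trans _ (Z.presheaf.stalk x) _

/-- A coherent module is a quotient of a flat coherent module. -/
theorem exists_flat_cover [IsNoetherianRing A] (π : X ⟶ Spec (CommRingCat.of A)) [IsProper π] [Flat π]
    {L : X.Modules} (hL : CohB1.IsAmple L) {F : X.Modules} (hF : Coh.IsCoh F) :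
    ∃ (P : X.Modules) (p : P ⟶ F), Epi p ∧ Coh.IsCoh P ∧ FlatMod.IsFlatOver π P := by
  haveI : IsLocallyNoetherian X := LocallyOfFiniteType.isLocallyNoetherian π
  haveI : CompactSpace X := QuasiCompact.compactSpace_of_compactSpace π
  haveI : X.IsSeparated := AmpleX.isSeparated_of_isAmple hL
  obtain ⟨a, ha⟩ := AmpleX.eventually_generated_fin hL hF.1 (QCoh.isFT_of_isFP (QCoh.isCoh_iff_isFP.1 hF))
  obtain ⟨G, iso, m, s, hs⟩ := ha a le_rfl
  obtain ⟨q, hq⟩ := InvX.exists_epi_freeMod hs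
  have hQ : PicF.IsInvertible (CohB1.tensorPow L a) :=
    H23.PicMul.isInvertible_tensorPow (AmpleX.isAmple_iff.1 hL).1 a
  obtain ⟨D, hD, ⟨δ⟩⟩ := H23.PicInv.exists_inverse hQ
  obtain ⟨c⟩ : Nonempty ((AmpleVan.tw D).obj G ≅ F) := by
    refine H23.PicMul.cl_eq_iff.1 ?_
    show PicF.cl (CohB1.tensorMod G D) = PicF.cl F
    rw [H23.PicMul.cl_tensor, H23.PicMul.cl_eq_iff.2 ⟨iso⟩, H23.PicMul.cl_tensor, mul_assoc,
      ← H23.PicMul.cl_tensor (CohB1.tensorPow L a), H23.PicMul.cl_eq_iff.2 ⟨δ⟩, ← H23.PicMul.one_def, mul_one]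
  haveI := AmpleVan.isEquivalence_tw hD
  have hfree : FlatMod.IsFinLocFree (FlatMod.freeMod X m) := KFlatLib.isFinLocFree_freeMod m
  haveI : Epi ((AmpleVan.tw D).map q) := inferInstance
  exact ⟨(AmpleVan.tw D).obj (FlatMod.freeMod X m), (AmpleVan.tw D).map q ≫ c.hom, inferInstance,
    QCoh.isCoh_iff_isFP.2 (HilbSnap.isFP_tensor_invertible (QCoh.isFP_of_isFinLocFree hfree) hD),
    TwistFlat.isFlatOver_tensor π hD (isFlatOver_finLocFree π hfree)⟩

/-- For high twists sections commute with base change to a given noetherian ring. -/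
theorem exists_secBij [IsNoetherianRing A] [IsNoetherianRing B] (π : X ⟶ Spec (CommRingCat.of A))
    [IsProper π] [Flat π] [LocallyOfFinitePresentation π] {L : X.Modules} (hL : CohB1.IsAmple L) {F : X.Modules}
    (hF : Coh.IsCoh F) {π' : X' ⟶ Spec (CommRingCat.of B)} {φ : A →+* B} {g : X' ⟶ X}
    (h : IsPullback g π' π (Spec.map (CommRingCat.ofHom φ)))
    (hL' : CohB1.IsAmple ((Scheme.Modules.pullback g).obj L)) :
    ∃ N, ∀ n, N ≤ n → SecBij φ h (CohB1.tensorMod F (CohB1.tensorPow L n)) := by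
  haveI : IsLocallyNoetherian X := LocallyOfFiniteType.isLocallyNoetherian π
  haveI : IsProper π' := MorphismProperty.of_isPullback h inferInstance
  haveI : IsLocallyNoetherian X' := LocallyOfFiniteType.isLocallyNoetherian π'
  obtain ⟨P₀, p, hp, hP₀, hfl₀⟩ := exists_flat_cover π hL hF
  obtain ⟨P₁, q, hq, hP₁, hfl₁⟩ := exists_flat_cover π hL (QCoh.isCoh_kernel hP₀ hF p)
  let u : P₁ ⟶ P₀ := q ≫ kernel.ι p
  have w : u ≫ p = 0 := by rw [Category.assoc, kernel.condition, comp_zero]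
  have hex : (ShortComplex.mk u p w).Exact := by
    rw [ShortComplex.exact_iff_epi_kernel_lift]
    have hl : kernel.lift p u w = q := by rw [← cancel_mono (kernel.ι p), kernel.lift_ι]
    show Epi (kernel.lift p u w)
    rw [hl]; exact hq
  let G := Scheme.Modules.pullback g
  haveI := (Scheme.Modules.pullbackPushforwardAdjunction g).isLeftAdjoint
  haveI : Epi (G.map p) := inferInstance
  have w' : G.map u ≫ G.map p = 0 := by rw [← G.map_comp, w, G.map_zero]
  have hex' : (ShortComplex.mk (G.map u) (G.map p) w').Exact :=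
    ShortComplex.exact_of_g_is_cokernel _ (CokernelCofork.mapIsColimit _ hex.gIsCokernel G)
  have hco : ∀ {M : X.Modules}, Coh.IsCoh M → Coh.IsCoh (G.obj M) := fun hM =>
    QCoh.isCoh_iff_isFP.2 (ModStLib.isFP_pullback g (QCoh.isCoh_iff_isFP.1 hM))
  obtain ⟨N₁, hN₁⟩ := exists_high_exact π hL hP₁ hP₀ hF u p w hex
  obtain ⟨N₂, hN₂⟩ := exists_high_exact π' hL' (hco hP₁) (hco hP₀) (hco hF) (G.map u) (G.map p) w' hex'
  have hLi := (AmpleX.isAmple_iff.1 hL).1
  obtain ⟨N₃, hN₃⟩ := HilbSnap.exists_uniform_fiber_vanishing π hLi ((S4381.result π L).2 hL) hP₀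
  obtain ⟨N₄, hN₄⟩ := HilbSnap.exists_uniform_fiber_vanishing π hLi ((S4381.result π L).2 hL) hP₁
  refine ⟨N₁ + N₂ + N₃ + N₄, fun n hn => ?_⟩
  let Q := CohB1.tensorPow L n
  have hQ : PicF.IsInvertible Q := H23.PicMul.isInvertible_tensorPow hLi n
  let T := AmpleVan.tw Q
  have hb : ∀ {P : X.Modules}, Coh.IsCoh P → FlatMod.IsFlatOver π P →
      (∀ y, CohIII.fiberRank π (CohB1.tensorMod P Q) 1 y = 0) → SecBij φ h (T.obj P) := fun hP hfl hv =>
    secBij_of_flatOver h (HilbSnap.isFP_tensor_invertible (QCoh.isCoh_iff_isFP.1 hP) hQ)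
      (TwistFlat.isFlatOver_tensor π hQ hfl) hv
  have hb₀ := hb hP₀ hfl₀ fun y => hN₃ n (by omega) y 0
  have hb₁ := hb hP₁ hfl₁ fun y => hN₄ n (by omega) y 0
  obtain ⟨e⟩ := H23.PicMul.cl_eq_iff.1 (show PicF.cl (G.obj Q) = PicF.cl (CohB1.tensorPow (G.obj L) n) by
    show PicF.pullCl g (PicF.cl (CohB1.tensorPow L n)) = _
    rw [H23.PicMul.cl_tensorPow, H23.PicMul.cl_tensorPow, H23.PicMul.pullCl_pow]
    rfl)
  let η : T ⋙ G ≅ G ⋙ AmpleVan.tw (CohB1.tensorPow (G.obj L) n) :=
    twPullIso g Q ≪≫ Functor.isoWhiskerLeft G ((DCoh.tensorBi (X := X')).flip.mapIso e)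
  obtain ⟨hsur, -⟩ := hN₁ n (by omega)
  obtain ⟨hsur', hker'⟩ := hN₂ n (by omega)
  have hnat : ∀ {M M' : X.Modules} (f : M ⟶ M') (z),
      (η.hom.app M').app ⊤ ((G.map (T.map f)).app ⊤ z) =
        ((AmpleVan.tw (CohB1.tensorPow (G.obj L) n)).map (G.map f)).app ⊤ ((η.hom.app M).app ⊤ z) :=
    fun f z => congr(($(η.hom.naturality f)).app ⊤ z)
  have hinj : ∀ M : X.Modules, Function.Injective ((η.hom.app M).app ⊤) := fun M =>
    (ConcreteCategory.bijective_of_isIso ((η.hom.app M).app ⊤)).1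
  have hsurj : ∀ M : X.Modules, Function.Surjective ((η.hom.app M).app ⊤) := fun M =>
    (ConcreteCategory.bijective_of_isIso ((η.hom.app M).app ⊤)).2
  have hsG : Function.Surjective ((G.map (T.map p)).app ⊤) := fun y => by
    obtain ⟨z, hz⟩ := hsur' ((η.hom.app F).app ⊤ y)
    obtain ⟨z, rfl⟩ := hsurj P₀ z
    exact ⟨z, hinj F ((hnat p z).trans hz)⟩
  have hkG : ∀ z, (G.map (T.map p)).app ⊤ z = 0 → ∃ y, (G.map (T.map u)).app ⊤ y = z := fun z hz => by
    obtain ⟨y, hy⟩ := hker' ((η.hom.app P₀).app ⊤ z) (by rw [← hnat p, hz, map_zero])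
    obtain ⟨y, rfl⟩ := hsurj P₁ y
    exact ⟨y, hinj P₀ ((hnat u y).trans hy)⟩
  -- the comparison maps
  letI : X.Over (Spec (CommRingCat.of A)) := ⟨π⟩
  letI : X'.Over (Spec (CommRingCat.of B)) := ⟨π'⟩
  letI := φ.toAlgebra
  letI mA : ∀ M : X.Modules, Module A Γ(M, (⊤ : X.Opens)) := fun M => QCoh.secModule (Coh.toGlobal π) M _
  letI mB : ∀ M : X'.Modules, Module B Γ(M, (⊤ : X'.Opens)) := fun M => QCoh.secModule (Coh.toGlobal π') M _
  let bc := fun M : X.Modules => PBC.sectionsBC φ g h (F := M)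
  let lin : ∀ {M M' : X.Modules}, (M ⟶ M') → (Γ(M, (⊤ : X.Opens)) →ₗ[A] Γ(M', (⊤ : X.Opens))) := fun f =>
    { toFun := f.app ⊤
      map_add' := map_add _
      map_smul' := fun r x => Scheme.Modules.Hom.app_smul f _ x }
  have hnatL : ∀ {M M' : X.Modules} (f : M ⟶ M') (t : B ⊗[A] Γ(M, (⊤ : X.Opens))),
      bc M' ((lin f).baseChange B t) = (G.map f).app ⊤ (bc M t) := by
    intro M M' f t
    induction t using TensorProduct.induction_on with
    | zero => simp
    | add a b ha hb => simp only [map_add, ha, hb]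
    | tmul c x =>
      have hc : ∀ (N : X.Modules) (y : Γ(N, (⊤ : X.Opens))), c ⊗ₜ[A] y = c • ((1 : B) ⊗ₜ[A] y) := fun N y => by
        rw [TensorProduct.smul_tmul', smul_eq_mul, mul_one]
      rw [LinearMap.baseChange_tmul, hc, hc M, map_smul, map_smul, sectionsBC_one_tmul, sectionsBC_one_tmul]
      refine Eq.trans ?_ (Scheme.Modules.Hom.app_smul (G.map f) _ _).symm
      exact congrArg (c • ·) (ExistEasy.pullSec_natural g f _ x).symm
  show Function.Bijective (bc (T.obj F))
  have hs0 : Function.Surjective ((lin (T.map p)).baseChange B) :=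
    LinearMap.lTensor_surjective B (g := lin (T.map p)) hsur
  refine ⟨(injective_iff_map_eq_zero _).2 fun s hs => ?_, fun y => ?_⟩
  · obtain ⟨t, rfl⟩ := hs0 s
    obtain ⟨y, hy⟩ := hkG (bc _ t) ((hnatL (T.map p) t).symm.trans hs)
    obtain ⟨r, rfl⟩ := hb₁.2 y
    have ht : (lin (T.map u)).baseChange B r = t := hb₀.1 ((hnatL (T.map u) r).trans hy)
    rw [← ht, ← LinearMap.comp_apply, ← LinearMap.baseChange_comp]
    have h0 : (lin (T.map p)).comp (lin (T.map u)) = 0 := LinearMap.ext fun x => by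
      have h0 : T.map u ≫ T.map p = 0 := by
        haveI : T.IsEquivalence := AmpleVan.isEquivalence_tw hQ
        rw [← T.map_comp, w, T.map_zero]
      exact congr(($h0).app ⊤ x)
    rw [h0, LinearMap.baseChange_zero, LinearMap.zero_apply]
  · obtain ⟨z, rfl⟩ := hsG y
    obtain ⟨t, rfl⟩ := hb₀.2 z
    exact ⟨(lin (T.map p)).baseChange B t, hnatL (T.map p) t⟩

end Groth.Agent.QuotRep

end
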