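import Groth.Agent.QuotRep.EpiCounit
import Groth.Agent.FibFlatMod.StagePoint
import Groth.Agent.LimMod.Crit
import Groth.Agent.GrFlat5.FlatAtIso

/-!
# Epimorphisms onto flat modules which are isomorphisms on the fibres
-/

set_option autoImplicit false
set_option linter.style.haveILetI false
set_option linter.unusedSectionVars false
set_option backward.isDefEq.respectTransparency false
set_option backward.isDefEq.respectTransparency.types false
set_option maxHeartbeats 1000000
set_option synthInstance.maxHeartbeats 400000

universe u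

open CategoryTheory CategoryTheory.Limits AlgebraicGeometry TopologicalSpace Opposite

attribute [-instance] CategoryTheory.catToReflQuiver

noncomputable section

namespace Groth.Agent.QuotRep

open Groth.Agent

variable {P P' T T' : Scheme.{u}}

/-- The kernel of an epimorphism onto a flat module stays a submodule after base change. -/
theorem mono_pullback_kernel {b : P ⟶ T} {v : P' ⟶ P} {b' : P' ⟶ T'} {g : T' ⟶ T} (hc : IsPullback v b' b g)
    {A B : P.Modules} (hA : Coh.IsQCoh A) (hB : Coh.IsQCoh B) (χ : A ⟶ B) [Epi χ]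
    (hfl : FlatMod.IsFlatOver b B) : Mono ((Scheme.Modules.pullback v).map (kernel.ι χ)) := by
  refine LimMod.mono_of_stalks _ fun x => ?_
  let ι₁ := (Scheme.Modules.pullback (𝟙 P)).map (kernel.ι χ)
  have hnat := (Scheme.Modules.pullbackId P).hom.naturality (kernel.ι χ)
  haveI : Mono ι₁ := by
    have : ι₁ = (Scheme.Modules.pullbackId P).hom.app (kernel χ) ≫ kernel.ι χ ≫
        (Scheme.Modules.pullbackId P).inv.app A := by
      rw [← Category.assoc]
      exact ((Iso.comp_inv_eq ((Scheme.Modules.pullbackId P).app A)).2 hnat.symm).symm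
    rw [this]
    infer_instance
  let e : cokernel ι₁ ≅ B :=
    cokernel.mapIso ι₁ (kernel.ι χ) ((Scheme.Modules.pullbackId P).app _) ((Scheme.Modules.pullbackId P).app A) hnat ≪≫
      IsColimit.coconePointUniqueUpToIso (cokernelIsCokernel (kernel.ι χ))
        (Abelian.epiIsCokernelOfKernel _ (kernelIsKernel χ) :)
  have h0 : Function.Injective (FibFlatMod.stalkLin ι₁ (v x)) ∧
      FlatMod.IsFlatOverAt b (cokernel ι₁) (v x) := by
    refine ⟨?_, GrFlat5.isFlatOverAt_of_iso _ e.symm _ (hfl _)⟩
    haveI : Mono ((DerSch.stalkFunctor P (v x)).map ι₁) := inferInstance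
    exact (ModuleCat.mono_iff_injective _).1 this
  exact (ModuleCat.mono_iff_injective _).2
    (FibFlatMod.inj_coker_flat_baseChange hc (𝟙 P) v (Category.comp_id v) (QCoh.isQCoh_kernel hA hB χ) hA
      (kernel.ι χ) x h0).1

/-- An epimorphism onto a flat module which is an isomorphism on every fibre is an isomorphism. -/
theorem isIso_of_fibre (b : P ⟶ T) {A B : P.Modules} (hA : Coh.IsQCoh A) (hAt : CohB1.IsFT A)
    (hB : CohB1.IsFP B) (χ : A ⟶ B) [Epi χ] (hfl : FlatMod.IsFlatOver b B)
    (h : ∀ t : T, IsIso ((Scheme.Modules.pullback (b.fiberι t)).map χ)) : IsIso χ := by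
  have hBq := QCoh.isQCoh_of_isFP hB
  have hK : IsZero (kernel χ) := by
    refine isZero_of_isZero_fibre b (QCoh.isQCoh_kernel hA hBq χ) (LimMod.isFT_kernel_of_epi χ hA hAt hB) fun t => ?_
    haveI : Mono ((Scheme.Modules.pullback (b.fiberι t)).map (kernel.ι χ)) :=
      mono_pullback_kernel (IsPullback.of_hasPullback b (T.fromSpecResidueField t)) hA hBq χ hfl
    haveI := h t
    haveI := (Scheme.Modules.pullbackPushforwardAdjunction (b.fiberι t)).isLeftAdjoint
    have h0 : (Scheme.Modules.pullback (b.fiberι t)).map (kernel.ι χ) = 0 := by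
      rw [← cancel_mono ((Scheme.Modules.pullback (b.fiberι t)).map χ), ← Functor.map_comp, kernel.condition,
        Functor.map_zero, zero_comp]
    exact IsZero.of_mono_eq_zero _ h0
  haveI : Mono χ := Preadditive.mono_of_isZero_kernel χ hK
  exact isIso_of_mono_of_epi χ

end Groth.Agent.QuotRep

end
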