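import Groth.Agent.QuotRep.HighBC
import Groth.Agent.HilbStrat.Glue
import Groth.Agent.HilbStrat.Euler
import Groth.Agent.AmpleX.CounitEpi
import Groth.Agent.HilbStrat.Basic

/-!
# The zero locus of a map into a flat module with vanishing fibre cohomology
-/

set_option autoImplicit false
set_option linter.style.haveILetI false
set_option linter.unusedSectionVars false
set_option backward.isDefEq.respectTransparency false
set_option backward.isDefEq.respectTransparency.types false
set_option maxHeartbeats 1000000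
set_option synthInstance.maxHeartbeats 400000

universe u

open CategoryTheory CategoryTheory.Limits AlgebraicGeometry TopologicalSpace Opposite
open scoped TensorProduct

attribute [-instance] CategoryTheory.catToReflQuiver

noncomputable section

namespace Groth.Agent.QuotRep

open Groth.Agent Groth.Agent.HilbStrat

variable {X T : Scheme.{u}} {E F : X.Modules}

theorem pullback_map_eq_zero_comp {Y Z : Scheme.{u}} (a : Z ⟶ Y) (b : Y ⟶ X) (u : E ⟶ F)
    (h : (Scheme.Modules.pullback b).map u = 0) : (Scheme.Modules.pullback (a ≫ b)).map u = 0 := by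
  haveI := (Scheme.Modules.pullbackPushforwardAdjunction a).isLeftAdjoint
  rw [← cancel_epi ((Scheme.Modules.pullbackComp a b).hom.app E), ← (Scheme.Modules.pullbackComp a b).hom.naturality u,
    Functor.comp_map, h, Functor.map_zero, zero_comp, comp_zero]

/-- Vanishing of a pulled back map does not see isomorphisms of the source. -/
theorem pullback_map_eq_zero_iff_of_iso {Y Z : Scheme.{u}} (e : Z ≅ Y) {a : Z ⟶ X} {b : Y ⟶ X}
    (h : e.hom ≫ b = a) (u : E ⟶ F) :
    (Scheme.Modules.pullback a).map u = 0 ↔ (Scheme.Modules.pullback b).map u = 0 := by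
  subst h
  refine ⟨fun hz => ?_, pullback_map_eq_zero_comp _ b u⟩
  have h2 := pullback_map_eq_zero_comp e.inv (e.hom ≫ b) u hz
  rwa [Iso.inv_hom_id_assoc] at h2

/-- A map of modules vanishing after restriction to the members of an open cover vanishes. -/
theorem eq_zero_of_restrict {Y : Scheme.{u}} {A B : Y.Modules} (v : A ⟶ B)
    (h : ∀ y : Y, ∃ W : Y.Opens, y ∈ W ∧ (Scheme.Modules.pullback W.ι).map v = 0) : v = 0 := by
  refine Scheme.Modules.hom_ext _ _ fun U => ?_
  ext s
  refine AModX.eq_of_locally _ _ fun y hy => ?_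
  obtain ⟨W, hyW, hW⟩ := h y
  have hr : (Scheme.Modules.restrictFunctor W.ι).map v = 0 := by
    rw [← cancel_mono ((Scheme.Modules.restrictFunctorIsoPullback W.ι).hom.app B),
      (Scheme.Modules.restrictFunctorIsoPullback W.ι).hom.naturality v, hW, comp_zero, zero_comp]
  refine ⟨W.ι ''ᵁ (W.ι ⁻¹ᵁ U), W.ι.image_preimage_le U, ⟨⟨y, hyW⟩, hy, rfl⟩, ?_⟩
  rw [← AModX.app_res, ← AModX.app_res]
  exact congr(($hr).app (W.ι ⁻¹ᵁ U) (AModX.res A (W.ι.image_preimage_le U) s))

/-- The pullback of a map out of a free module vanishes iff the pulled back sections do. -/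
theorem pullback_map_free_eq_zero_iff {Y : Scheme.{u}} (g : Y ⟶ X) {N : ℕ} (w : FlatMod.freeMod X N ⟶ F) :
    (Scheme.Modules.pullback g).map w = 0 ↔
      ∀ j, QCoh.pullSec g F (le_top : (⊤ : Y.Opens) ≤ g ⁻¹ᵁ ⊤)
        (InvX.one (Sigma.ι (fun _ : Fin N => Coh.structureModule X) j ≫ w)) = 0 := by
  let adj := Scheme.Modules.pullbackPushforwardAdjunction g
  have key : (Scheme.Modules.pullback g).map w = 0 ↔ w ≫ adj.unit.app F = 0 := by
    have hn := adj.unit.naturality w
    simp only [Functor.id_map, Functor.comp_map] at hn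
    constructor
    · intro hz
      rw [hn, hz, Functor.map_zero, comp_zero]
    · intro hz
      refine (adj.homEquiv _ _).injective ?_
      rw [Adjunction.homEquiv_unit, ← hn, hz, Adjunction.homEquiv_unit, Functor.map_zero, comp_zero]
  have hps : ∀ j, QCoh.pullSec g F (le_top : (⊤ : Y.Opens) ≤ g ⁻¹ᵁ ⊤)
      (InvX.one (Sigma.ι (fun _ : Fin N => Coh.structureModule X) j ≫ w)) =
        (adj.unit.app F).app ⊤ (InvX.one (Sigma.ι (fun _ : Fin N => Coh.structureModule X) j ≫ w)) := fun j =>
    QCoh.map_id' (M := (Scheme.Modules.pullback g).obj F) (U := (⊤ : Y.Opens)) (homOfLE le_top) _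
  rw [key]
  constructor
  · intro hz j
    rw [hps]
    exact congr(($hz).app ⊤ (InvX.one (Sigma.ι (fun _ : Fin N => Coh.structureModule X) j)))
  · intro hz
    refine Sigma.hom_ext _ _ fun j => ?_
    refine AmpleX.hom_ext_one' ?_
    rw [comp_zero]
    exact ((hps j).symm.trans (hz j))

variable {B : Type u} [CommRing B]

/-- The vanishing of a map out of a free module after an affine base change is cut out by an ideal. -/
theorem exists_ideal_free (π : X ⟶ Spec (CommRingCat.of B)) [IsProper π] [LocallyOfFinitePresentation π]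
    (hF : CohB1.IsFP F) (hfl : FlatMod.IsFlatOver π F) (hvan : ∀ y, CohIII.fiberRank π F 1 y = 0)
    {N : ℕ} (w : FlatMod.freeMod X N ⟶ F) :
    ∃ J : Ideal B, J.FG ∧ ∀ (C : Type u) [CommRing C] (φ : B →+* C) (X' : Scheme.{u}) (g : X' ⟶ X)
      (π' : X' ⟶ Spec (CommRingCat.of C)) (_ : IsPullback g π' π (Spec.map (CommRingCat.ofHom φ))),
      (Scheme.Modules.pullback g).map w = 0 ↔ J ≤ RingHom.ker φ := by
  classical
  obtain ⟨hlf, -⟩ := PBC.isFinLocFree_and_isIso_bc0 π hF hfl ⊤
    fun s _ => Or.inr (HilbSnap.subsingleton_fiberH_of_rank π hF 1 s (hvan s))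
  obtain ⟨hfp, hflat⟩ := finitePresentation_and_flat_sections π (QCoh.isQCoh_of_isFP hF)
    (PBC.isFinLocFree_of_restrict_top hlf)
  letI := QCoh.secModule (Coh.toGlobal π) F (⊤ : X.Opens)
  haveI := hfp; haveI := hflat
  haveI : Module.Projective B Γ(F, (⊤ : X.Opens)) := Module.Flat.projective_of_finitePresentation
  obtain ⟨l, p, hp⟩ := Module.Finite.exists_fin' B Γ(F, (⊤ : X.Opens))
  obtain ⟨i, hi⟩ := Module.projective_lifting_property p LinearMap.id hp
  let e : Fin N → Γ(F, (⊤ : X.Opens)) := fun j =>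
    InvX.one (Sigma.ι (fun _ : Fin N => Coh.structureModule X) j ≫ w)
  refine ⟨Ideal.span (Set.range fun jk : Fin N × Fin l => i (e jk.1) jk.2), Submodule.fg_span (Set.finite_range _),
    fun C _ φ X' g π' h => ?_⟩
  haveI : IsProper π' := MorphismProperty.of_isPullback h inferInstance
  letI : X.Over (Spec (CommRingCat.of B)) := ⟨π⟩
  letI : X'.Over (Spec (CommRingCat.of C)) := ⟨π'⟩
  letI := φ.toAlgebra
  letI := QCoh.secModule (Coh.toGlobal π') ((Scheme.Modules.pullback g).obj F) (⊤ : X'.Opens)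
  have hb : Function.Bijective (PBC.sectionsBC φ g h (F := F)) := secBij_of_flatOver h hF hfl hvan
  rw [pullback_map_free_eq_zero_iff, Ideal.span_le, Set.range_subset_iff]
  have h1 : ∀ j, QCoh.pullSec g F (le_top : (⊤ : X'.Opens) ≤ g ⁻¹ᵁ ⊤) (e j) = 0 ↔
      ((1 : C) ⊗ₜ[B] e j : C ⊗[B] Γ(F, (⊤ : X.Opens))) = 0 := fun j => by
    rw [← sectionsBC_one_tmul φ g h F (e j)]
    exact map_eq_zero_iff _ hb.1
  have hinj : Function.Injective (i.baseChange C) :=
    Function.LeftInverse.injective (g := p.baseChange C) fun z => by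
      rw [← LinearMap.comp_apply, ← LinearMap.baseChange_comp, hi, LinearMap.baseChange_id]; rfl
  have h2 : ∀ j, ((1 : C) ⊗ₜ[B] e j : C ⊗[B] Γ(F, (⊤ : X.Opens))) = 0 ↔ ∀ k, φ (i (e j) k) = 0 := fun j => by
    rw [← map_eq_zero_iff _ hinj, LinearMap.baseChange_tmul, ← (TensorProduct.piScalarRight B C C (Fin l)).map_eq_zero_iff,
      TensorProduct.piScalarRight_apply, funext_iff]
    refine forall_congr' fun k => ?_
    rw [TensorProduct.piScalarRightHom_tmul]
    exact Iff.of_eq (congrArg (· = 0) (show i (e j) k • (1 : C) = φ (i (e j) k) by rw [Algebra.smul_def, mul_one]; rfl))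
  simp only [Prod.forall, SetLike.mem_coe, RingHom.mem_ker]
  exact forall_congr' fun j => (h1 j).trans (h2 j)

/-- The vanishing of a map after an affine base change is cut out by an ideal. -/
theorem exists_ideal_twisted (π : X ⟶ Spec (CommRingCat.of B)) [IsProper π] [LocallyOfFinitePresentation π]
    (hF : CohB1.IsFP F) (hfl : FlatMod.IsFlatOver π F) {Q : X.Modules} (hQ : PicF.IsInvertible Q)
    (hvan : ∀ y, CohIII.fiberRank π (CohB1.tensorMod F Q) 1 y = 0) {N : ℕ}
    (p : FlatMod.freeMod X N ⟶ CohB1.tensorMod E Q) [Epi p] (u : E ⟶ F) :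
    ∃ J : Ideal B, J.FG ∧ ∀ (C : Type u) [CommRing C] (φ : B →+* C) (X' : Scheme.{u}) (g : X' ⟶ X)
      (π' : X' ⟶ Spec (CommRingCat.of C)) (_ : IsPullback g π' π (Spec.map (CommRingCat.ofHom φ))),
      (Scheme.Modules.pullback g).map u = 0 ↔ J ≤ RingHom.ker φ := by
  obtain ⟨J, hJ, hJ'⟩ := exists_ideal_free π (F := CohB1.tensorMod F Q) (HilbSnap.isFP_tensor_invertible hF hQ)
    (TwistFlat.isFlatOver_tensor π hQ hfl) hvan (p ≫ (AmpleVan.tw Q).map u)
  refine ⟨J, hJ, fun C _ φ X' g π' h => (Iff.trans ?_ (hJ' C φ X' g π' h))⟩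
  have hQ' : PicF.IsInvertible ((Scheme.Modules.pullback g).obj Q) := PicClLib.isInvertible_pullback g hQ
  haveI := AmpleVan.isEquivalence_tw hQ'
  haveI := (Scheme.Modules.pullbackPushforwardAdjunction g).isLeftAdjoint
  have hn := (twPullIso g Q).hom.naturality u
  simp only [Functor.comp_map] at hn
  have he : Epi ((Scheme.Modules.pullback g).map p) := inferInstance
  constructor
  · intro hz
    haveI : Functor.PreservesZeroMorphisms (AmpleVan.tw ((Scheme.Modules.pullback g).obj Q)) := inferInstance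
    have h0 : (Scheme.Modules.pullback g).map ((AmpleVan.tw Q).map u) = 0 := by
      rw [← cancel_mono ((twPullIso g Q).hom.app F), hn, hz, Functor.map_zero, comp_zero, zero_comp]
    rw [Functor.map_comp, h0, comp_zero]
  · intro hz
    rw [Functor.map_comp] at hz
    have h0 : (Scheme.Modules.pullback g).map ((AmpleVan.tw Q).map u) = 0 := by
      rw [← cancel_epi ((Scheme.Modules.pullback g).map p), hz, comp_zero]
    refine (AmpleVan.tw ((Scheme.Modules.pullback g).obj Q)).map_injective ?_
    rw [Functor.map_zero, ← cancel_epi ((twPullIso g Q).hom.app E), ← hn, h0, zero_comp, comp_zero]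

variable {f : X ⟶ T}

/-- The zero locus of a map into a flat module is a closed subscheme. -/
theorem exists_zeroLocus [IsProper f] [LocallyOfFinitePresentation f] (hF : CohB1.IsFP F)
    (hfl : FlatMod.IsFlatOver f F) (u : E ⟶ F)
    (hloc : ∀ t : T, ∃ (V : T.Opens) (hV : IsAffineOpen V) (Q : (f ⁻¹ᵁ V : Scheme.{u}).Modules) (N : ℕ)
      (p : FlatMod.freeMod (f ⁻¹ᵁ V : Scheme.{u}) N ⟶
        CohB1.tensorMod ((Scheme.Modules.pullback (f ⁻¹ᵁ V).ι).obj E) Q),
      t ∈ V ∧ PicF.IsInvertible Q ∧ Epi p ∧ ∀ y, CohIII.fiberRank (QCoh.overSpec f hV)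
        (CohB1.tensorMod ((Scheme.Modules.pullback (f ⁻¹ᵁ V).ι).obj F) Q) 1 y = 0) :
    ∃ (Z : Scheme.{u}) (c : Z ⟶ T), IsClosedImmersion c ∧ LocallyOfFinitePresentation c ∧
      ∀ ⦃U : Scheme.{u}⦄ (g : U ⟶ T), (∃ h : U ⟶ Z, h ≫ c = g) ↔
        (Scheme.Modules.pullback (pullback.fst f g)).map u = 0 := by
  let P : ∀ ⦃U : Scheme.{u}⦄, (U ⟶ T) → Prop := fun U g =>
    (Scheme.Modules.pullback (pullback.fst f g)).map u = 0
  have hmap : ∀ ⦃U U' : Scheme.{u}⦄ (g : U ⟶ T) (h : U' ⟶ U),
      pullback.map f (h ≫ g) f g (𝟙 X) h (𝟙 T) (by simp) (by simp) ≫ pullback.fst f g = pullback.fst f (h ≫ g) :=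
    fun U U' g h => (pullback.lift_fst _ _ _).trans (Category.comp_id _)
  have hcomp : ∀ ⦃U U' : Scheme.{u}⦄ (g : U ⟶ T) (h : U' ⟶ U), P g → P (h ≫ g) := fun U U' g h hg => by
    show (Scheme.Modules.pullback (pullback.fst f (h ≫ g))).map u = 0
    rw [← hmap g h]
    exact pullback_map_eq_zero_comp _ _ u hg
  have hlocal : ∀ ⦃U : Scheme.{u}⦄ (g : U ⟶ T), (∀ t : U, ∃ (U' : Scheme.{u}) (j : U' ⟶ U),
      IsOpenImmersion j ∧ t ∈ Set.range j.base ∧ P (j ≫ g)) → P g := fun U g hg => by
    refine eq_zero_of_restrict _ fun y => ?_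
    obtain ⟨U', j, hj, ht, hP⟩ := hg (pullback.snd f g y)
    haveI := hj
    let m := pullback.map f (j ≫ g) f g (𝟙 X) j (𝟙 T) (by simp) (by simp)
    have hsq : IsPullback m (pullback.snd f (j ≫ g)) (pullback.snd f g) j := by
      refine IsPullback.of_right ?_ (pullback.lift_snd _ _ _) (IsPullback.of_hasPullback f g)
      rw [hmap g j]
      exact IsPullback.of_hasPullback _ _
    haveI : IsOpenImmersion m := MorphismProperty.of_isPullback hsq.flip hj
    let W := pullback.snd f g ⁻¹ᵁ j.opensRange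
    have hfac : Set.range (W.ι ≫ pullback.snd f g).base ⊆ Set.range j.base := by
      rintro _ ⟨z, rfl⟩
      exact z.2
    refine ⟨W, ht, ?_⟩
    have h0 : (Scheme.Modules.pullback m).map ((Scheme.Modules.pullback (pullback.fst f g)).map u) = 0 := by
        rw [← cancel_mono ((Scheme.Modules.pullbackComp m (pullback.fst f g)).hom.app F), ← Functor.comp_map,
          (Scheme.Modules.pullbackComp m (pullback.fst f g)).hom.naturality u, zero_comp]
        have h1 : (Scheme.Modules.pullback (m ≫ pullback.fst f g)).map u = 0 := by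
          rw [hmap g j]; exact hP
        rw [h1, comp_zero]
    have hl : hsq.lift W.ι (IsOpenImmersion.lift j (W.ι ≫ pullback.snd f g) hfac)
        (IsOpenImmersion.lift_fac j _ hfac).symm ≫ m = W.ι := hsq.lift_fst _ _ _
    rw [← hl]
    exact pullback_map_eq_zero_comp _ m _ h0
  obtain ⟨I, hI, huniv⟩ := exists_ideal_sheaf (P := P) hcomp hlocal fun t => by
    obtain ⟨V, hV, Q, N, p, htV, hQ, hp, hvan⟩ := hloc t
    have hpb := QCoh.isPullback_overSpec (f := f) hV
    haveI : IsProper (QCoh.overSpec f hV) := MorphismProperty.of_isPullback hpb inferInstance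
    haveI : LocallyOfFinitePresentation (QCoh.overSpec f hV) := MorphismProperty.of_isPullback hpb inferInstance
    let ι := (f ⁻¹ᵁ V).ι
    obtain ⟨J, hJ, hJ'⟩ := exists_ideal_twisted (QCoh.overSpec f hV) (ModStLib.isFP_pullback ι hF)
      ((isFlatOver_iff_of_isPullback hpb F).2 (fun x => MorLib.FlatBC.isFlatOverAt_baseChange f
        (pullback.snd f hV.fromSpec) (pullback.fst f hV.fromSpec) hV.fromSpec
        (IsPullback.of_hasPullback _ _) F x (hfl _)))
      hQ hvan p ((Scheme.Modules.pullback ι).map u)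
    refine ⟨⟨V, hV⟩, htV, J, hJ, fun C _ φ => ?_⟩
    let a := Spec.map (CommRingCat.ofHom φ)
    let g := pullback.fst (QCoh.overSpec f hV) a
    have hsq : IsPullback g (pullback.snd (QCoh.overSpec f hV) a) (QCoh.overSpec f hV) a :=
      IsPullback.of_hasPullback _ _
    rw [← hJ' C φ _ g _ hsq]
    let e := (hsq.paste_horiz hpb).isoPullback
    refine Iff.trans (pullback_map_eq_zero_iff_of_iso e.symm (a := pullback.fst f (a ≫ hV.fromSpec))
      (b := g ≫ ι) (IsPullback.isoPullback_inv_fst _) u) ?_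
    constructor
    · intro hz
      rw [← cancel_mono ((Scheme.Modules.pullbackComp g ι).hom.app F), ← Functor.comp_map,
        (Scheme.Modules.pullbackComp g ι).hom.naturality u, hz, comp_zero, zero_comp]
    · intro hz
      rw [← cancel_epi ((Scheme.Modules.pullbackComp g ι).hom.app E),
        ← (Scheme.Modules.pullbackComp g ι).hom.naturality u, Functor.comp_map, hz, zero_comp, comp_zero]
  refine ⟨I.subscheme, I.subschemeι, inferInstance, MorLib.IdealFG.lfp_subschemeι hI, fun U g => huniv g⟩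

end Groth.Agent.QuotRep

end
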