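import Groth.Agent.QuotRep.GrassQuot
import Groth.Agent.GrassRep.Rep
import Groth.Agent.GrPlucker.Embedding
import Groth.Agent.QuotRep.ZeroLocus
import Groth.Agent.KRRReg.LamPull

/-!
# The universal property of a Grassmannian
-/

set_option autoImplicit false
set_option linter.style.haveILetI false
set_option linter.unusedSectionVars false
set_option backward.isDefEq.respectTransparency false
set_option backward.isDefEq.respectTransparency.types false
set_option maxHeartbeats 1000000
set_option synthInstance.maxHeartbeats 400000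

universe u

open CategoryTheory CategoryTheory.Limits AlgebraicGeometry TopologicalSpace Opposite

attribute [-instance] CategoryTheory.catToReflQuiver

noncomputable section

namespace Groth.Agent.QuotRep

open Groth.Agent

variable {T T' T'' : Scheme.{u}} {L : T.Modules} {N n : ℕ}

theorem pullTop_comp (g' : T'' ⟶ T') (g : T' ⟶ T) (x : Γ(L, (⊤ : T.Opens))) :
    ((Scheme.Modules.pullbackComp g' g).hom.app L).app ⊤ (pullTop g' _ (pullTop g L x)) = pullTop (g' ≫ g) L x :=
  ExistEasy.pullSec_comp g' g L le_top le_top _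

theorem isIso_pullTop_comp (g' : T'' ⟶ T') (g : T' ⟶ T) (v : Fin N → Γ(L, (⊤ : T.Opens)))
    [IsIso (secHom fun j => pullTop g L (v j))] : IsIso (secHom fun j => pullTop (g' ≫ g) L (v j)) := by
  haveI := isIso_pullSec g' fun j => pullTop g L (v j)
  rw [show (fun j => pullTop (g' ≫ g) L (v j)) = fun j =>
      ((Scheme.Modules.pullbackComp g' g).hom.app L).app ⊤ (pullTop g' _ (pullTop g L (v j))) from
      funext fun j => (pullTop_comp g' g _).symm, ← secHom_comp]
  infer_instance

/-- Generating sections of a locally free module contain a frame near each point. -/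
theorem exists_frame_nhd (hL : FlatMod.IsFinLocFreeOfRank n L) (v : Fin N → Γ(L, (⊤ : T.Opens))) [Epi (secHom v)]
    (t : T) : ∃ (I : Fin n → Fin N) (U : T.Opens), t ∈ U ∧ IsIso (secHom fun r => pullTop U.ι L (v (I r))) := by
  classical
  obtain ⟨U₀, ht, ⟨ε⟩⟩ := hL t
  let ε' := (Scheme.Modules.restrictFunctorIsoPullback U₀.ι).symm.app L ≪≫ ε
  let e₀ : Fin n → Γ((Scheme.Modules.pullback U₀.ι).obj L, (⊤ : U₀.toScheme.Opens)) :=
    fun r => ε'.inv.app ⊤ (basis _ n r)
  haveI : IsIso (secHom e₀) := by rw [← eq_secHom ε'.inv]; infer_instance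
  obtain ⟨V, hV, htV, -⟩ := exists_isAffineOpen_mem_and_subset (x := (⟨t, ht⟩ : U₀.toScheme))
    (U := (⊤ : U₀.toScheme.Opens)) trivial
  haveI : IsAffine V.toScheme := hV
  let g : V.toScheme ⟶ T := V.ι ≫ U₀.ι
  let κ := (Scheme.Modules.pullbackComp V.ι U₀.ι).hom.app L
  let e : Fin n → Γ((Scheme.Modules.pullback g).obj L, (⊤ : V.toScheme.Opens)) :=
    fun r => κ.app ⊤ (pullTop V.ι _ (e₀ r))
  haveI : IsIso (secHom e) := by
    haveI := isIso_pullSec V.ι e₀
    have h : IsIso (secHom (fun r => pullTop V.ι _ (e₀ r)) ≫ κ) := inferInstance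
    exact secHom_comp (fun r => pullTop V.ι _ (e₀ r)) κ ▸ h
  let v' : Fin N → Γ((Scheme.Modules.pullback g).obj L, (⊤ : V.toScheme.Opens)) := fun l => pullTop g L (v l)
  haveI : Epi (secHom v') := epi_pullSec g v
  have hqc : Coh.IsQCoh ((Scheme.Modules.pullback g).obj L) := QCoh.isQCoh_of_isFinLocFree fun y =>
    let ⟨W, hy, hW⟩ := KRRReg.isFinLocFreeOfRank_pullback g hL y; ⟨W, n, hy, hW⟩
  choose A hA using fun r => exists_comb_of_epi hqc v' (e r)
  choose C hC hC' using fun l => existsUnique_coord e (v' l)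
  let P : Matrix (Fin n) (Fin N) Γ(V.toScheme, ⊤) := fun r l => C l r
  let Am : Matrix (Fin N) (Fin n) Γ(V.toScheme, ⊤) := fun l r => A r l
  have hPA : P * Am = 1 := Matrix.ext fun s r => by
    have h : comb e (fun s => (P * Am) s r) = comb e fun s => (1 : Matrix (Fin n) (Fin n) _) s r := by
      rw [comb_basis, ← hA r, show comb v' (A r) = comb (fun l => comb e (C l)) (A r) from
        congrArg (comb · (A r)) (funext fun l => (hC l).symm), comb_comb]
      exact congrArg (comb e) (funext fun s => Matrix.mul_apply.trans (Finset.sum_congr rfl fun l _ => mul_comm _ _))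
    exact congrFun (comb_injective e h) s
  let x : V.toScheme := ⟨⟨t, ht⟩, htV⟩
  let γ := (V.toScheme.presheaf.germ (⊤ : V.toScheme.Opens) x trivial).hom
  obtain ⟨I, hI⟩ := exists_minor P Am hPA ((IsLocalRing.maximalIdeal _).comap γ)
    (Ideal.comap_ne_top γ (IsLocalRing.maximalIdeal.isMaximal _).ne_top)
  let d := (P.submatrix id I).det
  let W := V.toScheme.basicOpen d
  have hxW : x ∈ W := (Scheme.mem_basicOpen V.toScheme d x trivial).2
    (not_not.1 fun h => hI ((IsLocalRing.mem_maximalIdeal _).2 h))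
  let g' : W.toScheme ⟶ T := W.ι ≫ g
  have hframe : IsIso (secHom fun r => pullTop g' L (v (I r))) := by
    haveI : IsIso (secHom fun r => v' (I r)) → IsIso (secHom fun r => pullTop g' L (v (I r))) := fun h =>
      haveI : IsIso (secHom fun r => pullTop g L (v (I r))) := h
      isIso_pullTop_comp W.ι g fun r => v (I r)
    haveI := isIso_pullSec W.ι e
    have hd : IsUnit (W.ι.appTop d) := by
      refine RingedSpace.isUnit_of_isUnit_germ _ _ _ fun y hy => ?_
      exact (Scheme.mem_basicOpen _ _ _ hy).1 ((Scheme.preimage_basicOpen_top W.ι d).le y.2)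
    haveI : IsIso (secHom fun r => pullTop W.ι _ (v' (I r))) := by
      refine isIso_secHom_of_matrix (fun r => pullTop W.ι _ (e r)) _ ((P.submatrix id I).map W.ι.appTop.hom) ?_ fun j => ?_
      · rw [← RingHom.mapMatrix_apply, ← RingHom.map_det]
        exact hd
      · rw [← hC (I j), pullSec_comb]
        rfl
    rw [show (fun r => pullTop g' L (v (I r))) = fun r =>
      ((Scheme.Modules.pullbackComp W.ι g).hom.app L).app ⊤ (pullTop W.ι _ (v' (I r))) from
        funext fun r => (pullTop_comp W.ι g _).symm, ← secHom_comp]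
    infer_instance
  haveI : IsOpenImmersion g' := inferInstanceAs (IsOpenImmersion (W.ι ≫ V.ι ≫ U₀.ι))
  refine ⟨I, g'.opensRange, ⟨⟨x, hxW⟩, rfl⟩, ?_⟩
  have h := isIso_pullTop_comp g'.isoOpensRange.inv g' fun r => v (I r)
  rwa [Scheme.Hom.isoOpensRange_inv_comp] at h

namespace Gr

open GrPlucker

variable {k : Type u} [CommRing k] {M : Type u} [AddCommGroup M] [Module k M]
  (b : Module.Basis (Fin N) k M) (D : GrPlucker.Rep k M n)

/-- The map classifies the quotient with the given generating sections. -/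
def Cls (h : T ⟶ D.X.left) (v : Fin N → Γ(L, (⊤ : T.Opens))) : Prop :=
  ∃ φ : (Scheme.Modules.pullback h).obj (Q b D) ⟶ L, ∀ l, φ.app ⊤ (pullTop h (Q b D) (sig b D l)) = v l

variable {b D}

theorem Cls.pull {h : T ⟶ D.X.left} {v : Fin N → Γ(L, (⊤ : T.Opens))} (hc : Cls b D h v) (g : T' ⟶ T) :
    Cls b D (g ≫ h) fun l => pullTop g L (v l) := by
  obtain ⟨φ, hφ⟩ := hc
  refine ⟨(Scheme.Modules.pullbackComp g h).inv.app (Q b D) ≫ (Scheme.Modules.pullback g).map φ, fun l => ?_⟩
  rw [← pullTop_comp]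
  show ((Scheme.Modules.pullback g).map φ).app ⊤ (((Scheme.Modules.pullbackComp g h).inv.app _).app ⊤
    (((Scheme.Modules.pullbackComp g h).hom.app _).app ⊤ _)) = _
  refine (congrArg (((Scheme.Modules.pullback g).map φ).app ⊤) (congrArg (fun f => Scheme.Modules.Hom.app f ⊤
    (pullTop g _ (pullTop h (Q b D) (sig b D l)))) ((Scheme.Modules.pullbackComp g h).hom_inv_id_app (Q b D)))).trans ?_
  exact (ExistEasy.pullSec_natural g φ le_top _).trans (congrArg (pullTop g L) (hφ l))

theorem Cls.map {h : T ⟶ D.X.left} {v : Fin N → Γ(L, (⊤ : T.Opens))} (hc : Cls b D h v) {L' : T.Modules}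
    (ψ : L ⟶ L') : Cls b D h fun l => ψ.app ⊤ (v l) := by
  obtain ⟨φ, hφ⟩ := hc
  exact ⟨φ ≫ ψ, fun l => congrArg (ψ.app ⊤) (hφ l)⟩

theorem Cls.pull₂ {g : T' ⟶ T} {h : T' ⟶ D.X.left} {v : Fin N → Γ(L, (⊤ : T.Opens))}
    (hc : Cls b D h fun l => pullTop g L (v l)) (g' : T'' ⟶ T') :
    Cls b D (g' ≫ h) fun l => pullTop (g' ≫ g) L (v l) := by
  have := (hc.pull g').map ((Scheme.Modules.pullbackComp g' g).hom.app L)
  exact (funext fun l => pullTop_comp (L := L) g' g (v l)) ▸ this

theorem Cls.congr {g g' : T' ⟶ T} {h : T' ⟶ D.X.left} {v : Fin N → Γ(L, (⊤ : T.Opens))} (e : g = g')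
    (hc : Cls b D h fun l => pullTop g L (v l)) : Cls b D h fun l => pullTop g' L (v l) := by
  subst e; exact hc

theorem Cls.exists_iso {h : T ⟶ D.X.left} {v : Fin N → Γ(L, (⊤ : T.Opens))} (hc : Cls b D h v)
    (hL : FlatMod.IsFinLocFreeOfRank n L) [Epi (secHom v)] :
    ∃ φ : (Scheme.Modules.pullback h).obj (Q b D) ⟶ L, IsIso φ ∧
      ∀ l, φ.app ⊤ (pullTop h (Q b D) (sig b D l)) = v l := by
  obtain ⟨φ, hφ⟩ := hc
  haveI : Epi φ := by
    haveI : Epi ((secHom fun l => pullTop h (Q b D) (sig b D l)) ≫ φ) := by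
      rw [secHom_comp, show (fun l => φ.app ⊤ (pullTop h (Q b D) (sig b D l))) = v from funext hφ]
      infer_instance
    exact epi_of_epi (secHom fun l => pullTop h (Q b D) (sig b D l)) φ
  exact ⟨φ, isIso_of_epi_rank (KRRReg.isFinLocFreeOfRank_pullback h isFinLocFreeOfRank_Q) hL φ, hφ⟩

theorem Cls.coords {h : T ⟶ D.X.left} {v : Fin N → Γ(L, (⊤ : T.Opens))} (hc : Cls b D h v)
    (hL : FlatMod.IsFinLocFreeOfRank n L) [Epi (secHom v)] {I : Fin n → Fin N} (a : T ⟶ Y k I)
    (ha : a ≫ σ D I b = h) :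
    IsIso (secHom fun r => v (I r)) ∧ ∀ l, v l = comb (fun r => v (I r)) fun r => mat a r l := by
  obtain ⟨φ, hφi, hφ⟩ := hc.exists_iso hL
  obtain ⟨h1, h2⟩ := frame_of_map a ha
  have e : (fun r => v (I r)) = fun r => φ.app ⊤ (pullTop h (Q b D) (sig b D (I r))) := funext fun r => (hφ _).symm
  refine ⟨?_, fun l => ?_⟩
  · rw [e, ← secHom_comp]
    infer_instance
  · rw [← hφ, h2 l, app_comb, e]

theorem cls_of_coords {v : Fin N → Γ(L, (⊤ : T.Opens))} {I : Fin n → Fin N} (a : T ⟶ Y k I)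
    [IsIso (secHom fun r => v (I r))] (hv : ∀ l, v l = comb (fun r => v (I r)) fun r => mat a r l) :
    Cls b D (a ≫ σ D I b) v := by
  obtain ⟨h1, h2⟩ := frame_of_map (b := b) (D := D) a rfl
  let w : Fin n → Γ((Scheme.Modules.pullback (a ≫ σ D I b)).obj (Q b D), (⊤ : T.Opens)) :=
    fun r => pullTop (a ≫ σ D I b) (Q b D) (sig b D (I r))
  haveI : IsIso (secHom w) := h1
  refine ⟨inv (secHom w) ≫ secHom fun r => v (I r), fun l => ?_⟩
  rw [h2 l, app_comb]
  refine Eq.trans ?_ (hv l).symm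
  refine congrArg (comb · fun r => mat a r l) (funext fun r => ?_)
  have e : secHom w ≫ inv (secHom w) ≫ (secHom fun r => v (I r)) = secHom fun r => v (I r) := by simp
  rw [secHom_comp] at e
  exact congrFun (secHom_injective e) r

/-- A classifying map over the base is unique. -/
theorem cls_unique (hL : FlatMod.IsFinLocFreeOfRank n L) (v : Fin N → Γ(L, (⊤ : T.Opens))) [Epi (secHom v)]
    {h h' : T ⟶ D.X.left} (hh : h ≫ D.X.hom = h' ≫ D.X.hom) (hc : Cls b D h v) (hc' : Cls b D h' v) : h = h' := by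
  choose I U₁ h1 a₁ ha₁ using fun t => exists_chart_nhd (b := b) (D := D) h t
  choose J U₂ h2 a₂ ha₂ using fun t => exists_chart_nhd (b := b) (D := D) h' t
  let W : T → T.Opens := fun t => U₁ t ⊓ U₂ t
  refine (T.openCoverOfIsOpenCover W (eq_top_iff.2 fun t _ => Opens.mem_iSup.2 ⟨t, h1 t, h2 t⟩)).hom_ext
    _ _ fun t => ?_
  show (W t).ι ≫ h = (W t).ι ≫ h'
  let a := T.homOfLE (inf_le_left : W t ≤ U₁ t) ≫ a₁ t
  let a' := T.homOfLE (inf_le_right : W t ≤ U₂ t) ≫ a₂ t
  have ha : a ≫ σ D (I t) b = (W t).ι ≫ h := by rw [Category.assoc, ha₁, ← Category.assoc, Scheme.homOfLE_ι]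
  have ha' : a' ≫ σ D (J t) b = (W t).ι ≫ h' := by rw [Category.assoc, ha₂, ← Category.assoc, Scheme.homOfLE_ι]
  let v' := fun l => pullTop (W t).ι L (v l)
  haveI : Epi (secHom v') := epi_pullSec _ v
  have hL' := KRRReg.isFinLocFreeOfRank_pullback (W t).ι hL
  obtain ⟨f1, c1⟩ := (hc.pull (W t).ι).coords hL' a ha
  obtain ⟨f2, c2⟩ := (hc'.pull (W t).ι).coords hL' a' ha'
  rw [← ha, ← ha']
  have key : ∀ {I J : Fin n → Fin N} (a : (W t).toScheme ⟶ Y k I) (a' : (W t).toScheme ⟶ Y k J),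
      IsIso (secHom fun r => v' (I r)) → (∀ l, v' l = comb (fun r => v' (I r)) fun r => mat a r l) →
      (∀ l, v' l = comb (fun r => v' (J r)) fun r => mat a' r l) → mat a = (mat a).submatrix id J * mat a' := by
    intro I J a a' hI c c'
    refine Matrix.ext fun r l => congrFun (comb_injective (fun r => v' (I r)) (a := fun r => mat a r l)
      (b := fun r => ((mat a).submatrix id J * mat a') r l) ((c l).symm.trans ?_)) r
    rw [c' l, show (fun s => v' (J s)) = fun s => comb (fun r => v' (I r)) fun r => mat a r (J s) from funext fun s => c (J s),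
      comb_comb]
    refine congrArg (comb _) (funext fun r => ?_)
    rw [Matrix.mul_apply]
    exact Finset.sum_congr rfl fun s _ => mul_comm _ _
  refine comp_σ_eq b D a a' ?_ _ _ (key a a' f1 c1 c2) (key a' a f2 c2 c1)
  rw [show str k (I t) = _ from (σ_hom D (I t) b).symm, show str k (J t) = _ from (σ_hom D (J t) b).symm,
    ← Category.assoc, ← Category.assoc, ha, ha', Category.assoc, Category.assoc, hh]

/-- Existence near a point. -/
theorem exists_cls_nhd (hL : FlatMod.IsFinLocFreeOfRank n L) (v : Fin N → Γ(L, (⊤ : T.Opens))) [Epi (secHom v)]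
    (s : T ⟶ Spec (CommRingCat.of k)) (t : T) : ∃ (U : T.Opens) (h : U.toScheme ⟶ D.X.left),
      t ∈ U ∧ h ≫ D.X.hom = U.ι ≫ s ∧ Cls b D h fun l => pullTop U.ι L (v l) := by
  obtain ⟨I, U, ht, hI⟩ := exists_frame_nhd hL v t
  let v' := fun l => pullTop U.ι L (v l)
  haveI : IsIso (secHom fun r => v' (I r)) := hI
  choose C hC hC' using fun l => existsUnique_coord (fun r => v' (I r)) (v' l)
  obtain ⟨a, has, ha⟩ := exists_map (k := k) (U.ι ≫ s) (I := I) (fun r l => C l r) (Matrix.ext fun r s =>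
    congrFun (comb_injective (fun r => v' (I r)) ((hC (I s)).trans (comb_basis (fun r => v' (I r)) s).symm)) r)
  refine ⟨U, a ≫ σ D I b, ht, by rw [Category.assoc, σ_hom]; exact has, cls_of_coords a fun l => ?_⟩
  rw [ha]
  exact (hC l).symm

/-- A classifying map exists. -/
theorem existsUnique_cls (hL : FlatMod.IsFinLocFreeOfRank n L) (v : Fin N → Γ(L, (⊤ : T.Opens))) [Epi (secHom v)]
    (s : T ⟶ Spec (CommRingCat.of k)) : ∃! h : T ⟶ D.X.left, h ≫ D.X.hom = s ∧ Cls b D h v := by
  choose U hl ht hs hcl using exists_cls_nhd (b := b) (D := D) hL v s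
  have hU : IsOpenCover U := eq_top_iff.2 fun t _ => Opens.mem_iSup.2 ⟨t, ht t⟩
  let 𝒰 := T.openCoverOfIsOpenCover U hU
  let h := 𝒰.glueMorphisms hl fun i j => by
    show pullback.fst (U i).ι (U j).ι ≫ hl i = pullback.snd (U i).ι (U j).ι ≫ hl j
    haveI := epi_pullSec (pullback.fst (U i).ι (U j).ι ≫ (U i).ι) v
    refine cls_unique (KRRReg.isFinLocFreeOfRank_pullback (pullback.fst (U i).ι (U j).ι ≫ (U i).ι) hL) _ ?_
      ((hcl i).pull₂ _) (((hcl j).pull₂ _).congr pullback.condition.symm)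
    rw [Category.assoc, hs, Category.assoc, hs, ← Category.assoc, pullback.condition, Category.assoc]
  have hh : ∀ i, (U i).ι ≫ h = hl i := fun i => Scheme.Cover.ι_glueMorphisms 𝒰 _ _ i
  have hhs : h ≫ D.X.hom = s := 𝒰.hom_ext _ _ fun i => by
    show (U i).ι ≫ h ≫ D.X.hom = (U i).ι ≫ s
    rw [← Category.assoc, hh, hs]
  have hc : Cls b D h v := by
    let σ' := fun l => pullTop h (Q b D) (sig b D l)
    haveI : Epi (secHom σ') := epi_pullSec h _
    have h0 : kernel.ι (secHom σ') ≫ secHom v = 0 := by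
      refine eq_zero_of_restrict _ fun y => ⟨U y, ht y, ?_⟩
      obtain ⟨φ, hφ⟩ := hcl y
      let g := (U y).ι
      let ψ := (Scheme.Modules.pullbackComp g h).hom.app (Q b D) ≫
        (Scheme.Modules.pullbackCongr (hh y)).hom.app (Q b D) ≫ φ
      have e : (Scheme.Modules.pullback g).map (secHom σ') ≫ ψ = (Scheme.Modules.pullback g).map (secHom v) := by
        rw [← cancel_epi (KFlatLib.pullFreeIso g N).inv, ← Category.assoc, secHom_pullSec, secHom_pullSec,
          secHom_comp]
        refine congrArg secHom (funext fun l => ?_)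
        show φ.app ⊤ (((Scheme.Modules.pullbackCongr (hh y)).hom.app (Q b D)).app ⊤
          (((Scheme.Modules.pullbackComp g h).hom.app (Q b D)).app ⊤ (pullTop g _ (σ' l)))) = _
        rw [pullTop_comp]
        exact (congrArg (φ.app ⊤) (ExistEasy.pullSec_congr (hh y) (Q b D) le_top _)).trans (hφ l)
      rw [Functor.map_comp, ← e, ← Category.assoc, ← Functor.map_comp, kernel.condition, Functor.map_zero, zero_comp]
    refine ⟨Abelian.epiDesc (secHom σ') (secHom v) h0, fun l => ?_⟩
    have e := Abelian.comp_epiDesc (secHom σ') (secHom v) h0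
    rw [secHom_comp] at e
    exact congrFun (secHom_injective e) l
  exact ⟨h, ⟨hhs, hc⟩, fun h' ⟨hs', hc'⟩ => cls_unique hL v (hs'.trans hhs.symm) hc' hc⟩

end Gr

/-- The Grassmannian of quotients of a free module over an affine base, embedded in a projective space. -/
theorem exists_grassmannian (k : CommRingCat.{u}) (N n : ℕ) (hn : n ≤ N) :
    ∃ (G : Scheme.{u}) (p : G ⟶ Spec k) (Q : G.Modules) (σ : Fin N → Γ(Q, (⊤ : G.Opens))),
      FlatMod.IsFinLocFreeOfRank n Q ∧ Epi (secHom σ) ∧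
      (∀ (T : Scheme.{u}) (s : T ⟶ Spec k) (L : T.Modules), FlatMod.IsFinLocFreeOfRank n L →
        ∀ v : Fin N → Γ(L, (⊤ : T.Opens)), Epi (secHom v) → ∃! h : T ⟶ G, h ≫ p = s ∧
          ∃ φ : (Scheme.Modules.pullback h).obj Q ⟶ L, ∀ l, φ.app ⊤ (pullTop h Q (σ l)) = v l) ∧
      ∃ (m : ℕ) (c : G ⟶ CohB1.ProjSpaceOver m (Spec k)),
        IsClosedImmersion c ∧ c ≫ CohB1.ProjSpaceOver.toBase m (Spec k) = p := by
  obtain ⟨X, e, he⟩ := GrassRep.exists_grass (R := k) (M := Fin N → k) n
  let D : GrPlucker.Rep (k : Type u) (Fin N → k) n := ⟨X, e, he⟩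
  let b := Pi.basisFun k (Fin N)
  obtain ⟨c, hc, hc'⟩ := GrPlucker.exists_closedImmersion b D hn
  exact ⟨D.X.left, D.X.hom, Gr.Q b D, Gr.sig b D, Gr.isFinLocFreeOfRank_Q, Gr.epi_secHom_sig b D,
    fun T s L hL v hv => by haveI := hv; exact Gr.existsUnique_cls (b := b) (D := D) hL v s, _, c, hc, hc'⟩

end Groth.Agent.QuotRep

end
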