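import Groth.Agent.QuotRep.CoreFibre
import Groth.Agent.AVEuler.FibreRank
import Groth.Agent.LimMod.Crit
import Groth.Agent.QCoh.GodHH

/-!
# Families over a field
-/

set_option autoImplicit false
set_option linter.style.haveILetI false
set_option linter.unusedSectionVars false
set_option backward.isDefEq.respectTransparency false
set_option backward.isDefEq.respectTransparency.types false
set_option maxHeartbeats 1000000
set_option synthInstance.maxHeartbeats 400000

universe u

open CategoryTheory CategoryTheory.Limits AlgebraicGeometry TopologicalSpace Opposite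

attribute [-instance] CategoryTheory.catToReflQuiver

noncomputable section

namespace Groth.Agent.QuotRep

open Groth.Agent

variable {K : Type u} [Field K] {P : Scheme.{u}} (b : P ⟶ Spec (CommRingCat.of K))

/-- The cohomology of the fibre over the point is that of the total space. -/
theorem fiberRank_field [IsProper b] {N : P.Modules} (hN : Coh.IsQCoh N) (i : ℕ)
    (t : Spec (CommRingCat.of K)) :
    letI : P.Over (Spec (CommRingCat.of K)) := ⟨b⟩
    CohIII.fiberRank b N i t = Module.finrank K (Coh.HH P N i) := by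
  letI : P.Over (Spec (CommRingCat.of K)) := ⟨b⟩
  haveI : IsProper (P ↘ Spec (CommRingCat.of K)) := ‹IsProper b›
  have h : IsPullback (𝟙 P) (P ↘ Spec (CommRingCat.of K)) b (𝟙 _) := IsPullback.of_horiz_isIso ⟨by simp; rfl⟩
  rw [show t = (𝟙 (Spec (CommRingCat.of K)) : Spec (CommRingCat.of K) ⟶ Spec (CommRingCat.of K))
    (IsLocalRing.closedPoint K) from Subsingleton.elim _ _,
    AVEuler.fiberRank_eq_finrank h (𝟙 _) (Category.id_comp _) hN i]
  exact HilbPoly.finrank_HH_iso K ((Scheme.Modules.pullbackId P).app N) i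

/-- The Euler characteristic at the point is that of the total space. -/
theorem eulerChar_field [IsProper b] {N : P.Modules} (hN : Coh.IsQCoh N) (t : Spec (CommRingCat.of K)) :
    letI : P.Over (Spec (CommRingCat.of K)) := ⟨b⟩
    PerfAux.eulerChar b N t = Curv2.euler K P N := by
  letI : P.Over (Spec (CommRingCat.of K)) := ⟨b⟩
  exact finsum_congr fun i => by rw [PBC.betti_eq_fiberRank, fiberRank_field b hN i t]

theorem qcoh_push [IsProper b] {N : P.Modules} (hN : Coh.IsQCoh N) :
    Coh.IsQCoh ((Scheme.Modules.pushforward b).obj N) := QCoh.isQCoh_pushforward b hN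

/-- The field acts on the sections through the structure morphism. -/
theorem smul_field {N : P.Modules} (c : K) (x : Γ(N, (⊤ : P.Opens))) :
    letI := QCoh.secModule (Coh.toGlobal b) N (⊤ : P.Opens)
    c • x = (show Γ(P, ⊤) from Coh.toGlobal b c) • x := by
  letI := QCoh.secModule (Coh.toGlobal b) N (⊤ : P.Opens)
  show (show Γ(P, ⊤) from (P.presheaf.map (homOfLE (le_top : (⊤ : P.Opens) ≤ ⊤)).op) (Coh.toGlobal b c)) • x = _
  exact congrArg (fun t : Γ(P, ⊤) => t • x) (ConcreteCategory.congr_hom (P.presheaf.map_id (op ⊤)) (Coh.toGlobal b c))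

/-- Families of sections spanning over the field generate the direct image. -/
theorem epi_secHom_of_span [IsProper b] {N : P.Modules} (hN : Coh.IsQCoh N) {m : ℕ}
    (v : Fin m → Γ(N, (⊤ : P.Opens)))
    (h : ∀ s : Γ(N, (⊤ : P.Opens)), ∃ c : Fin m → K, comb v (fun j => Coh.toGlobal b (c j)) = s) :
    Epi (secHom (show Fin m → Γ((Scheme.Modules.pushforward b).obj N, (⊤ : (Spec (CommRingCat.of K)).Opens))
      from v)) := by
  refine LimMod.epi_of_surjective _ (fun _ : Unit => (⊤ : (Spec (CommRingCat.of K)).Opens))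
    (fun _ => isAffineOpen_top _) (fun _ => ⟨(), trivial⟩)
    (QCoh.isQCoh_of_isFinLocFree (KFlatLib.isFinLocFree_freeMod m)) (qcoh_push b hN) fun _ s => ?_
  obtain ⟨c, hc⟩ := h s
  refine ⟨comb (basis _ m) fun j => (Scheme.ΓSpecIso (CommRingCat.of K)).inv (c j), ?_⟩
  rw [secHom_app_comb]
  exact hc

/-- The direct image to the field is free on a basis of the sections. -/
theorem isFinLocFreeOfRank_push [IsProper b] {N : P.Modules} (hN : Coh.IsQCoh N) {r : ℕ}
    (hr : letI : P.Over (Spec (CommRingCat.of K)) := ⟨b⟩; Module.finrank K (Coh.HH P N 0) = r)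
    (hfin : letI : P.Over (Spec (CommRingCat.of K)) := ⟨b⟩; Module.Finite K (Coh.HH P N 0)) :
    FlatMod.IsFinLocFreeOfRank r ((Scheme.Modules.pushforward b).obj N) := by
  letI : P.Over (Spec (CommRingCat.of K)) := ⟨b⟩
  letI := QCoh.secModule (Coh.toGlobal b) N (⊤ : P.Opens)
  letI := QCoh.modHH (Coh.toGlobal b) N 0
  let e := QCoh.secH (Coh.toGlobal b) N
  haveI : Module.Finite K Γ(N, (⊤ : P.Opens)) := @Module.Finite.equiv K _ _ _ _ _ _ _ hfin e.symm
  have hfr : Module.finrank K Γ(N, (⊤ : P.Opens)) = r := e.finrank_eq.trans hr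
  let β := Module.finBasisOfFinrankEq K Γ(N, (⊤ : P.Opens)) hfr
  let v : Fin r → Γ(N, (⊤ : P.Opens)) := β
  have hcomb : ∀ c : Fin r → K, comb v (fun j => Coh.toGlobal b (c j)) = ∑ j, c j • v j := fun c =>
    Finset.sum_congr rfl fun j _ => (smul_field b (c j) (v j)).symm
  haveI h1 := epi_secHom_of_span b hN v fun s => ⟨fun j => β.repr s j, by rw [hcomb]; exact β.sum_repr s⟩
  haveI : Mono (secHom (show Fin r → Γ((Scheme.Modules.pushforward b).obj N, (⊤ : (Spec (CommRingCat.of K)).Opens))
      from v)) := by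
    refine LimMod.mono_of_injective _ (fun _ : Unit => (⊤ : (Spec (CommRingCat.of K)).Opens))
      (fun _ => isAffineOpen_top _) (fun _ => ⟨(), trivial⟩)
      (QCoh.isQCoh_of_isFinLocFree (KFlatLib.isFinLocFree_freeMod r)) (qcoh_push b hN) fun _ s₁ s₂ h12 => ?_
    obtain ⟨a₁, ha₁, -⟩ := exists_comb s₁
    obtain ⟨a₂, ha₂, -⟩ := exists_comb s₂
    subst ha₁ ha₂
    rw [secHom_app_comb, secHom_app_comb] at h12
    let γ := (Scheme.ΓSpecIso (CommRingCat.of K)).commRingCatIsoToRingEquiv
    have hγ : ∀ a : Fin r → Γ(Spec (CommRingCat.of K), ⊤),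
        comb (show Fin r → Γ((Scheme.Modules.pushforward b).obj N, (⊤ : (Spec (CommRingCat.of K)).Opens)) from v) a =
          ∑ j, γ (a j) • v j := fun a => Finset.sum_congr rfl fun j _ => by
      conv_lhs => rw [← γ.symm_apply_apply (a j)]
      exact (smul_field b (γ (a j)) (v j)).symm
    rw [hγ, hγ] at h12
    exact congrArg _ (funext fun j => γ.injective (congrFun (β.linearIndependent.fintypeLinearCombination_injective
      (by simpa [Fintype.linearCombination_apply] using h12)) j))
  haveI := isIso_of_mono_of_epi (secHom (show Fin r → Γ((Scheme.Modules.pushforward b).obj N, (⊤ : (Spec (CommRingCat.of K)).Opens)) from v))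
  exact fun x => ⟨⊤, trivial, ⟨(Scheme.Modules.restrictFunctor _).mapIso
    (asIso (secHom (show Fin r → Γ((Scheme.Modules.pushforward b).obj N, (⊤ : (Spec (CommRingCat.of K)).Opens)) from v))).symm ≪≫
      QCoh.freeModRestrict _ r⟩⟩

end Groth.Agent.QuotRep

end
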