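import Groth.Agent.QuotRep.BdProj
import Groth.Agent.HilbStrat.Uniform
import Groth.Agent.RelCube.PnFamily
import Groth.Agent.HilbStrat.ProjSpace

/-!
# All quotients with a given Hilbert polynomial are presented by finitely many sections
-/

set_option autoImplicit false
set_option linter.style.haveILetI false
set_option linter.unusedSectionVars false
set_option backward.isDefEq.respectTransparency false
set_option backward.isDefEq.respectTransparency.types false
set_option maxHeartbeats 1000000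
set_option synthInstance.maxHeartbeats 400000

universe u

open CategoryTheory CategoryTheory.Limits AlgebraicGeometry TopologicalSpace Opposite
open scoped TensorProduct

attribute [-instance] CategoryTheory.catToReflQuiver

noncomputable section

namespace Groth.Agent.QuotRep

open Groth.Agent Groth.Agent.H23.PicMul Groth.Agent.RegEpi

/-- The twisted free module on projective space over the integers. -/
abbrev Mz (n p l : ℕ) : (CohB1.ProjSpace n (ULift.{u} ℤ)).Modules :=
  CohB1.tensorMod (FlatMod.freeMod (CohB1.ProjSpace n (ULift.{u} ℤ)) p)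
    (CohB1.tensorPow (Twist.twistProjSpace n (ULift.{u} ℤ) 1) l)

theorem isCoh_Mz (n p l : ℕ) : Coh.IsCoh (Mz.{u} n p l) := by
  haveI : IsNoetherianRing (ULift.{u} ℤ) := isNoetherianRing_of_ringEquiv ℤ ULift.ringEquiv.symm
  haveI : IsProper (CohB1.ProjSpace.toSpec n (ULift.{u} ℤ)) := PnCoh.Chow.isProper_toSpec n _
  haveI : IsLocallyNoetherian (CohB1.ProjSpace n (ULift.{u} ℤ)) :=
    LocallyOfFiniteType.isLocallyNoetherian (CohB1.ProjSpace.toSpec n (ULift.{u} ℤ))
  exact QCoh.isCoh_iff_isFP.2 (HilbSnap.isFP_tensor_invertible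
    (QCoh.isFP_of_isFinLocFree (KFlatLib.isFinLocFree_freeMod p))
    (H23.PicMul.isInvertible_tensorPow (TwistFlat.isInvertible_twistProjSpace n 1) l))

theorem isAmple_O1Z (n : ℕ) : CohB1.IsAmple (Twist.twistProjSpace n (ULift.{u} ℤ) 1) := by
  classical
  refine AmpleX.isAmple_twist_one (CohB1.polyGrading n (ULift.{u} ℤ))
    (Finset.image (fun j : Fin (n + 1) => (MvPolynomial.X j : MvPolynomial (Fin (n + 1)) (ULift.{u} ℤ))) Finset.univ)
    (fun f hf => ?_) (top_le_iff.1 fun y _ => ?_)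
  · obtain ⟨j, -, rfl⟩ := Finset.mem_image.1 hf
    exact ProjPt.X_mem j
  · obtain ⟨j, hj⟩ := ProjUPX.cov_X y
    exact Opens.mem_iSup.2 ⟨⟨_, Finset.mem_image.2 ⟨j, Finset.mem_univ _, rfl⟩⟩, hj⟩

/-- The pullback of the twisted free module, twisted back. -/
theorem nonempty_tw_Mz {n p l : ℕ} {K : Type u} [Field K]
    (g : CohB1.ProjSpace n K ⟶ CohB1.ProjSpace n (ULift.{u} ℤ))
    (hg : ∀ d : ℤ, Nonempty ((Scheme.Modules.pullback g).obj (Twist.twistProjSpace n (ULift.{u} ℤ) d) ≅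
      Twist.twistProjSpace n K d)) :
    Nonempty (FlatMod.freeMod (Proj (CohB1.polyGrading n K)) p ≅
      (twF (k := K) (n := n) (-(l : ℤ))).obj ((Scheme.Modules.pullback g).obj (Mz n p l))) := by
  refine cl_eq_iff.1 ?_
  show PicF.cl (FlatMod.freeMod (CohB1.ProjSpace n K) p) = PicF.cl (CohB1.tensorMod ((Scheme.Modules.pullback g).obj (Mz n p l)) (Twist.twistProjSpace n K (-(l : ℤ))))
  have hfree : PicF.pullCl g (PicF.cl (FlatMod.freeMod (CohB1.ProjSpace n (ULift.{u} ℤ)) p)) =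
      PicF.cl (FlatMod.freeMod (CohB1.ProjSpace n K) p) := cl_eq_iff.2 ⟨KFlatLib.pullFreeIso g p⟩
  have h1 : PicF.pullCl g (PicF.cl (Twist.twistProjSpace n (ULift.{u} ℤ) 1)) ^ l =
      PicF.cl (Twist.twistProjSpace n K (l : ℤ)) := by
    rw [show PicF.pullCl g (PicF.cl (Twist.twistProjSpace n (ULift.{u} ℤ) 1)) =
      PicF.cl (Twist.twistProjSpace n K 1) from cl_eq_iff.2 (hg 1), ← cl_tensorPow]
    exact (cl_eq_iff.2 (PnCoh.Finite.twist_tensorPow_iso (ProjRegular.coords K n) ProjRegular.coords_mem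
      ProjRegular.coords_cover l)).symm
  have h2 : PicF.cl (Twist.twistProjSpace n K (l : ℤ)) * PicF.cl (Twist.twistProjSpace n K (-(l : ℤ))) = 1 := by
    rw [← cl_tensor, show PicF.cl (CohB1.tensorMod (Twist.twistProjSpace n K (l : ℤ))
      (Twist.twistProjSpace n K (-(l : ℤ)))) = PicF.cl (Twist.twistProjSpace n K (((0 : ℕ) : ℤ))) from
        (cl_eq_iff.2 (PnCoh.Finite.twist_tensor_iso (ProjRegular.coords K n) ProjRegular.coords_mem
          ProjRegular.coords_cover (l : ℤ) (-(l : ℤ)))).trans (congrArg (fun d : ℤ => PicF.cl (Twist.twistProjSpace n K d))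
            (by simp))]
    refine (cl_eq_iff.2 (PnCoh.Finite.twist_tensorPow_iso (ProjRegular.coords K n) ProjRegular.coords_mem
      ProjRegular.coords_cover 0)).trans ?_
    rw [cl_tensorPow, pow_zero]
  rw [cl_tensor, show PicF.cl ((Scheme.Modules.pullback g).obj (Mz n p l)) =
      PicF.pullCl g (PicF.cl (Mz n p l)) from rfl, cl_tensor, pullCl_mul, cl_tensorPow, pullCl_pow, h1,
    mul_assoc, h2, mul_one, hfree]

/-- Bijectivity of the base change map of sections carries generators to generators. -/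
theorem exists_comb_of_secBij {A K : Type u} [CommRing A] [Field K] {Y Y' : Scheme.{u}}
    {π : Y ⟶ Spec (CommRingCat.of A)} {π' : Y' ⟶ Spec (CommRingCat.of K)} (φ : A →+* K) {g : Y' ⟶ Y}
    (hg : IsPullback g π' π (Spec.map (CommRingCat.ofHom φ))) (M : Y.Modules) {N : ℕ}
    (z : Fin N → Γ(M, (⊤ : Y.Opens)))
    (hz : letI := QCoh.secModule (Coh.toGlobal π) M (⊤ : Y.Opens); Submodule.span A (Set.range z) = ⊤)
    (hb : HilbStrat.SecBij φ hg M) (s : Γ((Scheme.Modules.pullback g).obj M, (⊤ : Y'.Opens))) :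
    ∃ c : Fin N → K, comb (fun j => pullTop g M (z j)) (fun j => Coh.toGlobal π' (c j)) = s := by
  letI : Y.Over (Spec (CommRingCat.of A)) := ⟨π⟩
  letI : Y'.Over (Spec (CommRingCat.of K)) := ⟨π'⟩
  letI := φ.toAlgebra
  letI := QCoh.secModule (Coh.toGlobal π) M (⊤ : Y.Opens)
  letI := QCoh.secModule (Coh.toGlobal π') ((Scheme.Modules.pullback g).obj M) (⊤ : Y'.Opens)
  obtain ⟨x, rfl⟩ := hb.2 s
  let Φ₀ := PBC.sectionsBC φ g hg (F := M)
  let W : Submodule K Γ((Scheme.Modules.pullback g).obj M, (⊤ : Y'.Opens)) :=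
    Submodule.span K (Set.range fun j => Φ₀ ((1 : K) ⊗ₜ[A] z j))
  have hspan : Submodule.span K (Set.range fun j => (1 : K) ⊗ₜ[A] z j) = ⊤ := by
    have := Submodule.baseChange_span (A := K) (R := A) (Set.range z)
    rw [hz, Submodule.baseChange_top, ← Set.range_comp] at this
    exact this.symm
  have hx : Φ₀ x ∈ W := by
    have h0 : Φ₀ x ∈ (⊤ : Submodule K (K ⊗[A] Γ(M, (⊤ : Y.Opens)))).map Φ₀ := ⟨x, trivial, rfl⟩
    rw [← hspan, Submodule.map_span, ← Set.range_comp] at h0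
    exact h0
  obtain ⟨c, hc⟩ := (Submodule.mem_span_range_iff_exists_fun K).1 hx
  refine ⟨c, Eq.trans ?_ hc⟩
  refine Finset.sum_congr rfl fun j _ => ?_
  show _ = c j • Φ₀ ((1 : K) ⊗ₜ[A] z j)
  rw [smul_field π']
  exact congrArg (fun y : Γ((Scheme.Modules.pullback g).obj M, (⊤ : Y'.Opens)) =>
    (show Γ(Y', ⊤) from Coh.toGlobal π' (c j)) • y) (HilbStrat.sectionsBC_one_tmul φ g hg M (z j)).symm

/-- Finitely many sections of the twisted free module generate the sections over all fields. -/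
theorem exists_span (n p : ℕ) : ∃ N₀ : ℕ, ∀ l, N₀ ≤ l →
    ∃ (N : ℕ) (z : Fin N → Γ(Mz.{u} n p l, (⊤ : (CohB1.ProjSpace n (ULift.{u} ℤ)).Opens))),
      ∀ (K : Type u) [Field K] (φ : ULift.{u} ℤ →+* K) (g : CohB1.ProjSpace n K ⟶ CohB1.ProjSpace n (ULift.{u} ℤ)),
        IsPullback g (CohB1.ProjSpace.toSpec n K) (CohB1.ProjSpace.toSpec n (ULift.{u} ℤ))
            (Spec.map (CommRingCat.ofHom φ)) →
        ∀ s, ∃ c : Fin N → K, comb (fun j => pullTop g (Mz n p l) (z j))
          (fun j => Coh.toGlobal (CohB1.ProjSpace.toSpec n K) (c j)) = s := by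
  let A := ULift.{u} ℤ
  haveI : IsNoetherianRing A := isNoetherianRing_of_ringEquiv ℤ ULift.ringEquiv.symm
  let π := CohB1.ProjSpace.toSpec n A
  haveI : IsProper π := PnCoh.Chow.isProper_toSpec n _
  haveI : IsLocallyNoetherian (CohB1.ProjSpace n A) := LocallyOfFiniteType.isLocallyNoetherian π
  have hfree : Coh.IsCoh (FlatMod.freeMod (CohB1.ProjSpace n A) p) :=
    QCoh.isCoh_iff_isFP.2 (QCoh.isFP_of_isFinLocFree (KFlatLib.isFinLocFree_freeMod p))
  obtain ⟨N₀, hN₀⟩ := HilbStrat.exists_uniform_secBij π (isAmple_O1Z n) hfree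
  refine ⟨N₀, fun l hl => ?_⟩
  letI : (CohB1.ProjSpace n A).Over (Spec (CommRingCat.of A)) := ⟨π⟩
  letI := QCoh.secModule (Coh.toGlobal π) (Mz n p l) (⊤ : (CohB1.ProjSpace n A).Opens)
  letI := QCoh.modHH (Coh.toGlobal π) (Mz n p l) 0
  haveI : Module.Finite A Γ(Mz.{u} n p l, (⊤ : (CohB1.ProjSpace n A).Opens)) := by
    haveI : Module.Finite A (Coh.HH (CohB1.ProjSpace n A) (Mz.{u} n p l) 0) :=
      PnCoh.Finite.projSpace_finite_HH n A _ (isCoh_Mz n p l) 0
    exact Module.Finite.equiv (QCoh.secH (Coh.toGlobal π) (Mz.{u} n p l)).symm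
  obtain ⟨N, z, hz⟩ := Module.Finite.exists_fin (R := A) (M := Γ(Mz.{u} n p l, (⊤ : (CohB1.ProjSpace n A).Opens)))
  exact ⟨N, z, fun K _ φ g hg s => exists_comb_of_secBij φ hg _ z hz (hN₀ l hl K φ _ g _ hg) s⟩

variable {X S : Scheme.{u}} {n : ℕ}

/-- All quotients with Hilbert polynomial `Φ` are presented by sections, after a high enough twist. -/
theorem exists_bd (n p : ℕ) (Φ : Polynomial ℚ) : ∃ L₀ : ℕ, ∀ l, L₀ ≤ l →
    ∃ (r N : ℕ) (z : Fin N → Γ(Mz.{u} n p l, (⊤ : (CohB1.ProjSpace n (ULift.{u} ℤ)).Opens))),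
      ∀ {X S : Scheme.{u}} (i : X ⟶ CohB1.ProjSpaceOver n S) [IsClosedImmersion i] (E : X.Modules)
        (e : (Scheme.Modules.pullback (i ≫ pullback.fst _ _)).obj (Mz n p l) ⟶ E) [Epi e],
        Bd (i ≫ CohB1.ProjSpaceOver.toBase n S) E ((Scheme.Modules.pullback i).obj (Twist.twistOver n S 1))
          (fun j => e.app ⊤ (pullTop (i ≫ pullback.fst _ _) (Mz n p l) (z j))) r
          (Φ.comp (Polynomial.X + Polynomial.C (l : ℚ))) := by
  obtain ⟨m, hm⟩ := HilbBound.exists_kernel_bound.{u} n p Φ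
  obtain ⟨N₀, hN₀⟩ := exists_span.{u} n p
  refine ⟨max N₀ m.toNat, fun l hl => ?_⟩
  obtain ⟨N, z, hz⟩ := hN₀ l (le_of_max_le_left hl)
  refine ⟨⌊Φ.eval (l : ℚ)⌋.toNat, N, z, fun {X S} i _ E e _ => ?_⟩
  intro K _ P a b x sq F q hF hq hΦ
  letI : Algebra (ULift.{u} ℤ) K := ((Int.castRingHom K).comp ULift.ringEquiv.toRingHom).toAlgebra
  obtain ⟨g, hg, htw⟩ := RelCube.exists_baseChange_twist n K
  let π₀ := CohB1.ProjSpace.toSpec n (ULift.{u} ℤ)
  let toB := CohB1.ProjSpaceOver.toBase n S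
  have hk : x ≫ specULiftZIsTerminal.from S = Spec.map (CommRingCat.ofHom (algebraMap (ULift.{u} ℤ) K)) :=
    specULiftZIsTerminal.hom_ext _ _
  have sqB : IsPullback (pullback.fst toB x ≫ pullback.fst π₀ (specULiftZIsTerminal.from S)) (pullback.snd toB x) π₀
      (Spec.map (CommRingCat.ofHom (algebraMap (ULift.{u} ℤ) K))) := by
    rw [← hk]
    exact (IsPullback.of_hasPullback toB x).paste_horiz (IsPullback.of_hasPullback π₀ (specULiftZIsTerminal.from S))
  let e₀ := sqB.isoIsPullback _ _ hg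
  let ι₀ : P ⟶ pullback toB x := pullback.lift (a ≫ i) b (by rw [Category.assoc]; exact sq.w)
  have sq₀ : IsPullback a ι₀ i (pullback.fst toB x) := by
    refine IsPullback.of_bot (v₁₁ := ι₀) (v₂₁ := pullback.snd toB x) (h₂₁ := pullback.fst toB x) ?_ (pullback.lift_fst _ _ _).symm
      (IsPullback.of_hasPullback toB x)
    rw [pullback.lift_snd]
    exact sq
  haveI : IsClosedImmersion ι₀ := MorphismProperty.of_isPullback sq₀ ‹_›
  let ι : P ⟶ Proj (CohB1.polyGrading n K) := ι₀ ≫ e₀.hom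
  haveI : IsClosedImmersion ι := inferInstance
  let c := i ≫ pullback.fst π₀ (specULiftZIsTerminal.from S)
  have hιg : ι ≫ g = a ≫ c :=
    (Category.assoc _ _ _).trans ((congrArg (ι₀ ≫ ·) (sqB.isoIsPullback_hom_fst _ _ hg)).trans
      (((Category.assoc _ _ _).symm).trans ((congrArg (· ≫ _) (pullback.lift_fst _ _ _)).trans (Category.assoc _ _ _))))
  have hιb : ι ≫ CohB1.ProjSpace.toSpec n K = b :=
    (Category.assoc _ _ _).trans ((congrArg (ι₀ ≫ ·) (sqB.isoIsPullback_hom_snd _ _ hg)).trans (pullback.lift_snd _ _ _))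
  obtain ⟨ε⟩ := nonempty_tw_Mz (p := p) (l := l) g htw
  haveI : IsNoetherian (CohB1.ProjSpace n K) := Proj16.isNoetherian_proj _
  haveI : IsNoetherian (Proj (CohB1.polyGrading n K)) := Proj16.isNoetherian_proj _
  have hG : Coh.IsCoh ((Scheme.Modules.pullback g).obj (Mz n p l)) :=
    QCoh.isCoh_iff_isFP.2 (ModStLib.isFP_pullback g
      (by
        haveI : IsNoetherianRing (ULift.{u} ℤ) := isNoetherianRing_of_ringEquiv ℤ ULift.ringEquiv.symm
        haveI : IsProper π₀ := PnCoh.Chow.isProper_toSpec n _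
        haveI : IsLocallyNoetherian (CohB1.ProjSpace n (ULift.{u} ℤ)) := LocallyOfFiniteType.isLocallyNoetherian π₀
        exact QCoh.isCoh_iff_isFP.1 (isCoh_Mz n p l)))
  let τ₁ := LimMod.trIso ι g (a ≫ c) hιg
  let τ₂ := LimMod.trIso a c (a ≫ c) rfl
  let tilde : ∀ {M : P.Modules}, ((Scheme.Modules.pullback a).obj E ⟶ M) →
      ((Scheme.Modules.pullback ι).obj ((Scheme.Modules.pullback g).obj (Mz n p l)) ⟶ M) :=
    fun ψ => τ₁.hom.app _ ≫ τ₂.inv.app _ ≫ (Scheme.Modules.pullback a).map e ≫ ψ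
  haveI := (Scheme.Modules.pullbackPushforwardAdjunction a).isLeftAdjoint
  haveI : Epi (tilde q) := by
    haveI := hq
    exact epi_comp' inferInstance (epi_comp' inferInstance (epi_comp' inferInstance hq))
  have hval : ∀ {M : P.Modules} (ψ : (Scheme.Modules.pullback a).obj E ⟶ M) (j : Fin N),
      (tilde ψ).app ⊤ (pullTop ι _ (pullTop g (Mz n p l) (z j))) =
        ψ.app ⊤ (pullTop a E (e.app ⊤ (pullTop c (Mz n p l) (z j)))) := fun ψ j => by
    show ψ.app ⊤ (((Scheme.Modules.pullback a).map e).app ⊤ ((τ₂.inv.app _).app ⊤ ((τ₁.hom.app _).app ⊤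
      (pullTop ι _ (pullTop g (Mz n p l) (z j)))))) = _
    rw [trIso_pullTop, ← trIso_pullTop a (a ≫ c) rfl (z j)]
    refine congrArg (ψ.app ⊤) ((congrArg (((Scheme.Modules.pullback a).map e).app ⊤)
      (congrArg (fun t => Scheme.Modules.Hom.app t ⊤ (pullTop a _ (pullTop c (Mz n p l) (z j))))
        (τ₂.hom_inv_id_app (Mz n p l)))).trans ?_)
    exact ExistEasy.pullSec_natural a e le_top _
  letI : P.Over (Spec (CommRingCat.of K)) := ⟨b⟩
  haveI : IsLocallyNoetherian P := LocallyOfFiniteType.isLocallyNoetherian ι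
  haveI : IsProper b := by
    rw [← hιb]
    haveI : IsProper (CohB1.ProjSpace.toSpec n K) := PnCoh.Chow.isProper_toSpec n K
    infer_instance
  have hOne : PicF.cl ((Scheme.Modules.pullback a).obj ((Scheme.Modules.pullback i).obj (Twist.twistOver n S 1))) =
      PicF.cl (PruferCoh.oneX ι) := by
    have h1 : PicF.cl (PruferCoh.oneX ι) = PicF.pullCl ι (PicF.pullCl g (PicF.cl (Twist.twistProjSpace n (ULift.{u} ℤ) 1))) :=
      (congrArg (PicF.pullCl ι) (cl_eq_iff.2 (htw 1))).symm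
    rw [h1]
    show PicF.pullCl a (PicF.pullCl i (PicF.pullCl (pullback.fst π₀ (specULiftZIsTerminal.from S))
      (PicF.cl (Twist.twistProjSpace n (ULift.{u} ℤ) 1)))) = _
    rw [PicClLib.pullCl_comp, PicClLib.pullCl_comp, PicClLib.pullCl_comp]
    exact congrArg (fun t => PicF.pullCl t _) ((Category.assoc _ _ _).trans hιg.symm)
  have hchi : ∀ j : ℕ, (Curv2.euler K P (CohB1.tensorMod F (CohB1.tensorPow (PruferCoh.oneX ι) j)) : ℚ) =
      Φ.eval ((j : ℚ) + (l : ℚ)) := fun j => by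
    have h := hΦ (IsLocalRing.closedPoint K) j
    rw [Polynomial.eval_comp, Polynomial.eval_add, Polynomial.eval_X, Polynomial.eval_C] at h
    rw [← h]
    refine congrArg (Int.cast (R := ℚ)) ?_
    obtain ⟨e'⟩ := cl_eq_iff.1 (show PicF.cl (CohB1.tensorMod F (CohB1.tensorPow ((Scheme.Modules.pullback a).obj
        ((Scheme.Modules.pullback i).obj (Twist.twistOver n S 1))) j)) =
        PicF.cl (CohB1.tensorMod F (CohB1.tensorPow (PruferCoh.oneX ι) j)) by
      rw [cl_tensor, cl_tensor, cl_tensorPow, cl_tensorPow, hOne])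
    rw [← CurveCohLib.euler_congr (k := K) e']
    exact (eulerChar_field b (KFlatLib.isQCoh_tensor hF.1
      (ProjUPX.isQCoh_of_isInvertible (H23.PicMul.isInvertible_tensorPow (PicClLib.isInvertible_pullback _
        (PicClLib.isInvertible_pullback _ (HilbStrat.ProjSpace.isInvertible_twistOver 1))) j))) _).symm
  obtain ⟨hvan, hrank, hfin, hspan, hrec⟩ := field_bd hm (by omega) ι b hιb ε
    (fun j => pullTop g (Mz n p l) (z j)) (hz K _ g hg) hG hF (tilde q) hchi
  refine ⟨fun t => ?_, isFinLocFreeOfRank_push b hF.1 ?_ hfin, epi_secHom_of_span b hF.1 _ fun s => ?_,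
    fun M ψ ⟨φ, hφ⟩ => ?_⟩
  · refine HilbSnap.subsingleton_fiberH_of_rank b (QCoh.isCoh_iff_isFP.1 hF) 1 t ?_
    haveI := hvan 1 one_pos
    rw [fiberRank_field b hF.1 1 t]
    exact Module.finrank_zero_of_subsingleton
  · rw [← hrank, Int.floor_natCast, Int.toNat_natCast]
  · obtain ⟨c', hc'⟩ := hspan s
    refine ⟨c', Eq.trans ?_ hc'⟩
    exact congrArg (comb · _) (funext fun j => (hval q j).symm)
  · obtain ⟨χ, hχ⟩ := hrec M (tilde ψ) fun c' hc' => by
      rw [show (fun j => (tilde ψ).app ⊤ (pullTop ι _ (pullTop g (Mz n p l) (z j)))) =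
        fun j => ψ.app ⊤ (pullTop a E (e.app ⊤ (pullTop c (Mz n p l) (z j)))) from funext (hval ψ)]
      rw [show (fun j => (tilde q).app ⊤ (pullTop ι _ (pullTop g (Mz n p l) (z j)))) =
        fun j => q.app ⊤ (pullTop a E (e.app ⊤ (pullTop c (Mz n p l) (z j)))) from funext (hval q)] at hc'
      let s : Fin N → Γ(Spec (CommRingCat.of K), ⊤) := fun j => (Scheme.ΓSpecIso (CommRingCat.of K)).inv (c' j)
      have h1 := app_comb φ (fun j => pushSec (fun j => e.app ⊤ (pullTop c (Mz n p l) (z j))) a b q j) s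
      rw [show (fun j => φ.app ⊤ (pushSec (fun j => e.app ⊤ (pullTop c (Mz n p l) (z j))) a b q j)) =
        fun j => pushSec (fun j => e.app ⊤ (pullTop c (Mz n p l) (z j))) a b ψ j from funext hφ] at h1
      refine Eq.trans ?_ (h1.symm.trans ((congrArg (φ.app ⊤) ?_).trans (map_zero _)))
      · rfl
      · exact hc'
    have hχ' : (τ₁.hom.app _ ≫ τ₂.inv.app _ ≫ (Scheme.Modules.pullback a).map e) ≫ (q ≫ χ) =
        (τ₁.hom.app _ ≫ τ₂.inv.app _ ≫ (Scheme.Modules.pullback a).map e) ≫ ψ := by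
      simpa only [tilde, Category.assoc] using hχ
    haveI : Epi (τ₁.hom.app (Mz n p l) ≫ τ₂.inv.app (Mz n p l) ≫ (Scheme.Modules.pullback a).map e) :=
      epi_comp' inferInstance (epi_comp' inferInstance inferInstance)
    rw [← (cancel_epi _).1 hχ', kernel.condition_assoc, zero_comp]

end Groth.Agent.QuotRep

end
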