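import Groth.Agent.QuotRep.CoreProper
import Groth.Agent.H9Quot.Pull
import Groth.Agent.Nakai.KleimanDeg
import Groth.Agent.HilbStrat.ProjSpace
import Groth.Prelude.Def_FGA

/-!
# Families of quotients as submodules
-/

set_option autoImplicit false
set_option linter.style.haveILetI false
set_option linter.unusedSectionVars false
set_option backward.isDefEq.respectTransparency false
set_option backward.isDefEq.respectTransparency.types false
set_option maxHeartbeats 1000000
set_option synthInstance.maxHeartbeats 400000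

universe u

open CategoryTheory CategoryTheory.Limits AlgebraicGeometry TopologicalSpace Opposite

attribute [-instance] CategoryTheory.catToReflQuiver

noncomputable section

namespace Groth.Agent.QuotRep

open Groth.Agent Groth.Agent.H23.PicMul

variable {X S : Scheme.{u}} {f : X ⟶ S} {E L : X.Modules} {Φ : Polynomial ℚ}

/-- A submodule has the kernel of an epimorphism iff the quotients agree. -/
theorem kernelSubobject_eq_iff {P : Scheme.{u}} {B F : P.Modules} (p : B ⟶ F) [Epi p] (K : Subobject B) :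
    kernelSubobject p = K ↔ SameQ p (cokernel.π K.arrow) := by
  constructor
  · rintro rfl
    let d := Abelian.epiDesc p (cokernel.π (kernelSubobject p).arrow) (by
      rw [← kernelSubobject_arrow' p, Category.assoc, cokernel.condition, comp_zero])
    have hd : p ≫ d = cokernel.π (kernelSubobject p).arrow := Abelian.comp_epiDesc _ _ _
    refine ⟨⟨d, cokernel.desc _ p (kernelSubobject_arrow_comp p), ?_, ?_⟩, hd⟩
    · rw [← cancel_epi p, ← Category.assoc, hd, cokernel.π_desc, Category.comp_id]
    · rw [← cancel_epi (cokernel.π (kernelSubobject p).arrow), ← Category.assoc, cokernel.π_desc, hd, Category.comp_id]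
  · rintro ⟨e, he⟩
    have h1 : kernelSubobject (p ≫ e.hom) = kernelSubobject (cokernel.π K.arrow) := by congr 1
    rw [← kernelSubobject_comp_mono p e.hom, h1]
    have hk : (ShortComplex.mk K.arrow (cokernel.π K.arrow) (cokernel.condition _)).Exact :=
      ShortComplex.exact_of_g_is_cokernel _ (cokernelIsCokernel K.arrow)
    rw [← (ShortComplex.exact_iff_image_eq_kernel _).1 hk]
    exact (imageSubobject_mono K.arrow).trans (Subobject.mk_arrow K)

/-- The quotient by the kernel of an epimorphism. -/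
theorem sameQ_kernelSubobject {P : Scheme.{u}} {B F : P.Modules} (p : B ⟶ F) [Epi p] :
    SameQ p (cokernel.π (kernelSubobject p).arrow) := (kernelSubobject_eq_iff p _).1 rfl

theorem XTmap_eq {T T' : Over S} (g : T' ⟶ T) :
    PicF.XTmap f g = pullback.lift (pullback.fst f T'.hom) (pullback.snd f T'.hom ≫ g.left)
      (by rw [Category.assoc, Over.w g, pullback.condition]) := by
  refine pullback.hom_ext ?_ ?_ <;> simp [PicF.XTmap]

theorem ETiso_hom (f : X ⟶ S) (E : X.Modules) {T T' : Over S} (g : T' ⟶ T) :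
    (FGA.ETiso f E g).hom = (LimMod.trIso (PicF.XTmap f g) (pullback.fst f T.hom) (pullback.fst f T'.hom)
      (FGA.XTmap_fst f g)).hom.app E := rfl

/-- The pullback of a family corresponds to the pullback of the quotient. -/
theorem quotPull_eq_iff {T T' : Over S} (g : T' ⟶ T) (K : Subobject (FGA.ET f E T))
    (K' : Subobject (FGA.ET f E T')) :
    FGA.quotPull f E g K = K' ↔ SameQ (pullQ (PicF.XTmap f g) (pullback.fst f T.hom) (pullback.fst f T'.hom)
      (FGA.XTmap_fst f g) (cokernel.π K.arrow)) (cokernel.π K'.arrow) := by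
  let G := Scheme.Modules.pullback (PicF.XTmap f g)
  haveI := (Scheme.Modules.pullbackPushforwardAdjunction (PicF.XTmap f g)).isLeftAdjoint
  let p := (FGA.ETiso f E g).inv ≫ G.map (cokernel.π K.arrow)
  haveI : Epi p := epi_comp _ _
  have w₀ : G.map K.arrow ≫ G.map (cokernel.π K.arrow) = 0 := by
    rw [← G.map_comp, cokernel.condition, G.map_zero]
  let m := G.map K.arrow ≫ (FGA.ETiso f E g).hom
  have w : m ≫ p = 0 := by simp only [m, p, Category.assoc, Iso.hom_inv_id_assoc, w₀]
  have h₀ : (ShortComplex.mk (G.map K.arrow) (G.map (cokernel.π K.arrow)) w₀).Exact :=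
    ShortComplex.exact_of_g_is_cokernel _ (CokernelCofork.mapIsColimit _ (cokernelIsCokernel K.arrow) G)
  let i : ShortComplex.mk (G.map K.arrow) (G.map (cokernel.π K.arrow)) w₀ ≅ ShortComplex.mk m p w :=
    ShortComplex.isoMk (Iso.refl _) (FGA.ETiso f E g) (Iso.refl _) (by simp [m]) (by simp [p])
  have hex : (ShortComplex.mk m p w).Exact := ShortComplex.exact_of_iso i h₀
  show imageSubobject m = K' ↔ _
  rw [show imageSubobject m = kernelSubobject p from (ShortComplex.exact_iff_image_eq_kernel _).1 hex,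
    kernelSubobject_eq_iff]
  rfl

theorem SameQ.pullQ {P P' : Scheme.{u}} {a : P ⟶ X} (a' : P' ⟶ P) (c : P' ⟶ X) (h : a' ≫ a = c)
    {F F' : P.Modules} {π : (Scheme.Modules.pullback a).obj E ⟶ F} {π' : (Scheme.Modules.pullback a).obj E ⟶ F'}
    (hs : SameQ π π') : SameQ (QuotRep.pullQ a' a c h π) (QuotRep.pullQ a' a c h π') := by
  obtain ⟨e, he⟩ := hs
  refine ⟨(Scheme.Modules.pullback a').mapIso e, ?_⟩
  refine (Category.assoc _ _ _).trans (congrArg (fun t => _ ≫ t) ?_)
  rw [Functor.mapIso_hom, ← Functor.map_comp, he]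

variable [IsProper f] [LocallyOfFinitePresentation f]

theorem quotSet_isFP {T : Over S} [IsLocallyNoetherian T.left] (K : FGA.QuotSet f E T) :
    CohB1.IsFP (cokernel K.1.arrow) := by
  haveI : LocallyOfFiniteType (pullback.snd f T.hom) := inferInstance
  haveI : IsLocallyNoetherian (pullback f T.hom) := LocallyOfFiniteType.isLocallyNoetherian (pullback.snd f T.hom)
  exact QCoh.isCoh_iff_isFP.1 K.2.1

/-- A universal family of quotients represents the families with the given Hilbert polynomial. -/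
theorem exists_quotSet_univ {W : Scheme.{u}} {qW : W ⟶ S} [IsLocallyNoetherian W]
    {FW : (pullback f qW).Modules} {πW : (Scheme.Modules.pullback (pullback.fst f qW)).obj E ⟶ FW}
    (hW : IsUniv f L Φ qW πW) :
    ∃ K : FGA.QuotSet f E (Over.mk qW), IsQuot f L Φ qW (cokernel.π K.1.arrow) ∧
      ∀ (T : Over S) [IsLocallyNoetherian T.left] (K' : FGA.QuotSet f E T),
        IsQuot f L Φ T.hom (cokernel.π K'.1.arrow) → ∃! g : T ⟶ Over.mk qW, FGA.quotPull f E g K.1 = K'.1 := by
  haveI : LocallyOfFiniteType (pullback.snd f qW) := inferInstance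
  haveI : IsLocallyNoetherian (pullback f qW) := LocallyOfFiniteType.isLocallyNoetherian (pullback.snd f qW)
  haveI := hW.1.epi
  have hs := sameQ_kernelSubobject πW
  have hK := hW.1.of_sameQ hs
  haveI : IsLocallyNoetherian (PicF.XT f (Over.mk qW)) := ‹IsLocallyNoetherian (pullback f qW)›
  refine ⟨⟨kernelSubobject πW, QCoh.isCoh_iff_isFP.2 hK.fp, hK.flat⟩, hK, fun T _ K' hK' => ?_⟩
  obtain ⟨h, ⟨hg, hh⟩, hu⟩ := hW.2 T.left T.hom _ _ hK'
  refine ⟨Over.homMk h hg, ?_, fun g hgq => ?_⟩
  · show FGA.quotPull f E (T := Over.mk qW) (Over.homMk h hg) (kernelSubobject πW) = K'.1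
    rw [quotPull_eq_iff]
    refine ((SameQ.pullQ _ _ _ hs.symm).trans ?_).trans hh
    exact sameQ_pullQ_congr (XTmap_eq (f := f) (Over.homMk (V := Over.mk qW) h hg)) _ _ _ _ _
  · refine Over.OverMorphism.ext (hu g.left ⟨Over.w g, ?_⟩)
    have := (quotPull_eq_iff g (kernelSubobject πW) K'.1).1 hgq
    refine ((sameQ_pullQ_congr (XTmap_eq (f := f) g).symm _ _ _ _ _).trans (SameQ.pullQ _ _ _ hs)).trans this

/-- The Euler characteristic of a fibre of a family, in degrees up to the dimension. -/
theorem eulerCharLE_restr (T : Over S) (t : T.left) {n : ℕ}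
    (hd : topologicalKrullDim (FGA.fibreAt f T t).left ≤ (n : WithBot ℕ∞)) {F N : (PicF.XT f T).Modules}
    (hF : Coh.IsQCoh F) (hN : PicF.IsInvertible N) :
    FGA.eulerCharLE (T.left.residueField t) (FGA.fibreAt f T t).left
        (CohB1.tensorMod (FGA.restrFibre f T t F) (FGA.restrFibre f T t N)) n =
      PerfAux.eulerChar (pullback.snd f T.hom) (CohB1.tensorMod F N) t := by
  let p := pullback.snd f T.hom
  haveI : IsProper p := inferInstanceAs (IsProper (pullback.snd f T.hom))
  letI : (p.fiber t).Over (Spec (CommRingCat.of (T.left.residueField t : Type u))) := ⟨p.fiberToSpecResidueField t⟩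
  haveI : IsProper ((p.fiber t) ↘ Spec (CommRingCat.of (T.left.residueField t : Type u))) :=
    inferInstanceAs (IsProper (pullback.snd p (T.left.fromSpecResidueField t)))
  obtain ⟨e⟩ := H23.PicMul.pull (p.fiberι t) F N
  have hG : Coh.IsQCoh ((Scheme.Modules.pullback (p.fiberι t)).obj (CohB1.tensorMod F N)) :=
    QCoh.isQCoh_pullback _ (KFlatLib.isQCoh_tensor hF (ProjUPX.isQCoh_of_isInvertible hN))
  have h1 := Nakai.eulerCharLE_eq_euler (T.left.residueField t : Type u) (Y := p.fiber t) hd
    ((QCoh.isQCoh_iff_iso e).1 hG)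
  refine h1.trans ?_
  rw [← CurveCohLib.euler_congr (k := (T.left.residueField t : Type u)) e]
  rfl

omit [IsProper f] [LocallyOfFinitePresentation f] in
/-- The fibres of a family over a closed subscheme of projective space have dimension at most `n`. -/
theorem dim_fibreAt {n : ℕ} (i : X ⟶ CohB1.ProjSpaceOver n S) [IsClosedImmersion i] (T : Over S) (t : T.left) :
    topologicalKrullDim (FGA.fibreAt (i ≫ CohB1.ProjSpaceOver.toBase n S) T t).left ≤ (n : WithBot ℕ∞) := by
  let π := CohB1.ProjSpaceOver.toBase n S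
  let y : Spec (CommRingCat.of (T.left.residueField t : Type u)) ⟶ S := T.left.fromSpecResidueField t ≫ T.hom
  have sq : IsPullback (pullback.fst (PicF.XTproj (i ≫ π) T) (T.left.fromSpecResidueField t) ≫
      pullback.fst (i ≫ π) T.hom) (FGA.fibreAt (i ≫ π) T t).hom (i ≫ π) y :=
    (IsPullback.of_hasPullback (PicF.XTproj (i ≫ π) T) (T.left.fromSpecResidueField t)).paste_horiz
      (IsPullback.of_hasPullback (i ≫ π) T.hom)
  let ι₀ : (FGA.fibreAt (i ≫ π) T t).left ⟶ pullback π y :=
    pullback.lift ((pullback.fst (PicF.XTproj (i ≫ π) T) (T.left.fromSpecResidueField t) ≫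
      pullback.fst (i ≫ π) T.hom) ≫ i) (FGA.fibreAt (i ≫ π) T t).hom (by rw [Category.assoc]; exact sq.w)
  have sq₀ : IsPullback (pullback.fst (PicF.XTproj (i ≫ π) T) (T.left.fromSpecResidueField t) ≫
      pullback.fst (i ≫ π) T.hom) ι₀ i (pullback.fst π y) := by
    refine IsPullback.of_bot (v₂₁ := pullback.snd π y) (h₂₁ := pullback.fst π y) ?_ (pullback.lift_fst _ _ _).symm
      (IsPullback.of_hasPullback π y)
    rw [pullback.lift_snd]
    exact sq
  haveI : IsClosedImmersion ι₀ := MorphismProperty.of_isPullback sq₀ ‹_›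
  exact (ι₀.isClosedEmbedding.isInducing.topologicalKrullDim_le).trans
    (HilbStrat.ProjSpace.dim_le (IsPullback.of_hasPullback π y))

/-- The Hilbert polynomial computes all twists. -/
theorem eulerChar_int {n : ℕ} (i : X ⟶ CohB1.ProjSpaceOver n S) [IsClosedImmersion i]
    [IsProper (i ≫ CohB1.ProjSpaceOver.toBase n S)] {T : Scheme.{u}} (g : T ⟶ S)
    {F : (pullback (i ≫ CohB1.ProjSpaceOver.toBase n S) g).Modules} (hF : CohB1.IsFP F) (t : T)
    (h : ∀ j : ℕ, (PerfAux.eulerChar (pullback.snd (i ≫ CohB1.ProjSpaceOver.toBase n S) g) (CohB1.tensorMod F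
      (CohB1.tensorPow ((Scheme.Modules.pullback (pullback.fst (i ≫ CohB1.ProjSpaceOver.toBase n S) g)).obj
        ((Scheme.Modules.pullback i).obj (Twist.twistOver n S 1))) j)) t : ℚ) = Φ.eval (j : ℚ)) (m : ℤ) :
    (PerfAux.eulerChar (pullback.snd (i ≫ CohB1.ProjSpaceOver.toBase n S) g) (CohB1.tensorMod F
      ((Scheme.Modules.pullback (pullback.fst (i ≫ CohB1.ProjSpaceOver.toBase n S) g)).obj
        ((Scheme.Modules.pullback i).obj (Twist.twistOver n S m)))) t : ℚ) = Φ.eval (m : ℚ) := by
  let f' := i ≫ CohB1.ProjSpaceOver.toBase n S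
  let a := pullback.fst f' g
  let N : ℤ → (pullback f' g).Modules := fun d =>
    (Scheme.Modules.pullback a).obj ((Scheme.Modules.pullback i).obj (Twist.twistOver n S d))
  have hadd : ∀ c d : ℤ, PicF.cl (N (c + d)) = PicF.cl (N c) * PicF.cl (N d) := fun c d => by
    show PicF.pullCl a (PicF.pullCl i (PicF.cl (Twist.twistOver n S (c + d)))) = _
    rw [HilbStrat.ProjSpace.cl_twistOver_add, pullCl_mul, pullCl_mul]
    rfl
  have hpow : ∀ k : ℕ, PicF.cl (N (k : ℤ)) = PicF.cl (N 1) ^ k := fun k => by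
    show PicF.pullCl a (PicF.pullCl i (PicF.cl (Twist.twistOver n S (k : ℤ)))) = _
    rw [HilbStrat.ProjSpace.cl_twistOver_natCast, cl_tensorPow, pullCl_pow, pullCl_pow]
    rfl
  have hinv : ∀ d, PicF.IsInvertible (N d) := fun d => PicClLib.isInvertible_pullback _
    (PicClLib.isInvertible_pullback _ (HilbStrat.ProjSpace.isInvertible_twistOver d))
  obtain ⟨M, hM⟩ : ∃ M : ℕ, 0 ≤ m + M := ⟨(-m).toNat, by omega⟩
  let F' := CohB1.tensorMod F (N (-(M : ℤ)))
  haveI : IsProper (pullback.snd f' g) := inferInstance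
  obtain ⟨Q, hQ⟩ := HilbStrat.exists_poly_eulerChar (pullback.snd f' g) (hinv 1)
    (HilbSnap.isFP_tensor_invertible hF (hinv (-(M : ℤ)))) t
  have hcl : ∀ k : ℕ, PerfAux.eulerChar (pullback.snd f' g) (CohB1.tensorMod F' (CohB1.tensorPow (N 1) k)) t =
      PerfAux.eulerChar (pullback.snd f' g) (CohB1.tensorMod F (N ((k : ℤ) - M))) t := fun k => by
    refine HilbSnap.eulerChar_congr _ (cl_eq_iff.1 ?_).some t
    rw [cl_tensor, cl_tensor, cl_tensor, cl_tensorPow, ← hpow, mul_assoc, ← hadd,
      show -(M : ℤ) + k = k - M by ring]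
  have hQP : Q = Φ.comp (Polynomial.X - Polynomial.C (M : ℚ)) := HilbStrat.eq_of_eventually_eval_eq M fun k hk => by
    rw [← hQ k, hcl k, Polynomial.eval_comp, Polynomial.eval_sub, Polynomial.eval_X, Polynomial.eval_C,
      ← Nat.cast_sub hk, ← Nat.cast_sub (R := ℚ) hk, ← h (k - M)]
    refine congrArg (fun z : ℤ => (z : ℚ)) (HilbSnap.eulerChar_congr _ (cl_eq_iff.1 ?_).some t)
    rw [cl_tensor, cl_tensor, cl_tensorPow]
    exact congrArg (_ * ·) (hpow (k - M))
  have h' := hQ (m + M).toNat
  rw [hcl, hQP, Polynomial.eval_comp, Polynomial.eval_sub, Polynomial.eval_X, Polynomial.eval_C,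
    Int.toNat_of_nonneg hM, add_sub_cancel_right] at h'
  have hc : (((m + M).toNat : ℕ) : ℚ) = (m : ℚ) + (M : ℚ) := by
    have hc' : (((m + M).toNat : ℕ) : ℤ) = m + M := Int.toNat_of_nonneg hM
    exact_mod_cast hc'
  rwa [hc, add_sub_cancel_right] at h'

end Groth.Agent.QuotRep

end
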