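import Groth.Agent.QuotRep.CoreProper
import Groth.Agent.QuotRep.ZeroLocus
import Groth.Agent.HilbStrat.Euler

/-!
# Local properties of families of quotients
-/

set_option autoImplicit false
set_option linter.style.haveILetI false
set_option linter.unusedSectionVars false
set_option backward.isDefEq.respectTransparency false
set_option backward.isDefEq.respectTransparency.types false
set_option maxHeartbeats 1000000
set_option synthInstance.maxHeartbeats 400000

universe u

open CategoryTheory CategoryTheory.Limits AlgebraicGeometry TopologicalSpace Opposite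

attribute [-instance] CategoryTheory.catToReflQuiver

noncomputable section

namespace Groth.Agent.QuotRep

open Groth.Agent

theorem comp_eq_zero_of_sameQ_local {P : Scheme.{u}} {B F F' : P.Modules} {q : B ⟶ F} {q' : B ⟶ F'}
    (h : ∀ x : P, ∃ (Y : Scheme.{u}) (j : Y ⟶ P), IsOpenImmersion j ∧ x ∈ Set.range j ∧
      SameQ ((Scheme.Modules.pullback j).map q) ((Scheme.Modules.pullback j).map q')) :
    kernel.ι q ≫ q' = 0 := by
  refine eq_zero_of_restrict _ fun x => ?_
  obtain ⟨Y, j, hj, hx, e, he⟩ := h x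
  haveI := hj
  have h0 : (Scheme.Modules.pullback j).map (kernel.ι q ≫ q') = 0 := by
    rw [Functor.map_comp, ← he, ← Category.assoc, ← Functor.map_comp, kernel.condition, Functor.map_zero, zero_comp]
  have hr : Set.range j.opensRange.ι ⊆ Set.range j := by rw [Scheme.Opens.range_ι]; exact le_rfl
  refine ⟨j.opensRange, hx, ?_⟩
  rw [← IsOpenImmersion.lift_fac j j.opensRange.ι hr]
  exact pullback_map_eq_zero_comp (IsOpenImmersion.lift j j.opensRange.ι hr) j _ h0

/-- Quotients are equal when they are equal locally. -/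
theorem sameQ_of_local {P : Scheme.{u}} {B F F' : P.Modules} {q : B ⟶ F} {q' : B ⟶ F'} [Epi q] [Epi q']
    (h : ∀ x : P, ∃ (Y : Scheme.{u}) (j : Y ⟶ P), IsOpenImmersion j ∧ x ∈ Set.range j ∧
      SameQ ((Scheme.Modules.pullback j).map q) ((Scheme.Modules.pullback j).map q')) : SameQ q q' := by
  let d := Abelian.epiDesc q q' (comp_eq_zero_of_sameQ_local h)
  let d' := Abelian.epiDesc q' q (comp_eq_zero_of_sameQ_local fun x =>
    let ⟨Y, j, hj, hx, hs⟩ := h x; ⟨Y, j, hj, hx, hs.symm⟩)
  have hd : q ≫ d = q' := Abelian.comp_epiDesc _ _ _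
  have hd' : q' ≫ d' = q := Abelian.comp_epiDesc _ _ _
  refine ⟨⟨d, d', ?_, ?_⟩, hd⟩
  · rw [← cancel_epi q, ← Category.assoc, hd, hd', Category.comp_id]
  · rw [← cancel_epi q', ← Category.assoc, hd', hd, Category.comp_id]

variable {X S : Scheme.{u}} {f : X ⟶ S} {E L : X.Modules} {Φ : Polynomial ℚ}

theorem sameQ_of_pullQ_local {P : Scheme.{u}} {a : P ⟶ X} {F F' : P.Modules}
    {q : (Scheme.Modules.pullback a).obj E ⟶ F} {q' : (Scheme.Modules.pullback a).obj E ⟶ F'} [Epi q] [Epi q']
    (h : ∀ x : P, ∃ (Y : Scheme.{u}) (j : Y ⟶ P), IsOpenImmersion j ∧ x ∈ Set.range j ∧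
      SameQ (pullQ j a (j ≫ a) rfl q) (pullQ j a (j ≫ a) rfl q')) : SameQ q q' := by
  refine sameQ_of_local fun x => ?_
  obtain ⟨Y, j, hj, hx, e, he⟩ := h x
  refine ⟨Y, j, hj, hx, e, ?_⟩
  rw [pullQ, pullQ, Category.assoc, cancel_epi] at he
  exact he

/-- A family with the given polynomial at the points of the image pulls back to such a family. -/
theorem isQuot_pull_of_image [IsProper f] (hLi : PicF.IsInvertible L) {W T : Scheme.{u}} {qW : W ⟶ S}
    {FW : (pullback f qW).Modules} {πW : (Scheme.Modules.pullback (pullback.fst f qW)).obj E ⟶ FW}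
    [Epi πW] (hfp : CohB1.IsFP FW) (hfl : FlatMod.IsFlatOver (pullback.snd f qW) FW) {g : T ⟶ S} (h : T ⟶ W)
    (hg : h ≫ qW = g)
    (hpoly : ∀ (t : T) (j : ℕ), (PerfAux.eulerChar (pullback.snd f qW) (CohB1.tensorMod FW
      (CohB1.tensorPow ((Scheme.Modules.pullback (pullback.fst f qW)).obj L) j)) (h t) : ℚ) = Φ.eval (j : ℚ)) :
    IsQuot f L Φ g (pullQ (pullback.lift (pullback.fst f g) (pullback.snd f g ≫ h)
      (by rw [Category.assoc, hg, pullback.condition])) (pullback.fst f qW) (pullback.fst f g)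
        (pullback.lift_fst _ _ _) πW) :=
  ⟨epi_pullQ _ _ _ _ _, ModStLib.isFP_pullback _ hfp,
    fun x => MorLib.FlatBC.isFlatOverAt_baseChange _ _ _ _ (isPullback_lift h hg) _ x (hfl _),
    fun t j => (congrArg (Int.cast (R := ℚ)) (eulerChar_pullQ hLi h hg (QCoh.isQCoh_of_isFP hfp) t j)).trans
      (hpoly t j)⟩

/-- Locally constant families of functions on a locally noetherian scheme are simultaneously locally constant. -/
theorem exists_open_const {T : Scheme.{u}} [IsLocallyNoetherian T] {β γ : Type*} (φ : β → T → γ)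
    (hφ : ∀ j, IsLocallyConstant (φ j)) (t : T) :
    ∃ U : T.Opens, t ∈ U ∧ ∀ t' ∈ U, ∀ j, φ j t' = φ j t := by
  obtain ⟨V, hV, htV, -⟩ := exists_isAffineOpen_mem_and_subset (x := t) (U := ⊤) trivial
  haveI : IsNoetherianRing Γ(T, V) := IsLocallyNoetherian.component_noetherian ⟨V, hV⟩
  haveI : NoetherianSpace (V : Set T) := noetherianSpace_of_isAffineOpen V hV
  let C : Set (Set (V : Set T)) := {c | c ∈ irreducibleComponents (V : Set T) ∧ (⟨t, htV⟩ : (V : Set T)) ∉ c}
  have hfin : C.Finite := NoetherianSpace.finite_irreducibleComponents.subset fun c hc => hc.1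
  have hclosed : IsClosed (⋃₀ C) := by
    rw [Set.sUnion_eq_biUnion]
    exact hfin.isClosed_biUnion fun c hc => isClosed_of_mem_irreducibleComponents c hc.1
  refine ⟨⟨Subtype.val '' (⋃₀ C)ᶜ, V.2.isOpenMap_subtype_val _ hclosed.isOpen_compl⟩,
    ⟨⟨t, htV⟩, fun ⟨c, hc, htc⟩ => hc.2 htc, rfl⟩, ?_⟩
  rintro _ ⟨z, hz, rfl⟩ j
  have hzc := irreducibleComponent_mem_irreducibleComponents z
  have ht : (⟨t, htV⟩ : (V : Set T)) ∈ irreducibleComponent z := by
    by_contra hn
    exact hz ⟨_, ⟨hzc, hn⟩, mem_irreducibleComponent⟩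
  exact ((hφ j).comp_continuous continuous_subtype_val).apply_eq_of_isPreconnected
    isIrreducible_irreducibleComponent.isPreirreducible.isPreconnected mem_irreducibleComponent ht

theorem poly_ext_nat {P Q : Polynomial ℚ} (h : ∀ j : ℕ, P.eval (j : ℚ) = Q.eval (j : ℚ)) : P = Q :=
  HilbStrat.eq_of_eventually_eval_eq 0 fun j _ => h j

/-- The decomposition of the base of a family by Hilbert polynomials. -/
theorem exists_polyLocus [IsProper f] [LocallyOfFinitePresentation f] (hLi : PicF.IsInvertible L)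
    {T : Scheme.{u}} [IsLocallyNoetherian T] {g : T ⟶ S} {F : (pullback f g).Modules} (hfp : CohB1.IsFP F)
    (hfl : FlatMod.IsFlatOver (pullback.snd f g) F) :
    ∃ U : Polynomial ℚ → T.Opens, (∀ t, ∃ P, t ∈ U P) ∧ (∀ P P' t, t ∈ U P → t ∈ U P' → P = P') ∧
      ∀ P t, t ∈ U P ↔ ∀ j : ℕ, (PerfAux.eulerChar (pullback.snd f g) (CohB1.tensorMod F
        (CohB1.tensorPow ((Scheme.Modules.pullback (pullback.fst f g)).obj L) j)) t : ℚ) = P.eval (j : ℚ) := by
  haveI : IsProper (pullback.snd f g) := inferInstance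
  haveI : LocallyOfFinitePresentation (pullback.snd f g) := inferInstance
  have hLa := PicClLib.isInvertible_pullback (pullback.fst f g) hLi
  let e : ℕ → T → ℤ := fun j t => PerfAux.eulerChar (pullback.snd f g) (CohB1.tensorMod F
    (CohB1.tensorPow ((Scheme.Modules.pullback (pullback.fst f g)).obj L) j)) t
  have hlc : ∀ j, IsLocallyConstant (e j) := fun j =>
    PBC.isLocallyConstant_eulerChar _ _ (HilbSnap.isFP_tensor_invertible hfp (H23.PicMul.isInvertible_tensorPow hLa j))
      (TwistFlat.isFlatOver_tensor _ (H23.PicMul.isInvertible_tensorPow hLa j) hfl)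
  refine ⟨fun P => ⟨{t | ∀ j : ℕ, (e j t : ℚ) = P.eval (j : ℚ)}, ?_⟩, fun t => ?_, ?_, fun P t => Iff.rfl⟩
  · rw [isOpen_iff_forall_mem_open]
    intro t ht
    obtain ⟨U, htU, hU⟩ := exists_open_const e hlc t
    exact ⟨U, fun t' ht' j => by rw [hU t' ht' j]; exact ht j, U.2, htU⟩
  · obtain ⟨Q, hQ⟩ := HilbStrat.exists_poly_eulerChar (pullback.snd f g) hLa hfp t
    exact ⟨Q, hQ⟩
  · intro P P' t h h'
    exact poly_ext_nat fun j => (h j).symm.trans (h' j)

end Groth.Agent.QuotRep

end
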