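import Groth.Agent.QuotRep.QuotSigma
import Groth.Agent.QuotRep.QuotLocal
import Groth.Agent.QuotRep.QuotFGA
import Groth.Agent.FibFlatMod.CritMain

/-!
# The union of the schemes of quotients over all Hilbert polynomials
-/

set_option autoImplicit false
set_option linter.style.haveILetI false
set_option linter.unusedSectionVars false
set_option backward.isDefEq.respectTransparency false
set_option backward.isDefEq.respectTransparency.types false
set_option maxHeartbeats 1000000
set_option synthInstance.maxHeartbeats 400000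

universe u

open CategoryTheory CategoryTheory.Limits AlgebraicGeometry TopologicalSpace Opposite

attribute [-instance] CategoryTheory.catToReflQuiver

noncomputable section

namespace Groth.Agent.QuotRep

open Groth.Agent

variable {X S : Scheme.{u}} {f : X ⟶ S} {E L : X.Modules}

/-- The disjoint union of the schemes of quotients represents all flat families. -/
theorem exists_quot_all [IsProper f] [LocallyOfFinitePresentation f] (hLi : PicF.IsInvertible L)
    (R : ∀ (W : Scheme.{u}), (W ⟶ S) → Prop)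
    (hΦ : ∀ Φ : Polynomial ℚ, ∃ (W : Scheme.{u}) (qW : W ⟶ S), IsLocallyNoetherian W ∧
      ∃ (FW : (pullback f qW).Modules) (πW : (Scheme.Modules.pullback (pullback.fst f qW)).obj E ⟶ FW),
        IsUniv f L Φ qW πW ∧ R W qW) :
    ∃ (Q : Over S) (K : FGA.QuotSet f E Q), FGA.QuotRepresentedBy f E Q K ∧
      ∃ (ι : Type u) (P : ι → Scheme.{u}) (e : (∐ P) ≅ Q.left),
        ∀ a, R (P a) (Limits.Sigma.ι P a ≫ e.hom ≫ Q.hom) := by
  classical
  choose W qW hWn FW πW hW hR using fun k : ULift.{u} (Polynomial ℚ) => hΦ k.down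
  let Q₀ := ∐ W
  let qQ : Q₀ ⟶ S := Limits.Sigma.desc qW
  have hι : ∀ k, Limits.Sigma.ι W k ≫ qQ = qW k := fun k => Limits.Sigma.ι_desc _ _
  haveI : IsLocallyNoetherian Q₀ :=
    (isLocallyNoetherian_iff_openCover (sigmaOpenCover W)).2 fun k => hWn k
  let aK : ∀ k, pullback f (qW k) ⟶ pullback f qQ := fun k =>
    pullback.lift (pullback.fst f (qW k)) (pullback.snd f (qW k) ≫ Limits.Sigma.ι W k)
      (by rw [Category.assoc, hι, pullback.condition])
  have sqK : ∀ k, IsPullback (aK k) (pullback.snd f (qW k)) (pullback.snd f qQ) (Limits.Sigma.ι W k) :=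
    fun k => isPullback_lift _ (hι k)
  haveI : ∀ k, IsOpenImmersion (aK k) := fun k => MorphismProperty.of_isPullback (sqK k).flip inferInstance
  have haKr : ∀ k x, x ∈ Set.range (aK k) → pullback.snd f qQ x ∈ Set.range (Limits.Sigma.ι W k) := by
    rintro k _ ⟨z, rfl⟩
    exact ⟨pullback.snd f (qW k) z, by rw [← Scheme.Hom.comp_apply, ← Scheme.Hom.comp_apply, (sqK k).w]⟩
  haveI : ∀ k, Epi (πW k) := fun k => (hW k).1.epi
  obtain ⟨G, π, hπ, hGfp, hGπ⟩ := exists_sigma_quot aK (fun x => by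
      obtain ⟨k, z, hz⟩ := (sigmaOpenCover W).exists_eq (pullback.snd f qQ x)
      obtain ⟨w, hw, -⟩ := Scheme.exists_preimage_of_isPullback (sqK k) x z hz.symm
      exact ⟨k, w, hw⟩)
    (fun k k' hkk => Set.disjoint_left.2 fun x hx hx' => by
      have := disjoint_opensRange_sigmaι W k k' hkk
      exact Set.disjoint_left.1 (Opens.coe_disjoint.2 this) (haKr k x hx) (haKr k' x hx'))
    (pullback.fst f qQ) (fun k => pullback.fst f (qW k)) (fun k => pullback.lift_fst _ _ _) FW πW
    (fun k => (hW k).1.fp)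
  haveI := hπ
  have hGq := QCoh.isQCoh_of_isFP hGfp
  have hGfl : FlatMod.IsFlatOver (pullback.snd f qQ) G := fun x => by
    obtain ⟨k, z, hz⟩ := (sigmaOpenCover W).exists_eq (pullback.snd f qQ x)
    obtain ⟨w, hw, -⟩ := Scheme.exists_preimage_of_isPullback (sqK k) x z hz.symm
    obtain ⟨e, -⟩ := hGπ k
    rw [← hw]
    exact (FibFlatMod.flatAt_openImmersion (f := pullback.snd f qQ) (f' := pullback.snd f (qW k)) (jX := aK k)
      (jY := Limits.Sigma.ι W k) (sqK k).w.symm G w).1 (GrFlat5.isFlatOverAt_of_iso _ e.symm w ((hW k).1.flat w))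
  have hpolyQ : ∀ k z (j : ℕ), (PerfAux.eulerChar (pullback.snd f qQ) (CohB1.tensorMod G
      (CohB1.tensorPow ((Scheme.Modules.pullback (pullback.fst f qQ)).obj L) j)) (Limits.Sigma.ι W k z) : ℚ) =
      k.down.eval (j : ℚ) := fun k z j => by
    rw [← (hW k).1.poly z j, ← eulerChar_pullQ hLi (Limits.Sigma.ι W k) (hι k) hGq z j]
    obtain ⟨e, -⟩ := hGπ k
    exact congrArg (Int.cast (R := ℚ)) (HilbSnap.eulerChar_congr _ (PicGrp.tensorModIso e (Iso.refl _)) z)
  have hKs := sameQ_kernelSubobject π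
  have hKfp : CohB1.IsFP (cokernel (kernelSubobject π).arrow) := isFP_of_iso' hKs.choose hGfp
  haveI : IsLocallyNoetherian (PicF.XT f (Over.mk qQ)) :=
    LocallyOfFiniteType.isLocallyNoetherian (pullback.snd f qQ)
  refine ⟨Over.mk qQ, ⟨kernelSubobject π, QCoh.isCoh_iff_isFP.2 hKfp, fun x =>
      GrFlat5.isFlatOverAt_of_iso _ hKs.choose x (hGfl x)⟩, ⟨‹IsLocallyNoetherian Q₀›, fun T _ K' => ?_⟩,
    _, W, Iso.refl _, fun k => ?_⟩
  swap
  · show R (W k) (Limits.Sigma.ι W k ≫ (Iso.refl Q₀).hom ≫ qQ)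
    rw [Iso.refl_hom, Category.id_comp, hι]
    exact hR k
  let g := T.hom
  let q := cokernel.π K'.1.arrow
  have hfp : CohB1.IsFP (cokernel K'.1.arrow) := quotSet_isFP K'
  have hfl : FlatMod.IsFlatOver (pullback.snd f g) (cokernel K'.1.arrow) := K'.2.2
  obtain ⟨U, hUcov, hUdis, hUiff⟩ := exists_polyLocus hLi hfp hfl
  let O : ULift.{u} (Polynomial ℚ) → T.left.Opens := fun k => U k.down
  have hqU : ∀ k, IsQuot f L k.down ((O k).ι ≫ g) (pullQ (pullback.lift (pullback.fst f ((O k).ι ≫ g))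
      (pullback.snd f ((O k).ι ≫ g) ≫ (O k).ι) (by rw [Category.assoc, pullback.condition]))
      (pullback.fst f g) (pullback.fst f ((O k).ι ≫ g)) (pullback.lift_fst _ _ _) q) := fun k =>
    isQuot_pull_of_image hLi hfp hfl (O k).ι rfl fun t j => (hUiff _ _).1 t.2 j
  choose hk hkq hku using fun k => (hW k).2 _ _ _ _ (hqU k)
  obtain ⟨hcol⟩ := nonempty_isColimit_cofanMk_of (fun k => (O k).ι) (by
      refine top_le_iff.1 fun t _ => ?_
      obtain ⟨P, hP⟩ := hUcov t
      exact Opens.mem_iSup.2 ⟨⟨P⟩, ⟨⟨t, hP⟩, rfl⟩⟩) (fun i j hij => by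
      rw [Function.onFun, disjoint_iff, ← le_bot_iff]
      rintro t ⟨⟨a, ha⟩, ⟨b, hb⟩⟩
      refine (hij (ULift.ext _ _ (hUdis _ _ t ?_ ?_))).elim
      · rw [← ha]; exact a.2
      · rw [← hb]; exact b.2)
  let h : T.left ⟶ Q₀ := Cofan.IsColimit.desc hcol fun k => hk k ≫ Limits.Sigma.ι W k
  have hh : ∀ k, (O k).ι ≫ h = hk k ≫ Limits.Sigma.ι W k := fun k => Cofan.IsColimit.fac hcol _ k
  have hg : h ≫ qQ = g := Cofan.IsColimit.hom_ext hcol _ _ fun k => by
    obtain ⟨hg', -⟩ := hkq k
    show (O k).ι ≫ h ≫ qQ = (O k).ι ≫ g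
    rw [← Category.assoc, hh, Category.assoc, hι, hg']
  -- the pullback along a map with the same restrictions
  have key : ∀ (h' : T.left ⟶ Q₀) (hg' : h' ≫ qQ = g) (k) (l : (O k : Scheme.{u}) ⟶ W k)
      (hl : l ≫ Limits.Sigma.ι W k = (O k).ι ≫ h') (hl' : l ≫ qW k = (O k).ι ≫ g),
      SameQ (pullQ (pullback.lift (pullback.fst f ((O k).ι ≫ g)) (pullback.snd f ((O k).ι ≫ g) ≫ (O k).ι)
          (by rw [Category.assoc, pullback.condition])) (pullback.fst f g) (pullback.fst f ((O k).ι ≫ g))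
          (pullback.lift_fst _ _ _) (pullQ (pullback.lift (pullback.fst f g) (pullback.snd f g ≫ h')
            (by rw [Category.assoc, hg', pullback.condition])) (pullback.fst f qQ) (pullback.fst f g)
            (pullback.lift_fst _ _ _) π))
        (pullQ (pullback.lift (pullback.fst f ((O k).ι ≫ g)) (pullback.snd f ((O k).ι ≫ g) ≫ l)
          (by rw [Category.assoc, hl', pullback.condition])) (pullback.fst f (qW k))
          (pullback.fst f ((O k).ι ≫ g)) (pullback.lift_fst _ _ _) (πW k)) := fun h' hg' k l hl hl' => by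
    let m₁ : pullback f ((O k).ι ≫ g) ⟶ pullback f qQ :=
      pullback.lift (pullback.fst f ((O k).ι ≫ g)) (pullback.snd f ((O k).ι ≫ g) ≫ (O k).ι ≫ h')
        (by rw [Category.assoc, Category.assoc, hg']; exact pullback.condition)
    refine (sameQ_pullQ_pullQ _ _ _ _ _ _ _ m₁ (pullback.hom_ext ?_ ?_) π).trans ?_
    · rw [Category.assoc, pullback.lift_fst, pullback.lift_fst, pullback.lift_fst]
    · rw [Category.assoc, pullback.lift_snd, pullback.lift_snd, pullback.lift_snd_assoc, Category.assoc]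
    refine (sameQ_pullQ_pullQ _ (aK k) (pullback.fst f qQ) (pullback.fst f (qW k)) (pullback.lift_fst _ _ _) _
      (pullback.lift_fst _ _ _) m₁ (pullback.hom_ext ?_ ?_) π).symm.trans (SameQ.pullQ _ _ _ (hGπ k))
    · rw [Category.assoc, pullback.lift_fst, pullback.lift_fst, pullback.lift_fst]
    · rw [Category.assoc, pullback.lift_snd, pullback.lift_snd, pullback.lift_snd_assoc, Category.assoc, hl]
  refine ⟨Over.homMk h hg, ?_, fun g' hgq => ?_⟩
  · show FGA.quotPull f E (T := Over.mk qQ) (Over.homMk h hg) (kernelSubobject π) = K'.1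
    rw [quotPull_eq_iff]
    refine (SameQ.pullQ _ _ _ hKs.symm).trans ?_
    refine (sameQ_pullQ_congr (XTmap_eq (f := f) (Over.homMk (V := Over.mk qQ) h hg)) _ _ _
      (pullback.lift_fst _ _ _) _).trans ?_
    haveI := epi_pullQ (pullback.lift (pullback.fst f g) (pullback.snd f g ≫ h)
      (by rw [Category.assoc, hg, pullback.condition])) (pullback.fst f qQ) (pullback.fst f g)
      (pullback.lift_fst _ _ _) π
    show SameQ (pullQ (pullback.lift (pullback.fst f g) (pullback.snd f g ≫ h)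
      (by rw [Category.assoc, hg, pullback.condition])) (pullback.fst f qQ) (pullback.fst f g)
      (pullback.lift_fst _ _ _) π) q
    refine sameQ_of_pullQ_local fun x => ?_
    obtain ⟨P, hP⟩ := hUcov (pullback.snd f g x)
    let k : ULift.{u} (Polynomial ℚ) := ⟨P⟩
    obtain ⟨hg', hkq'⟩ := hkq k
    have sq := isPullback_lift (f := f) (g := (O k).ι ≫ g) (qW := g) (O k).ι rfl
    obtain ⟨w, hw, -⟩ := Scheme.exists_preimage_of_isPullback sq x ⟨pullback.snd f g x, hP⟩ rfl
    refine ⟨_, pullback.lift (pullback.fst f ((O k).ι ≫ g)) (pullback.snd f ((O k).ι ≫ g) ≫ (O k).ι)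
      (by rw [Category.assoc, pullback.condition]), MorphismProperty.of_isPullback sq.flip inferInstance,
      ⟨w, hw⟩, ?_⟩
    have e := (key h hg k (hk k) (hh k).symm hg').trans hkq'
    convert e using 3
    simp
  · refine Over.OverMorphism.ext (Cofan.IsColimit.hom_ext hcol _ _ fun k => ?_)
    have hgl : g'.left ≫ qQ = g := Over.w g'
    have hs := (sameQ_pullQ_congr (XTmap_eq (f := f) g').symm (pullback.fst f qQ) (pullback.fst f g)
      (pullback.lift_fst _ _ _) (FGA.XTmap_fst f g') π).trans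
      ((SameQ.pullQ _ _ _ hKs).trans ((quotPull_eq_iff g' (kernelSubobject π) K'.1).1 hgq))
    show (O k).ι ≫ g'.left = (O k).ι ≫ h
    rw [hh]
    have hr : Set.range ((O k).ι ≫ g'.left) ⊆ Set.range (Limits.Sigma.ι W k) := by
      rintro _ ⟨t, rfl⟩
      obtain ⟨k', z, hz⟩ := (sigmaOpenCover W).exists_eq (g'.left ((O k).ι t))
      have hP : (O k).ι t ∈ U k'.down := (hUiff _ _).2 fun j => by
        rw [← hpolyQ k' z j, show Limits.Sigma.ι W k' z = g'.left ((O k).ι t) from hz,
          ← eulerChar_pullQ hLi g'.left hgl hGq ((O k).ι t) j]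
        obtain ⟨e, -⟩ := hs
        exact congrArg (Int.cast (R := ℚ)) (HilbSnap.eulerChar_congr _ (PicGrp.tensorModIso e.symm (Iso.refl _)) _)
      have hkk : k' = k := ULift.ext _ _ (hUdis _ _ _ hP t.2)
      subst hkk
      exact ⟨z, hz⟩
    let l := IsOpenImmersion.lift (Limits.Sigma.ι W k) ((O k).ι ≫ g'.left) hr
    have hl : l ≫ Limits.Sigma.ι W k = (O k).ι ≫ g'.left := IsOpenImmersion.lift_fac _ _ _
    have hl' : l ≫ qW k = (O k).ι ≫ g := by rw [← hι, ← Category.assoc, hl, Category.assoc, hgl]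
    rw [← hku k l ⟨hl', (key g'.left hgl k l hl hl').symm.trans (SameQ.pullQ _ _ _ hs)⟩, hl]

end Groth.Agent.QuotRep

end
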