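import Groth.Agent.QuotRep.CoreProper
import Groth.Agent.KFlatLib.Scheme.PullTensorCx
import Groth.Agent.AmpleVan.Tw
import Groth.Agent.HilbStrat.Euler

/-!
# Twisting families of quotients
-/

set_option autoImplicit false
set_option linter.style.haveILetI false
set_option linter.unusedSectionVars false
set_option backward.isDefEq.respectTransparency false
set_option backward.isDefEq.respectTransparency.types false
set_option maxHeartbeats 1000000
set_option synthInstance.maxHeartbeats 400000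

universe u

open CategoryTheory CategoryTheory.Limits AlgebraicGeometry TopologicalSpace Opposite

attribute [-instance] CategoryTheory.catToReflQuiver

noncomputable section

namespace Groth.Agent.QuotRep

open Groth.Agent Groth.Agent.KFlatLib Groth.Agent.H23.PicMul

variable {X P P' : Scheme.{u}}

theorem pullSec_eq_pb {Y Z : Scheme.{u}} (φ : Z ⟶ Y) (N : Y.Modules) (V : Y.Opens) (x : Γ(N, V)) :
    QCoh.pullSec φ N (le_rfl : φ ⁻¹ᵁ V ≤ φ ⁻¹ᵁ V) x = pb φ (M := N) x :=
  ConcreteCategory.congr_hom (((Scheme.Modules.pullback φ).obj N).presheaf.map_id (op (φ ⁻¹ᵁ V))) _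

theorem trIso_pb (a' : P' ⟶ P) (a : P ⟶ X) (M : X.Modules) {W : X.Opens}
    (s : (DCoh.toP.obj M).obj (op W)) :
    ((DCoh.toP.map ((LimMod.trIso a' a (a' ≫ a) rfl).hom.app M)).app (op (a' ⁻¹ᵁ (a ⁻¹ᵁ W)))) (pb a' (pb a s)) =
      (show (DCoh.toP.obj ((Scheme.Modules.pullback (a' ≫ a)).obj M)).obj (op (a' ⁻¹ᵁ (a ⁻¹ᵁ W))) from
        pb (a' ≫ a) s) := by
  have key := LimMod.tr_pullSec a' a (a' ≫ a) rfl (G := M) (U := W) (O := a ⁻¹ᵁ W) (O' := a' ⁻¹ᵁ (a ⁻¹ᵁ W))
    le_rfl le_rfl le_rfl s
  rw [pullSec_eq_pb] at key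
  refine Eq.trans ?_ (key.trans (pullSec_eq_pb (a' ≫ a) M W s))
  refine (congrArg (fun z => ((LimMod.trIso a' a (a' ≫ a) rfl).hom.app M).app (a' ⁻¹ᵁ (a ⁻¹ᵁ W)) z)
    (pullSec_eq_pb a' _ (a ⁻¹ᵁ W) _).symm).trans ?_
  rfl

/-- Pullback of tensor products is compatible with composition. -/
theorem pullTensorHom_comp (a' : P' ⟶ P) (a : P ⟶ X) (c : P' ⟶ X) (h : a' ≫ a = c) (M N : X.Modules) :
    (LimMod.trIso a' a c h).hom.app ((DCoh.tensorBi.obj M).obj N) ≫ pullTensorHom c M N =
      (Scheme.Modules.pullback a').map (pullTensorHom a M N) ≫ pullTensorHom a' _ _ ≫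
        (DCoh.tensorBi.map ((LimMod.trIso a' a c h).hom.app M)).app _ ≫
          (DCoh.tensorBi.obj _).map ((LimMod.trIso a' a c h).hom.app N) := by
  subst h
  apply ((Scheme.Modules.pullbackPushforwardAdjunction a').homEquiv _ _).injective
  refine pullback_tensor_ext a fun W s t => ?_
  change (DCoh.toP.map (pullTensorHom (a' ≫ a) M N)).app (op (a' ⁻¹ᵁ (a ⁻¹ᵁ W)))
      ((DCoh.toP.map ((LimMod.trIso a' a (a' ≫ a) rfl).hom.app _)).app (op (a' ⁻¹ᵁ (a ⁻¹ᵁ W)))
        (pb a' (pb a (tmSh M N s t)))) =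
    (DCoh.toP.map ((DCoh.tensorBi.obj _).map ((LimMod.trIso a' a (a' ≫ a) rfl).hom.app N))).app _
      ((DCoh.toP.map ((DCoh.tensorBi.map ((LimMod.trIso a' a (a' ≫ a) rfl).hom.app M)).app _)).app _
        ((DCoh.toP.map (pullTensorHom a' _ _)).app _
          ((DCoh.toP.map ((Scheme.Modules.pullback a').map (pullTensorHom a M N))).app _
            (pb a' (pb a (tmSh M N s t))))))
  rw [← pb_naturality, pullTensorHom_pb, pullTensorHom_pb, trIso_pb a' a _ (tmSh M N s t)]
  refine (pullTensorHom_pb (a' ≫ a) M N s t).trans (Eq.symm ?_)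
  refine (congrArg _ (tmSh_naturality_left _ _ _ _)).trans ((tmSh_naturality_right _ _ _ _).trans ?_)
  exact congrArg₂ (tmSh _ _) (trIso_pb a' a M s) (trIso_pb a' a N t)

variable {E M : X.Modules}

/-- The twist of a quotient. -/
def twQ (a : P ⟶ X) {F : P.Modules} (q : (Scheme.Modules.pullback a).obj E ⟶ F) :
    (Scheme.Modules.pullback a).obj (CohB1.tensorMod E M) ⟶
      CohB1.tensorMod F ((Scheme.Modules.pullback a).obj M) :=
  pullTensorHom a E M ≫ (DCoh.tensorBi.map q).app _

theorem epi_twQ (hM : PicF.IsInvertible M) (a : P ⟶ X) {F : P.Modules}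
    (q : (Scheme.Modules.pullback a).obj E ⟶ F) [Epi q] : Epi (twQ (M := M) a q) := by
  haveI := AmpleVan.isEquivalence_tw (PicClLib.isInvertible_pullback a hM)
  haveI : Epi ((DCoh.tensorBi.map q).app ((Scheme.Modules.pullback a).obj M)) :=
    inferInstanceAs (Epi ((AmpleVan.tw ((Scheme.Modules.pullback a).obj M)).map q))
  exact epi_comp _ _

theorem sameQ_twQ_iff (hM : PicF.IsInvertible M) (a : P ⟶ X) {F F' : P.Modules}
    (q : (Scheme.Modules.pullback a).obj E ⟶ F) (q' : (Scheme.Modules.pullback a).obj E ⟶ F') :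
    SameQ (twQ (M := M) a q) (twQ (M := M) a q') ↔ SameQ q q' := by
  let T := AmpleVan.tw ((Scheme.Modules.pullback a).obj M)
  haveI : T.IsEquivalence := AmpleVan.isEquivalence_tw (PicClLib.isInvertible_pullback a hM)
  constructor
  · rintro ⟨e, he⟩
    refine ⟨T.preimageIso e, T.map_injective ?_⟩
    rw [T.map_comp, Functor.preimageIso_hom, T.map_preimage]
    rw [twQ, twQ, Category.assoc, cancel_epi] at he
    exact he
  · rintro ⟨e, rfl⟩
    refine ⟨T.mapIso e, ?_⟩
    rw [twQ, twQ, Category.assoc]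
    exact congrArg (pullTensorHom a E M ≫ ·) (T.map_comp q e.hom).symm

theorem exists_untwist (hM : PicF.IsInvertible M) (a : P ⟶ X) {F' : P.Modules}
    (q' : (Scheme.Modules.pullback a).obj (CohB1.tensorMod E M) ⟶ F') [Epi q'] :
    ∃ (F : P.Modules) (q : (Scheme.Modules.pullback a).obj E ⟶ F), Epi q ∧ SameQ (twQ (M := M) a q) q' := by
  let T := AmpleVan.tw ((Scheme.Modules.pullback a).obj M)
  haveI : T.IsEquivalence := AmpleVan.isEquivalence_tw (PicClLib.isInvertible_pullback a hM)
  let q₁ : T.obj ((Scheme.Modules.pullback a).obj E) ⟶ T.obj (T.objPreimage F') :=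
    inv (pullTensorHom a E M) ≫ q' ≫ (T.objObjPreimageIso F').inv
  haveI : Epi q' := inferInstance
  haveI : Epi q₁ := epi_comp' inferInstance (epi_comp' inferInstance inferInstance)
  refine ⟨T.objPreimage F', T.preimage q₁, T.epi_of_epi_map (by rw [T.map_preimage]; infer_instance),
    T.objObjPreimageIso F', ?_⟩
  show (pullTensorHom a E M ≫ T.map (T.preimage q₁)) ≫ (T.objObjPreimageIso F').hom = q'
  rw [T.map_preimage]
  simp [q₁]

theorem pullQ_twQ (a' : P' ⟶ P) (a : P ⟶ X) (c : P' ⟶ X) (h : a' ≫ a = c) {F : P.Modules}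
    (π : (Scheme.Modules.pullback a).obj E ⟶ F) :
    SameQ (pullQ a' a c h (twQ (M := M) a π)) (twQ (M := M) c (pullQ a' a c h π)) := by
  let τ := LimMod.trIso a' a c h
  let pE := (Scheme.Modules.pullback a').obj ((Scheme.Modules.pullback a).obj E)
  refine ⟨asIso (pullTensorHom a' F ((Scheme.Modules.pullback a).obj M)) ≪≫
    (DCoh.tensorBi.obj _).mapIso (τ.app M), ?_⟩
  show (τ.inv.app _ ≫ (Scheme.Modules.pullback a').map (pullTensorHom a E M ≫ (DCoh.tensorBi.map π).app _)) ≫
    pullTensorHom a' F _ ≫ (DCoh.tensorBi.obj _).map (τ.hom.app M) = _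
  rw [← cancel_epi (τ.hom.app (CohB1.tensorMod E M)), Category.assoc]
  refine (Iso.hom_inv_id_app_assoc τ _ _).trans ?_
  rw [Functor.map_comp, Category.assoc]
  have n1 : (Scheme.Modules.pullback a').map ((DCoh.tensorBi.map π).app ((Scheme.Modules.pullback a).obj M)) ≫
      pullTensorHom a' F _ = pullTensorHom a' _ _ ≫
        (DCoh.tensorBi.map ((Scheme.Modules.pullback a').map π)).app _ :=
    congr_app ((pullTensorBiIso a').hom.naturality π) ((Scheme.Modules.pullback a).obj M)
  have n2 : (DCoh.tensorBi.map ((Scheme.Modules.pullback a').map π)).app _ ≫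
      (DCoh.tensorBi.obj _).map (τ.hom.app M) =
      (DCoh.tensorBi.obj pE).map (τ.hom.app M) ≫
        (DCoh.tensorBi.map ((Scheme.Modules.pullback a').map π)).app _ :=
    ((DCoh.tensorBi.map ((Scheme.Modules.pullback a').map π)).naturality (τ.hom.app M)).symm
  show _ = τ.hom.app (CohB1.tensorMod E M) ≫ pullTensorHom c E M ≫
    (DCoh.tensorBi.map (τ.inv.app E ≫ (Scheme.Modules.pullback a').map π)).app _
  rw [← Category.assoc ((Scheme.Modules.pullback a').map ((DCoh.tensorBi.map π).app _)), n1, Category.assoc]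
  refine (congrArg (fun t => (Scheme.Modules.pullback a').map (pullTensorHom a E M) ≫ pullTensorHom a' _ _ ≫ t)
    n2).trans (Eq.symm ?_)
  refine ((Category.assoc _ _ _).symm.trans (congrArg (· ≫ _) (pullTensorHom_comp a' a c h E M))).trans ?_
  simp only [Category.assoc]
  refine congrArg (fun t => (Scheme.Modules.pullback a').map (pullTensorHom a E M) ≫ pullTensorHom a' _ _ ≫ t) ?_
  refine (congrArg (· ≫ _) rfl).trans ?_
  have h3 := (DCoh.tensorBi.map (τ.hom.app E)).naturality (τ.hom.app M)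
  refine (Category.assoc _ _ _).symm.trans ((congrArg (· ≫ _) h3.symm).trans ((Category.assoc _ _ _).trans ?_))
  refine congrArg ((DCoh.tensorBi.obj pE).map (τ.hom.app M) ≫ ·) ?_
  refine (NatTrans.comp_app _ _ _).symm.trans (congrArg (fun t => NatTrans.app t _) ?_)
  refine (DCoh.tensorBi.map_comp _ _).symm.trans (congrArg DCoh.tensorBi.map ?_)
  exact Iso.hom_inv_id_app_assoc τ E _

variable {S : Scheme.{u}} {f : X ⟶ S} {L : X.Modules} {Φ : Polynomial ℚ}

theorem eulerChar_twist_add (_hLi : PicF.IsInvertible L) {T : Scheme.{u}} {g : T ⟶ S} (F : (pullback f g).Modules)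
    (l j : ℕ) (t : T) :
    PerfAux.eulerChar (pullback.snd f g) (CohB1.tensorMod
        (CohB1.tensorMod F ((Scheme.Modules.pullback (pullback.fst f g)).obj (CohB1.tensorPow L l)))
        (CohB1.tensorPow ((Scheme.Modules.pullback (pullback.fst f g)).obj L) j)) t =
      PerfAux.eulerChar (pullback.snd f g) (CohB1.tensorMod F
        (CohB1.tensorPow ((Scheme.Modules.pullback (pullback.fst f g)).obj L) (l + j))) t := by
  refine HilbSnap.eulerChar_congr _ (cl_eq_iff.1 ?_).some t
  rw [cl_tensor, cl_tensor, cl_tensor, cl_tensorPow, cl_tensorPow, pow_add, mul_assoc]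
  refine congrArg (fun y => PicF.cl F * (y * _)) ?_
  show PicF.pullCl (pullback.fst f g) (PicF.cl (CohB1.tensorPow L l)) = _
  rw [cl_tensorPow, pullCl_pow]
  rfl

variable [IsProper f] [LocallyOfFinitePresentation f]

theorem IsQuot.twist (hLi : PicF.IsInvertible L) {T : Scheme.{u}} {g : T ⟶ S} {F : (pullback f g).Modules}
    {q : (Scheme.Modules.pullback (pullback.fst f g)).obj E ⟶ F} (hq : IsQuot f L Φ g q) (l : ℕ) :
    IsQuot f L (Φ.comp (Polynomial.X + Polynomial.C (l : ℚ))) g
      (twQ (M := CohB1.tensorPow L l) (pullback.fst f g) q) := by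
  haveI := hq.epi
  have hN := PicClLib.isInvertible_pullback (pullback.fst f g) (H23.PicMul.isInvertible_tensorPow hLi l)
  refine ⟨epi_twQ (H23.PicMul.isInvertible_tensorPow hLi l) _ q, HilbSnap.isFP_tensor_invertible hq.fp hN,
    TwistFlat.isFlatOver_tensor _ hN hq.flat, fun t j => ?_⟩
  rw [eulerChar_twist_add hLi F l j t, hq.poly t (l + j)]
  simp [add_comm]

theorem IsQuot.untwist (hLi : PicF.IsInvertible L) {T : Scheme.{u}} {g : T ⟶ S} {F : (pullback f g).Modules}
    {q : (Scheme.Modules.pullback (pullback.fst f g)).obj E ⟶ F} [Epi q] {l : ℕ}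
    (hq : IsQuot f L (Φ.comp (Polynomial.X + Polynomial.C (l : ℚ))) g
      (twQ (M := CohB1.tensorPow L l) (pullback.fst f g) q)) :
    IsQuot f L Φ g q := by
  have hM := H23.PicMul.isInvertible_tensorPow hLi l
  have hN := PicClLib.isInvertible_pullback (pullback.fst f g) hM
  obtain ⟨D, hD, ⟨e⟩⟩ := H23.PicInv.exists_inverse hN
  obtain ⟨η⟩ : Nonempty (CohB1.tensorMod (CohB1.tensorMod F
      ((Scheme.Modules.pullback (pullback.fst f g)).obj (CohB1.tensorPow L l))) D ≅ F) := by
    refine cl_eq_iff.1 ?_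
    rw [cl_tensor, cl_tensor, mul_assoc, ← cl_tensor, cl_eq_iff.2 ⟨e⟩]
    exact mul_one _
  have hfp : CohB1.IsFP F := isFP_of_iso' η (HilbSnap.isFP_tensor_invertible hq.fp hD)
  have hfl : FlatMod.IsFlatOver (pullback.snd f g) F := fun x =>
    GrFlat5.isFlatOverAt_of_iso _ η x (TwistFlat.isFlatOver_tensor _ hD hq.flat x)
  refine ⟨inferInstance, hfp, hfl, fun t j => ?_⟩
  haveI : IsProper (pullback.snd f g) := inferInstance
  obtain ⟨R, hR⟩ := HilbStrat.exists_poly_eulerChar (pullback.snd f g)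
    (PicClLib.isInvertible_pullback (pullback.fst f g) hLi) hfp t
  have hRΦ : R = Φ := HilbStrat.eq_of_eventually_eval_eq l fun k hk => by
    have h := hq.poly t (k - l)
    rw [eulerChar_twist_add hLi F l (k - l) t, Nat.add_sub_cancel' hk, hR k, Polynomial.eval_comp,
      Polynomial.eval_add, Polynomial.eval_X, Polynomial.eval_C, Nat.cast_sub hk, sub_add_cancel] at h
    exact h
  rw [hR j, hRΦ]

/-- A universal family of twisted quotients gives a universal family of quotients. -/
theorem IsUniv.untwist (hLi : PicF.IsInvertible L) {l : ℕ} {W : Scheme.{u}} {qW : W ⟶ S}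
    {FW : (pullback f qW).Modules}
    {πW : (Scheme.Modules.pullback (pullback.fst f qW)).obj (CohB1.tensorMod E (CohB1.tensorPow L l)) ⟶ FW}
    (hW : IsUniv f L (Φ.comp (Polynomial.X + Polynomial.C (l : ℚ))) qW πW) :
    ∃ (F₀ : (pullback f qW).Modules) (π₀ : (Scheme.Modules.pullback (pullback.fst f qW)).obj E ⟶ F₀),
      IsUniv f L Φ qW π₀ := by
  have hM := H23.PicMul.isInvertible_tensorPow hLi l
  haveI := hW.1.epi
  obtain ⟨F₀, π₀, h₀, hs⟩ := exists_untwist hM (pullback.fst f qW) πW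
  haveI := h₀
  refine ⟨F₀, π₀, IsQuot.untwist hLi (hW.1.of_sameQ hs.symm), fun T g F q hq => ?_⟩
  obtain ⟨h, ⟨hg, hh⟩, hu⟩ := hW.2 T g _ _ (hq.twist hLi l)
  have conv : ∀ (k : T ⟶ W) (hk : k ≫ qW = g),
      SameQ (pullQ (pullback.lift (pullback.fst f g) (pullback.snd f g ≫ k)
          (by rw [Category.assoc, hk, pullback.condition])) (pullback.fst f qW) (pullback.fst f g)
          (pullback.lift_fst _ _ _) π₀) q ↔
        SameQ (pullQ (pullback.lift (pullback.fst f g) (pullback.snd f g ≫ k)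
          (by rw [Category.assoc, hk, pullback.condition])) (pullback.fst f qW) (pullback.fst f g)
          (pullback.lift_fst _ _ _) πW) (twQ (M := CohB1.tensorPow L l) (pullback.fst f g) q) := fun k hk => by
    rw [← sameQ_twQ_iff hM]
    obtain ⟨e, he⟩ := hs
    have h1 := pullQ_twQ (M := CohB1.tensorPow L l) (pullback.lift (pullback.fst f g) (pullback.snd f g ≫ k)
      (by rw [Category.assoc, hk, pullback.condition])) (pullback.fst f qW) (pullback.fst f g)
      (pullback.lift_fst _ _ _) π₀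
    have h2 : SameQ (pullQ (pullback.lift (pullback.fst f g) (pullback.snd f g ≫ k)
        (by rw [Category.assoc, hk, pullback.condition])) (pullback.fst f qW) (pullback.fst f g)
        (pullback.lift_fst _ _ _) (twQ (M := CohB1.tensorPow L l) (pullback.fst f qW) π₀))
        (pullQ (pullback.lift (pullback.fst f g) (pullback.snd f g ≫ k)
        (by rw [Category.assoc, hk, pullback.condition])) (pullback.fst f qW) (pullback.fst f g)
        (pullback.lift_fst _ _ _) πW) := ⟨(Scheme.Modules.pullback _).mapIso e, by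
      refine (Category.assoc _ _ _).trans (congrArg (fun t => _ ≫ t) ?_)
      rw [Functor.mapIso_hom, ← Functor.map_comp, he]⟩
    exact ⟨fun hq' => (h2.symm.trans h1).trans hq', fun hq' => (h1.symm.trans h2).trans hq'⟩
  exact ⟨h, ⟨hg, (conv h hg).2 hh⟩, fun k ⟨hk, hkk⟩ => hu k ⟨hk, (conv k hk).1 hkk⟩⟩

end Groth.Agent.QuotRep

end
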