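import Groth.Agent.QuotRep.ZeroLocus
import Groth.Agent.AmpleX.Rel
import Groth.Agent.AmpleX.FTQuot
import Groth.Agent.AmpleX.Comp
import Groth.Agent.HilbStrat.ProjSpace
import Groth.Agent.KFlatLib.Perfect.LocFree
import Groth.Prelude.Def_FGA

/-!
# Zero loci for families over a noetherian base with a relatively ample module
-/

set_option autoImplicit false
set_option linter.style.haveILetI false
set_option linter.unusedSectionVars false
set_option backward.isDefEq.respectTransparency false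
set_option backward.isDefEq.respectTransparency.types false
set_option maxHeartbeats 1000000
set_option synthInstance.maxHeartbeats 400000

universe u

open CategoryTheory CategoryTheory.Limits AlgebraicGeometry TopologicalSpace Opposite
open scoped Groth.Agent.H23.PicMul

attribute [-instance] CategoryTheory.catToReflQuiver

noncomputable section

namespace Groth.Agent.QuotRep

open Groth.Agent Groth.Agent.QCoh

section Data

variable {X S : Scheme.{u}} (f : X ⟶ S) [IsProper f] [LocallyOfFinitePresentation f] [IsNoetherian S]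
  {L : X.Modules} (hLi : PicF.IsInvertible L) (hL : RelAmple.IsRelAmple f L)

include hLi hL in
/-- Over a noetherian base with a relatively ample module, high twists are generated by finitely many
sections over the members of a fixed affine cover, also after base change. -/
theorem exists_twist_generators {E : X.Modules} (hE : Coh.IsQCoh E) (hft : CohB1.IsFT E) :
    ∃ (σ : Finset S.affineOpens) (n₀ : ℕ), (∀ s : S, ∃ S₀ ∈ σ, s ∈ (S₀ : S.affineOpens).1) ∧
      ∀ n, n₀ ≤ n → ∀ S₀ ∈ σ, ∀ {Y T : Scheme.{u}} (a : Y ⟶ X) (b : Y ⟶ T) (g : T ⟶ S), a ≫ f = b ≫ g →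
        ∀ V : T.Opens, V ≤ g ⁻¹ᵁ (S₀ : S.affineOpens).1 →
          ∃ (N : ℕ) (p : FlatMod.freeMod (b ⁻¹ᵁ V : Scheme.{u}) N ⟶
            CohB1.tensorMod ((Scheme.Modules.pullback (b ⁻¹ᵁ V).ι).obj ((Scheme.Modules.pullback a).obj E))
              ((Scheme.Modules.pullback (b ⁻¹ᵁ V).ι).obj ((Scheme.Modules.pullback a).obj (CohB1.tensorPow L n)))),
            Epi p := by
  classical
  have h1 : ∀ W : S.affineOpens, ∃ n₀ : ℕ, ∀ n, n₀ ≤ n → ∃ (G : (f ⁻¹ᵁ W.1 : Scheme.{u}).Modules)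
      (_ : G ≅ CohB1.tensorMod ((Scheme.Modules.pullback (f ⁻¹ᵁ W.1).ι).obj E)
        (CohB1.tensorPow ((Scheme.Modules.pullback (f ⁻¹ᵁ W.1).ι).obj L) n))
      (N : ℕ) (p : FlatMod.freeMod (f ⁻¹ᵁ W.1 : Scheme.{u}) N ⟶ G), Epi p := fun W => by
    let j := (f ⁻¹ᵁ W.1).ι
    have hA : CohB1.IsAmple ((Scheme.Modules.pullback j).obj L) :=
      AmpleX.isAmple_of_iso ((Scheme.Modules.restrictFunctorIsoPullback j).app L) (hL.2 W)
    haveI : CompactSpace ((f ⁻¹ᵁ W.1 : X.Opens) : Scheme.{u}) :=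
      isCompact_iff_compactSpace.1 (f.isCompact_preimage W.2.isCompact)
    haveI := AmpleX.isSeparated_of_isAmple hA
    obtain ⟨n₀, hn⟩ := AmpleX.eventually_generated_fin hA (QCoh.isQCoh_pullback j hE)
      (KFlatLib.isFT_of_iso' ((Scheme.Modules.restrictFunctorIsoPullback j).app E) (AmpleX.isFT_restrict' j hE hft))
    refine ⟨n₀, fun n hle => ?_⟩
    obtain ⟨G, iso, N, s, hs⟩ := hn n hle
    obtain ⟨p, hp⟩ := InvX.exists_epi_freeMod hs
    exact ⟨G, iso, N, p, hp⟩
  choose n₀ hn₀ using h1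
  obtain ⟨σ, hσ⟩ := (isCompact_univ (X := S)).elim_finite_subcover (fun V : S.affineOpens => (V.1 : Set S))
    (fun V => V.1.2) fun x _ => by
      obtain ⟨W, hW, hx⟩ := QCoh.exists_affine_mem x
      exact Set.mem_iUnion.2 ⟨⟨W, hW⟩, hx⟩
  refine ⟨σ, σ.sup n₀, fun s => ?_, fun n hn S₀ hS₀ Y T a b g w V hV => ?_⟩
  · obtain ⟨W, hW, hsW⟩ := Set.mem_iUnion₂.1 (hσ (Set.mem_univ s))
    exact ⟨W, hW, hsW⟩
  obtain ⟨G, iso, N, p, hp⟩ := hn₀ S₀ n ((Finset.le_sup hS₀).trans hn)
  let U := b ⁻¹ᵁ V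
  let j := (f ⁻¹ᵁ S₀.1).ι
  have hr : Set.range (U.ι ≫ a).base ⊆ Set.range j.base := by
    rintro _ ⟨z, rfl⟩
    rw [Scheme.Opens.range_ι]
    have h2 : g (b z.1) ∈ S₀.1 := hV z.2
    rw [← Scheme.Hom.comp_apply, ← w, Scheme.Hom.comp_apply] at h2
    exact h2
  let k := IsOpenImmersion.lift j (U.ι ≫ a) hr
  have hk : k ≫ j = U.ι ≫ a := IsOpenImmersion.lift_fac _ _ _
  obtain ⟨e⟩ := H23.PicMul.cl_eq_iff.1 (show PicF.cl ((Scheme.Modules.pullback k).obj G) =
      PicF.cl (CohB1.tensorMod ((Scheme.Modules.pullback U.ι).obj ((Scheme.Modules.pullback a).obj E))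
        ((Scheme.Modules.pullback U.ι).obj ((Scheme.Modules.pullback a).obj (CohB1.tensorPow L n)))) by
    show PicF.pullCl k (PicF.cl G) = _
    rw [H23.PicMul.cl_eq_iff.2 ⟨iso⟩, H23.PicMul.cl_tensor, H23.PicMul.cl_tensor, H23.PicMul.pullCl_mul,
      H23.PicMul.cl_tensorPow]
    refine congrArg₂ (· * ·) ?_ ?_
    · show PicF.pullCl k (PicF.pullCl j (PicF.cl E)) = PicF.pullCl U.ι (PicF.pullCl a (PicF.cl E))
      rw [PicClLib.pullCl_comp, PicClLib.pullCl_comp, hk]
    · show PicF.pullCl k (PicF.pullCl j (PicF.cl L) ^ n) =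
        PicF.pullCl U.ι (PicF.pullCl a (PicF.cl (CohB1.tensorPow L n)))
      rw [H23.PicMul.cl_tensorPow, PicClLib.pullCl_comp, ← H23.PicMul.pullCl_pow, PicClLib.pullCl_comp, hk])
  haveI := (Scheme.Modules.pullbackPushforwardAdjunction k).isLeftAdjoint
  haveI : Epi ((Scheme.Modules.pullback k).map p) := inferInstance
  exact ⟨N, (KFlatLib.pullFreeIso k N).inv ≫ (Scheme.Modules.pullback k).map p ≫ e.hom, inferInstance⟩

include hLi hL in
/-- Uniform vanishing on the fibres of a base change. -/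
theorem exists_twist_vanishing {F : X.Modules} (hF : Coh.IsCoh F) :
    ∃ n₀ : ℕ, ∀ n, n₀ ≤ n → ∀ {Y T : Scheme.{u}} (a : Y ⟶ X) (b : Y ⟶ T) (g : T ⟶ S) (_ : IsPullback a b f g)
      (V : T.Opens) (hV : IsAffineOpen V) (y : Spec Γ(T, V)),
      CohIII.fiberRank (QCoh.overSpec b hV)
        (CohB1.tensorMod ((Scheme.Modules.pullback (b ⁻¹ᵁ V).ι).obj ((Scheme.Modules.pullback a).obj F))
          ((Scheme.Modules.pullback (b ⁻¹ᵁ V).ι).obj ((Scheme.Modules.pullback a).obj (CohB1.tensorPow L n)))) 1 y = 0 := by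
  haveI : IsLocallyNoetherian X := LocallyOfFiniteType.isLocallyNoetherian f
  obtain ⟨N, hN⟩ := HilbSnap.exists_uniform_fiber_vanishing f hLi hL hF
  refine ⟨N, fun n hn Y T a b g h V hV y => ?_⟩
  have sq := (QCoh.isPullback_overSpec (f := b) hV).paste_horiz h
  obtain ⟨e⟩ := H23.PicMul.cl_eq_iff.1 (show
    PicF.cl ((Scheme.Modules.pullback ((b ⁻¹ᵁ V).ι ≫ a)).obj (CohB1.tensorMod F (CohB1.tensorPow L n))) =
      PicF.cl (CohB1.tensorMod ((Scheme.Modules.pullback (b ⁻¹ᵁ V).ι).obj ((Scheme.Modules.pullback a).obj F))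
        ((Scheme.Modules.pullback (b ⁻¹ᵁ V).ι).obj ((Scheme.Modules.pullback a).obj (CohB1.tensorPow L n)))) by
    show PicF.pullCl ((b ⁻¹ᵁ V).ι ≫ a) (PicF.cl (CohB1.tensorMod F (CohB1.tensorPow L n))) = _
    rw [H23.PicMul.cl_tensor, H23.PicMul.cl_tensor, H23.PicMul.pullCl_mul]
    exact (congrArg₂ (· * ·) (PicClLib.pullCl_comp _ _ _) (PicClLib.pullCl_comp _ _ _)).symm)
  exact (PBC.fiberRank_congr _ e 1 y).symm.trans ((PBC.fiberRank_bc sq
    (KFlatLib.isQCoh_tensor hF.1 (ProjUPX.isQCoh_of_isInvertible (H23.PicMul.isInvertible_tensorPow hLi n))) 1 y).trans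
    (hN n hn _ 0))

end Data

section Proj

variable {S : Scheme.{u}} [IsNoetherian S] {n : ℕ} {X : Scheme.{u}} (i : X ⟶ CohB1.ProjSpaceOver n S)
  [IsClosedImmersion i]

local notation "π" => CohB1.ProjSpaceOver.toBase n S

theorem isProper_comp : IsProper (i ≫ π) := by
  haveI := TwistFlat.isProper_toBase n (Y := S)
  infer_instance

theorem lfp_comp : LocallyOfFinitePresentation (i ≫ π) := by
  haveI := TwistFlat.isProper_toBase n (Y := S)
  haveI : IsLocallyNoetherian (CohB1.ProjSpaceOver n S) := LocallyOfFiniteType.isLocallyNoetherian π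
  haveI := HilbStrat.ProjSpace.lfp_toBase (n := n) (S := S)
  infer_instance

theorem isInvertible_O1 : PicF.IsInvertible ((Scheme.Modules.pullback i).obj (Twist.twistOver n S 1)) :=
  PicClLib.isInvertible_pullback i (HilbStrat.ProjSpace.isInvertible_twistOver 1)

theorem isRelAmple_O1 : RelAmple.IsRelAmple (i ≫ π) ((Scheme.Modules.pullback i).obj (Twist.twistOver n S 1)) :=
  AmpleX.isRelAmple_pullback_embedding π i i.isClosedEmbedding.isEmbedding (TwistFlat.isRelAmple_twistOver n)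

/-- The zero locus of a map between base changes, the target being flat. -/
theorem exists_zeroLocus_proj (E F : X.Modules) (hE : Coh.IsCoh E) (hF : Coh.IsCoh F)
    (hFl : FlatMod.IsFlatOver (i ≫ π) F) (T : Over S) (f : FGA.ET (i ≫ π) E T ⟶ FGA.ET (i ≫ π) F T) :
    ∃ (T' : Over S) (c : T' ⟶ T), IsClosedImmersion c.left ∧ LocallyOfFinitePresentation c.left ∧
      ∀ (U : Over S) (g : U ⟶ T),
        (Scheme.Modules.pullback (PicF.XTmap (i ≫ π) g)).map f = 0 ↔ ∃ h : U ⟶ T', h ≫ c = g := by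
  haveI := isProper_comp i
  haveI := lfp_comp i
  haveI : IsLocallyNoetherian X := LocallyOfFiniteType.isLocallyNoetherian (i ≫ π)
  have hLi := isInvertible_O1 i
  have hL := isRelAmple_O1 i
  obtain ⟨σ, n₁, hσ, hgen⟩ := exists_twist_generators (i ≫ π) hLi hL hE.1 (QCoh.isFT_of_isFP (QCoh.isCoh_iff_isFP.1 hE))
  obtain ⟨n₂, hvan⟩ := exists_twist_vanishing (i ≫ π) hLi hL hF
  let a := pullback.fst (i ≫ π) T.hom
  let b : PicF.XT (i ≫ π) T ⟶ T.left := pullback.snd (i ≫ π) T.hom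
  haveI : IsProper b := inferInstanceAs (IsProper (pullback.snd (i ≫ π) T.hom))
  haveI : LocallyOfFinitePresentation b :=
    inferInstanceAs (LocallyOfFinitePresentation (pullback.snd (i ≫ π) T.hom))
  let Q := CohB1.tensorPow ((Scheme.Modules.pullback i).obj (Twist.twistOver n S 1)) (max n₁ n₂)
  obtain ⟨Z, c, hc, hc', huniv⟩ := exists_zeroLocus (f := b)
    (ModStLib.isFP_pullback a (QCoh.isCoh_iff_isFP.1 hF))
    (fun x => MorLib.FlatBC.isFlatOverAt_baseChange (i ≫ π) b a T.hom (IsPullback.of_hasPullback _ _) F x (hFl _))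
    f fun t => by
      obtain ⟨S₀, hS₀, hts⟩ := hσ (T.hom t)
      obtain ⟨_, ⟨V, hV, rfl⟩, htV, hVS⟩ :=
        T.left.isBasis_affineOpens.exists_subset_of_mem_open (show t ∈ T.hom ⁻¹ᵁ S₀.1 from hts) (T.hom ⁻¹ᵁ S₀.1).2
      obtain ⟨N, p, hp⟩ := hgen (max n₁ n₂) (le_max_left _ _) S₀ hS₀ a b T.hom pullback.condition V hVS
      exact ⟨V, hV, _, N, p, htV, PicClLib.isInvertible_pullback _
          (PicClLib.isInvertible_pullback a (H23.PicMul.isInvertible_tensorPow hLi _)), hp,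
        fun y => hvan (max n₁ n₂) (le_max_right _ _) a b T.hom (IsPullback.of_hasPullback _ _) V hV y⟩
  refine ⟨Over.mk (c ≫ T.hom), Over.homMk c rfl, hc, hc', fun U g => ?_⟩
  have hw : PicF.XTmap (i ≫ π) g ≫ pullback.fst (i ≫ π) T.hom = pullback.fst (i ≫ π) U.hom :=
    (pullback.lift_fst _ _ _).trans (Category.comp_id _)
  have sq : IsPullback (PicF.XTmap (i ≫ π) g) (pullback.snd (i ≫ π) U.hom) b g.left := by
    refine IsPullback.of_right ?_ (pullback.lift_snd _ _ _) (IsPullback.of_hasPullback (i ≫ π) T.hom)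
    rw [hw, Over.w g]
    exact IsPullback.of_hasPullback _ _
  rw [pullback_map_eq_zero_iff_of_iso sq.isoPullback sq.isoPullback_hom_fst, ← huniv g.left]
  constructor
  · rintro ⟨h, hh⟩
    exact ⟨Over.homMk h (by show h ≫ c ≫ T.hom = U.hom; rw [reassoc_of% hh, Over.w g]), Over.OverMorphism.ext hh⟩
  · rintro ⟨h, rfl⟩
    exact ⟨h.left, rfl⟩

end Proj

end Groth.Agent.QuotRep

end
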