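import Groth.Agent.QuotRep.Core
import Groth.Agent.QuotRep.BdMain
import Groth.Agent.QuotRep.TwistQ
import Groth.Agent.QuotRep.QuotFGA
import Groth.Agent.QuotRep.ZeroLocusApps
import Groth.Agent.QuotRep.QuotAll

/-!
# Quot schemes of closed subschemes of projective space
-/

set_option autoImplicit false
set_option linter.style.haveILetI false
set_option linter.unusedSectionVars false
set_option backward.isDefEq.respectTransparency false
set_option backward.isDefEq.respectTransparency.types false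
set_option maxHeartbeats 1000000
set_option synthInstance.maxHeartbeats 400000

universe u

open CategoryTheory CategoryTheory.Limits AlgebraicGeometry TopologicalSpace Opposite

attribute [-instance] CategoryTheory.catToReflQuiver

noncomputable section

namespace Groth.Agent.QuotRep

open Groth.Agent Groth.Agent.H23.PicMul

/-- The projective scheme of quotients with a given Hilbert polynomial of a quotient of twisted
structure modules. -/
theorem exists_quot_proj {S : Scheme.{u}} [IsNoetherian S] {n : ℕ} {X : Scheme.{u}}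
    (i : X ⟶ CohB1.ProjSpaceOver n S) [IsClosedImmersion i] {E : X.Modules} (hE : Coh.IsCoh E) {p : ℕ} {ν : ℤ}
    (q : (∐ fun _ : Fin p => (Scheme.Modules.pullback i).obj (Twist.twistOver n S ν)) ⟶ E) [Epi q]
    (Φ : Polynomial ℚ) :
    ∃ (W : Scheme.{u}) (qW : W ⟶ S), IsLocallyNoetherian W ∧
      ∃ (FW : (pullback (i ≫ CohB1.ProjSpaceOver.toBase n S) qW).Modules)
        (πW : (Scheme.Modules.pullback (pullback.fst (i ≫ CohB1.ProjSpaceOver.toBase n S) qW)).obj E ⟶ FW),
        IsUniv (i ≫ CohB1.ProjSpaceOver.toBase n S) ((Scheme.Modules.pullback i).obj (Twist.twistOver n S 1)) Φ qW πW ∧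
          ∃ (m : ℕ) (c : W ⟶ CohB1.ProjSpaceOver m S),
            IsClosedImmersion c ∧ c ≫ CohB1.ProjSpaceOver.toBase m S = qW := by
  let f := i ≫ CohB1.ProjSpaceOver.toBase n S
  let L := (Scheme.Modules.pullback i).obj (Twist.twistOver n S 1)
  haveI : IsProper f := isProper_comp i
  haveI : LocallyOfFinitePresentation f := lfp_comp i
  haveI : IsLocallyNoetherian X := LocallyOfFiniteType.isLocallyNoetherian f
  have hLi : PicF.IsInvertible L := isInvertible_O1 i
  have hL : RelAmple.IsRelAmple f L := isRelAmple_O1 i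
  obtain ⟨L₀, hL₀⟩ := exists_bd.{u} n p (Φ.comp (Polynomial.X - Polynomial.C (ν : ℚ)))
  let l : ℕ := max L₀ ν.toNat
  obtain ⟨l', hl'⟩ : ∃ l' : ℕ, (l' : ℤ) = (l : ℤ) - ν :=
    ⟨((l : ℤ) - ν).toNat, Int.toNat_of_nonneg (by omega)⟩
  obtain ⟨r, N, z, hbd⟩ := hL₀ l (le_max_left _ _)
  let c := i ≫ pullback.fst (CohB1.ProjSpace.toSpec n (ULift.{u} ℤ)) (specULiftZIsTerminal.from S)
  let A := AmpleVan.tw (CohB1.tensorPow L l)
  let T := AmpleVan.tw (CohB1.tensorPow L l')
  haveI : A.IsEquivalence := AmpleVan.isEquivalence_tw (H23.PicMul.isInvertible_tensorPow hLi l)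
  haveI : T.IsEquivalence := AmpleVan.isEquivalence_tw (H23.PicMul.isInvertible_tensorPow hLi l')
  have hOne : PicF.pullCl c (PicF.cl (Twist.twistProjSpace n (ULift.{u} ℤ) 1)) = PicF.cl L :=
    (PicClLib.pullCl_comp i _ _).symm
  obtain ⟨e₁⟩ := cl_eq_iff.1 (show PicF.cl ((Scheme.Modules.pullback c).obj (Mz n p l)) =
      PicF.cl (A.obj (FlatMod.freeMod X p)) by
    show PicF.pullCl c (PicF.cl (Mz n p l)) = PicF.cl (CohB1.tensorMod (FlatMod.freeMod X p) (CohB1.tensorPow L l))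
    rw [cl_tensor, cl_tensor, pullCl_mul, cl_tensorPow, pullCl_pow, hOne, cl_tensorPow]
    exact congrArg (· * _) (cl_eq_iff.2 ⟨KFlatLib.pullFreeIso c p⟩))
  obtain ⟨e₂⟩ := cl_eq_iff.1 (show PicF.cl (A.obj (Coh.structureModule X)) =
      PicF.cl (T.obj ((Scheme.Modules.pullback i).obj (Twist.twistOver n S ν))) by
    show PicF.cl (CohB1.tensorMod (Coh.structureModule X) (CohB1.tensorPow L l)) =
      PicF.cl (CohB1.tensorMod ((Scheme.Modules.pullback i).obj (Twist.twistOver n S ν)) (CohB1.tensorPow L l'))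
    have h1 : ∀ k : ℕ, PicF.cl (CohB1.tensorPow L k) = PicF.pullCl i (PicF.cl (Twist.twistOver n S (k : ℤ))) :=
      fun k => by
        rw [HilbStrat.ProjSpace.cl_twistOver_natCast, cl_tensorPow, cl_tensorPow, pullCl_pow]
        rfl
    rw [cl_tensor, cl_tensor, h1, h1, show PicF.cl ((Scheme.Modules.pullback i).obj (Twist.twistOver n S ν)) =
      PicF.pullCl i (PicF.cl (Twist.twistOver n S ν)) from rfl, ← pullCl_mul,
      ← HilbStrat.ProjSpace.cl_twistOver_add, hl', show ν + ((l : ℤ) - ν) = (l : ℤ) by ring]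
    exact one_mul _)
  let θ : (Scheme.Modules.pullback c).obj (Mz n p l) ≅
      T.obj (∐ fun _ : Fin p => (Scheme.Modules.pullback i).obj (Twist.twistOver n S ν)) :=
    e₁ ≪≫ PreservesCoproduct.iso A _ ≪≫ Sigma.mapIso (fun _ => e₂) ≪≫ (PreservesCoproduct.iso T _).symm
  let e : (Scheme.Modules.pullback c).obj (Mz n p l) ⟶ CohB1.tensorMod E (CohB1.tensorPow L l') := θ.hom ≫ T.map q
  haveI : Epi (T.map q) := inferInstance
  haveI : Epi e := epi_comp _ _
  have hbd' : Bd f (CohB1.tensorMod E (CohB1.tensorPow L l')) L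
      (fun j => e.app ⊤ (pullTop c (Mz n p l) (z j))) r (Φ.comp (Polynomial.X + Polynomial.C (l' : ℚ))) := by
    have h := hbd i (CohB1.tensorMod E (CohB1.tensorPow L l')) e
    have hq : (l' : ℚ) = (l : ℚ) - (ν : ℚ) := by exact_mod_cast hl'
    rwa [show (Φ.comp (Polynomial.X - Polynomial.C (ν : ℚ))).comp (Polynomial.X + Polynomial.C (l : ℚ)) =
      Φ.comp (Polynomial.X + Polynomial.C (l' : ℚ)) by
        rw [Polynomial.comp_assoc]
        congr 1
        rw [hq, Polynomial.sub_comp, Polynomial.X_comp, Polynomial.C_comp, Polynomial.C_sub]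
        ring] at h
  obtain ⟨W, qW, hWn, FW, πW, hW, hemb⟩ := exists_quot_univ hLi hL
    (HilbSnap.isFP_tensor_invertible (QCoh.isCoh_iff_isFP.1 hE) (H23.PicMul.isInvertible_tensorPow hLi l'))
    _ hbd'
  obtain ⟨F₀, π₀, h₀⟩ := hW.untwist hLi
  exact ⟨W, qW, hWn, F₀, π₀, h₀, hemb⟩

/-- The fibrewise Hilbert polynomial of a family in the two normalisations. -/
theorem isQuot_iff_eulerCharLE {S : Scheme.{u}} [IsNoetherian S] {n : ℕ} {X : Scheme.{u}}
    (i : X ⟶ CohB1.ProjSpaceOver n S) [IsClosedImmersion i] {E : X.Modules} (Φ : Polynomial ℚ)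
    (T : Over S) [IsLocallyNoetherian T.left] (K : FGA.QuotSet (i ≫ CohB1.ProjSpaceOver.toBase n S) E T) :
    IsQuot (i ≫ CohB1.ProjSpaceOver.toBase n S) ((Scheme.Modules.pullback i).obj (Twist.twistOver n S 1)) Φ T.hom
        (cokernel.π K.1.arrow) ↔
      ∀ (t : T.left) (m : ℤ), (FGA.eulerCharLE (T.left.residueField t)
        (FGA.fibreAt (i ≫ CohB1.ProjSpaceOver.toBase n S) T t).left
        (CohB1.tensorMod (FGA.restrFibre (i ≫ CohB1.ProjSpaceOver.toBase n S) T t (cokernel K.1.arrow))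
          (FGA.restrFibre (i ≫ CohB1.ProjSpaceOver.toBase n S) T t (FGA.ET (i ≫ CohB1.ProjSpaceOver.toBase n S)
            ((Scheme.Modules.pullback i).obj (Twist.twistOver n S m)) T))) n : ℚ) = Φ.eval (m : ℚ) := by
  haveI : IsProper (i ≫ CohB1.ProjSpaceOver.toBase n S) := isProper_comp i
  haveI : LocallyOfFinitePresentation (i ≫ CohB1.ProjSpaceOver.toBase n S) := lfp_comp i
  have hfp := quotSet_isFP K
  have key : ∀ (t : T.left) (m : ℤ), FGA.eulerCharLE (T.left.residueField t)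
      (FGA.fibreAt (i ≫ CohB1.ProjSpaceOver.toBase n S) T t).left
      (CohB1.tensorMod (FGA.restrFibre (i ≫ CohB1.ProjSpaceOver.toBase n S) T t (cokernel K.1.arrow))
        (FGA.restrFibre (i ≫ CohB1.ProjSpaceOver.toBase n S) T t (FGA.ET (i ≫ CohB1.ProjSpaceOver.toBase n S)
          ((Scheme.Modules.pullback i).obj (Twist.twistOver n S m)) T))) n =
      PerfAux.eulerChar (pullback.snd (i ≫ CohB1.ProjSpaceOver.toBase n S) T.hom)
        (CohB1.tensorMod (cokernel K.1.arrow) (FGA.ET (i ≫ CohB1.ProjSpaceOver.toBase n S)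
          ((Scheme.Modules.pullback i).obj (Twist.twistOver n S m)) T)) t := fun t m =>
    eulerCharLE_restr T t (dim_fibreAt i T t) (QCoh.isQCoh_of_isFP hfp)
      (PicClLib.isInvertible_pullback _ (PicClLib.isInvertible_pullback _
        (HilbStrat.ProjSpace.isInvertible_twistOver m)))
  constructor
  · intro h t m
    rw [key]
    exact eulerChar_int i T.hom hfp t (fun j => h.poly t j) m
  · intro h
    refine ⟨inferInstance, hfp, K.2.2, fun t j => ?_⟩
    have := h t (j : ℤ)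
    rw [key, Int.cast_natCast] at this
    rw [← this]
    refine congrArg (Int.cast (R := ℚ)) (HilbSnap.eulerChar_congr _ (cl_eq_iff.1 ?_).some t)
    rw [cl_tensor, cl_tensor, cl_tensorPow]
    refine congrArg (_ * ·) ?_
    show PicF.pullCl _ (PicF.pullCl i (PicF.cl (Twist.twistOver n S 1))) ^ j =
      PicF.pullCl _ (PicF.pullCl i (PicF.cl (Twist.twistOver n S (j : ℤ))))
    rw [HilbStrat.ProjSpace.cl_twistOver_natCast, cl_tensorPow, pullCl_pow, pullCl_pow]

/-- The Quot scheme of a fixed Hilbert polynomial. -/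
theorem exists_quotSet_proj {S : Scheme.{u}} [IsNoetherian S] {n : ℕ} {X : Scheme.{u}}
    (i : X ⟶ CohB1.ProjSpaceOver n S) [IsClosedImmersion i] {E : X.Modules} (hE : Coh.IsCoh E) {p : ℕ} {ν : ℤ}
    (q : (∐ fun _ : Fin p => (Scheme.Modules.pullback i).obj (Twist.twistOver n S ν)) ⟶ E) [Epi q]
    (Φ : Polynomial ℚ) :
    ∃ (Q : Over S) (K : FGA.QuotSet (i ≫ CohB1.ProjSpaceOver.toBase n S) E Q), IsLocallyNoetherian Q.left ∧
      IsQuot (i ≫ CohB1.ProjSpaceOver.toBase n S) ((Scheme.Modules.pullback i).obj (Twist.twistOver n S 1)) Φ Q.hom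
        (cokernel.π K.1.arrow) ∧
      (∀ (T : Over S) [IsLocallyNoetherian T.left] (K' : FGA.QuotSet (i ≫ CohB1.ProjSpaceOver.toBase n S) E T),
        IsQuot (i ≫ CohB1.ProjSpaceOver.toBase n S) ((Scheme.Modules.pullback i).obj (Twist.twistOver n S 1)) Φ T.hom
          (cokernel.π K'.1.arrow) →
        ∃! g : T ⟶ Q, FGA.quotPull (i ≫ CohB1.ProjSpaceOver.toBase n S) E g K.1 = K'.1) ∧
      ∃ (m : ℕ) (c : Q.left ⟶ CohB1.ProjSpaceOver m S),
        IsClosedImmersion c ∧ c ≫ CohB1.ProjSpaceOver.toBase m S = Q.hom := by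
  haveI : IsProper (i ≫ CohB1.ProjSpaceOver.toBase n S) := isProper_comp i
  haveI : LocallyOfFinitePresentation (i ≫ CohB1.ProjSpaceOver.toBase n S) := lfp_comp i
  obtain ⟨W, qW, hWn, FW, πW, hW, hemb⟩ := exists_quot_proj i hE q Φ
  haveI := hWn
  obtain ⟨K, hK, hu⟩ := exists_quotSet_univ hW
  exact ⟨Over.mk qW, K, hWn, hK, hu, hemb⟩

/-- The Quot scheme of a quotient of twisted structure modules. -/
theorem exists_quotRepresented {S : Scheme.{u}} [IsNoetherian S] {n : ℕ} {X : Scheme.{u}}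
    (i : X ⟶ CohB1.ProjSpaceOver n S) [IsClosedImmersion i] {f : X ⟶ S}
    (hf : i ≫ CohB1.ProjSpaceOver.toBase n S = f) {E : X.Modules} (hE : Coh.IsCoh E) {p : ℕ} {ν : ℤ}
    (q : (∐ fun _ : Fin p => (Scheme.Modules.pullback i).obj (Twist.twistOver n S ν)) ⟶ E) [Epi q] :
    ∃ (Q : Over S) (K : FGA.QuotSet f E Q), FGA.QuotRepresentedBy f E Q K ∧
      ∃ (ι : Type u) (P : ι → Scheme.{u}) (e : (∐ P) ≅ Q.left) (m : ι → ℕ)
        (c : ∀ a, P a ⟶ CohB1.ProjSpaceOver (m a) S),
        ∀ a, IsClosedImmersion (c a) ∧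
          c a ≫ CohB1.ProjSpaceOver.toBase (m a) S = Limits.Sigma.ι P a ≫ e.hom ≫ Q.hom := by
  subst hf
  haveI : IsProper (i ≫ CohB1.ProjSpaceOver.toBase n S) := isProper_comp i
  haveI : LocallyOfFinitePresentation (i ≫ CohB1.ProjSpaceOver.toBase n S) := lfp_comp i
  obtain ⟨Q, K, hQK, ι, P, e, hc⟩ := exists_quot_all (E := E) (isInvertible_O1 i)
    (fun W qW => ∃ (m : ℕ) (c : W ⟶ CohB1.ProjSpaceOver m S),
      IsClosedImmersion c ∧ c ≫ CohB1.ProjSpaceOver.toBase m S = qW)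
    fun Φ => exists_quot_proj i hE q Φ
  choose m c hm hcq using hc
  exact ⟨Q, K, hQK, ι, P, e, m, c, fun a => ⟨hm a, hcq a⟩⟩

/-- The trivial presentation of a twisted free module on projective space. -/
theorem exists_epi_free_twist (S : Scheme.{u}) (n r : ℕ) (l : ℤ) :
    ∃ q : (∐ fun _ : Fin r => (Scheme.Modules.pullback (𝟙 (CohB1.ProjSpaceOver n S))).obj
        (Twist.twistOver n S l)) ⟶
      CohB1.tensorMod (FlatMod.freeMod (CohB1.ProjSpaceOver n S) r) (Twist.twistOver n S l), Epi q := by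
  let T := AmpleVan.tw (Twist.twistOver n S l)
  haveI : T.IsEquivalence := AmpleVan.isEquivalence_tw (HilbStrat.ProjSpace.isInvertible_twistOver l)
  obtain ⟨e⟩ := cl_eq_iff.1 (show PicF.cl ((Scheme.Modules.pullback (𝟙 (CohB1.ProjSpaceOver n S))).obj
      (Twist.twistOver n S l)) = PicF.cl (T.obj (Coh.structureModule (CohB1.ProjSpaceOver n S))) by
    refine (cl_eq_iff.2 ⟨(Scheme.Modules.pullbackId _).app _⟩).trans ?_
    show _ = PicF.cl (CohB1.tensorMod (Coh.structureModule _) (Twist.twistOver n S l))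
    rw [cl_tensor]
    exact (one_mul _).symm)
  let θ : (∐ fun _ : Fin r => (Scheme.Modules.pullback (𝟙 (CohB1.ProjSpaceOver n S))).obj
      (Twist.twistOver n S l)) ≅ T.obj (FlatMod.freeMod (CohB1.ProjSpaceOver n S) r) :=
    Sigma.mapIso (fun _ => e) ≪≫ (PreservesCoproduct.iso T _).symm
  exact ⟨θ.hom, inferInstance⟩

/-- Over an affine base every coherent module is a quotient of a sum of copies of one twist. -/
theorem exists_epi_twists_affine {S : Scheme.{u}} [IsAffine S] [IsNoetherian S] {n : ℕ} {X : Scheme.{u}}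
    (i : X ⟶ CohB1.ProjSpaceOver n S) [IsClosedImmersion i] {E : X.Modules} (hE : Coh.IsCoh E) :
    ∃ (p : ℕ) (ν : ℤ) (q : (∐ fun _ : Fin p => (Scheme.Modules.pullback i).obj (Twist.twistOver n S ν)) ⟶ E),
      Epi q := by
  haveI : IsProper (i ≫ CohB1.ProjSpaceOver.toBase n S) := isProper_comp i
  haveI : CompactSpace X := QuasiCompact.compactSpace_of_compactSpace (i ≫ CohB1.ProjSpaceOver.toBase n S)
  have hA := (AmpleX.isRelAmple_iff_isAmple (i ≫ CohB1.ProjSpaceOver.toBase n S) _).1 (isRelAmple_O1 i)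
  haveI := AmpleX.isSeparated_of_isAmple hA
  obtain ⟨n₀, hn⟩ := AmpleX.eventually_generated_fin hA hE.1 hE.2
  obtain ⟨G, iso, N, s, hs⟩ := hn n₀ le_rfl
  obtain ⟨p, hp⟩ := InvX.exists_epi_freeMod hs
  let O' := (Scheme.Modules.pullback i).obj (Twist.twistOver n S (-(n₀ : ℤ)))
  let T := AmpleVan.tw O'
  have hO : PicF.IsInvertible O' :=
    PicClLib.isInvertible_pullback _ (HilbStrat.ProjSpace.isInvertible_twistOver _)
  haveI : T.IsEquivalence := AmpleVan.isEquivalence_tw hO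
  obtain ⟨η⟩ := cl_eq_iff.1 (show PicF.cl (T.obj G) = PicF.cl E by
    show PicF.cl (CohB1.tensorMod G O') = _
    rw [cl_tensor, cl_eq_iff.2 ⟨iso⟩, cl_tensor, cl_tensorPow]
    show _ * PicF.pullCl i (PicF.cl (Twist.twistOver n S 1)) ^ n₀ *
      PicF.pullCl i (PicF.cl (Twist.twistOver n S (-(n₀ : ℤ)))) = _
    rw [← pullCl_pow, ← cl_tensorPow, ← HilbStrat.ProjSpace.cl_twistOver_natCast, mul_assoc, ← pullCl_mul,
      ← HilbStrat.ProjSpace.cl_twistOver_add, show (n₀ : ℤ) + -(n₀ : ℤ) = ((0 : ℕ) : ℤ) by simp,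
      HilbStrat.ProjSpace.cl_twistOver_natCast, cl_tensorPow, pow_zero, pullCl_one, mul_one])
  obtain ⟨e⟩ := cl_eq_iff.1 (show PicF.cl O' = PicF.cl (T.obj (Coh.structureModule X)) by
    show _ = PicF.cl (CohB1.tensorMod (Coh.structureModule _) O')
    rw [cl_tensor]
    exact (one_mul _).symm)
  haveI := hp
  let θ : (∐ fun _ : Fin N => O') ≅ T.obj (FlatMod.freeMod X N) :=
    Sigma.mapIso (fun _ => e) ≪≫ (PreservesCoproduct.iso T _).symm
  exact ⟨N, -(n₀ : ℤ), θ.hom ≫ T.map p ≫ η.hom, inferInstance⟩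

end Groth.Agent.QuotRep

end
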