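import Groth.Agent.QuotRep.QuotFun
import Groth.Agent.QuotRep.QuotMain

/-!
# Quot schemes over general noetherian bases
-/

set_option autoImplicit false
set_option linter.style.haveILetI false
set_option linter.unusedSectionVars false
set_option backward.isDefEq.respectTransparency false
set_option backward.isDefEq.respectTransparency.types false
set_option maxHeartbeats 1000000
set_option synthInstance.maxHeartbeats 400000

universe u

open CategoryTheory CategoryTheory.Limits AlgebraicGeometry TopologicalSpace Opposite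

attribute [-instance] CategoryTheory.catToReflQuiver

noncomputable section

namespace Groth.Agent.QuotRep

open Groth.Agent Groth.Agent.H23.PicMul

variable {X S : Scheme.{u}} {E : X.Modules}

theorem pullQ_tr {P P' Y : Scheme.{u}} (a' : P' ⟶ P) (a : P ⟶ Y) (c : P' ⟶ Y) (h : a' ≫ a = c) (b : Y ⟶ X)
    (ab : P ⟶ X) (hab : a ≫ b = ab) (cb : P' ⟶ X) (hcb : c ≫ b = cb) {F : P.Modules}
    (π : (Scheme.Modules.pullback ab).obj E ⟶ F) :
    pullQ a' a c h ((LimMod.trIso a b ab hab).hom.app E ≫ π) =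
      (LimMod.trIso c b cb hcb).hom.app E ≫
        pullQ a' ab cb (by rw [← hab, ← hcb, ← h, Category.assoc]) π := by
  have hh : a' ≫ ab = cb := by rw [← hab, ← hcb, ← h, Category.assoc]
  have key := H9Quot.trIso_trIso a' a b ab hab cb hh c h hcb E
  show (LimMod.trIso a' a c h).inv.app _ ≫ (Scheme.Modules.pullback a').map _ =
    _ ≫ (LimMod.trIso a' ab cb hh).inv.app E ≫ (Scheme.Modules.pullback a').map π
  rw [Functor.map_comp, ← Category.assoc, ← Category.assoc]
  refine congrArg (fun t => t ≫ (Scheme.Modules.pullback a').map π) ?_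
  rw [← cancel_mono ((LimMod.trIso a' ab cb hh).hom.app E), Category.assoc, Category.assoc, key,
    Iso.inv_hom_id_app]
  erw [Category.comp_id, Iso.inv_hom_id_app_assoc]

/-- Pullback of quotients along an isomorphism reflects equality. -/
theorem sameQ_of_pullQ_iso {P P' : Scheme.{u}} (a' : P' ⟶ P) [IsIso a'] (a : P ⟶ X) (c : P' ⟶ X)
    (h : a' ≫ a = c) {F F' : P.Modules} {q : (Scheme.Modules.pullback a).obj E ⟶ F}
    {q' : (Scheme.Modules.pullback a).obj E ⟶ F'} [Epi q] [Epi q']
    (hs : SameQ (pullQ a' a c h q) (pullQ a' a c h q')) : SameQ q q' := by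
  subst h
  refine sameQ_of_pullQ_local fun x => ?_
  obtain ⟨y, hy⟩ := (Scheme.homeoOfIso (asIso a')).surjective x
  exact ⟨_, a', inferInstance, ⟨y, hy⟩, hs⟩

theorem sameQ_pullQ_id {P : Scheme.{u}} (a : P ⟶ X) {F : P.Modules} (q : (Scheme.Modules.pullback a).obj E ⟶ F)
    [Epi q] : SameQ (pullQ (𝟙 P) a a (Category.id_comp a) q) q := by
  haveI := epi_pullQ (𝟙 P) a a (Category.id_comp a) q
  exact sameQ_of_pullQ_iso (𝟙 P) a a (Category.id_comp a)
    (sameQ_pullQ_pullQ (𝟙 P) (𝟙 P) a a (Category.id_comp a) a (Category.id_comp a) (𝟙 P) (Category.id_comp _) q)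

theorem SameQ.comp {P : Scheme.{u}} {A B F F' : P.Modules} (τ : A ⟶ B) {π : B ⟶ F} {π' : B ⟶ F'}
    (h : SameQ π π') : SameQ (τ ≫ π) (τ ≫ π') := by
  obtain ⟨e, rfl⟩ := h
  exact ⟨e, Category.assoc _ _ _⟩

theorem sameQ_of_comp {P : Scheme.{u}} {A B F F' : P.Modules} (τ : A ⟶ B) [Epi τ] {π : B ⟶ F} {π' : B ⟶ F'}
    (h : SameQ (τ ≫ π) (τ ≫ π')) : SameQ π π' := by
  obtain ⟨e, he⟩ := h
  exact ⟨e, by rw [← cancel_epi τ, ← Category.assoc, he]⟩

/-- The properties of a family of quotients do not depend on the model of the fibre product. -/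
theorem props_of_iso {P P' T : Scheme.{u}} (θ : P' ⟶ P) [IsIso θ] {b : P ⟶ T} {b' : P' ⟶ T} [IsProper b]
    (hb : θ ≫ b = b') {N : P.Modules} {N' : P'.Modules} (hN : PicF.IsInvertible N)
    (hN' : PicF.cl N' = PicF.pullCl θ (PicF.cl N)) {F : P.Modules} {F' : P'.Modules}
    (e : (Scheme.Modules.pullback θ).obj F ≅ F') (hfp : CohB1.IsFP F) (hfl : FlatMod.IsFlatOver b F) :
    CohB1.IsFP F' ∧ FlatMod.IsFlatOver b' F' ∧ ∀ t (j : ℕ),
      PerfAux.eulerChar b' (CohB1.tensorMod F' (CohB1.tensorPow N' j)) t =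
        PerfAux.eulerChar b (CohB1.tensorMod F (CohB1.tensorPow N j)) t := by
  have sq : IsPullback θ b' b (𝟙 T) := IsPullback.of_horiz_isIso ⟨by rw [Category.comp_id, hb]⟩
  refine ⟨isFP_of_iso' e (ModStLib.isFP_pullback θ hfp), fun x =>
    GrFlat5.isFlatOverAt_of_iso _ e x (MorLib.FlatBC.isFlatOverAt_baseChange b b' θ (𝟙 T) sq F x (hfl _)),
    fun t j => ?_⟩
  refine Eq.trans ?_ ((HilbSnap.eulerChar_twist_bc sq (QCoh.isQCoh_of_isFP hfp) hN j t).trans
    (by rw [Scheme.Hom.id_base]; rfl))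
  refine HilbSnap.eulerChar_congr _ (cl_eq_iff.1 ?_).some t
  rw [cl_tensor, cl_tensor, cl_tensorPow, cl_tensorPow, hN']
  refine congrArg₂ (· * ·) (cl_eq_iff.2 ⟨e⟩).symm ?_
  rfl

/-- Quot schemes of fixed Hilbert polynomial over a noetherian base. -/
theorem exists_univ_over [IsNoetherian S] {n : ℕ} (i : X ⟶ CohB1.ProjSpaceOver n S) [IsClosedImmersion i]
    (hE : Coh.IsCoh E) (Φ : Polynomial ℚ) :
    ∃ (W : Scheme.{u}) (qW : W ⟶ S), IsLocallyNoetherian W ∧
      ∃ (FW : (pullback (i ≫ CohB1.ProjSpaceOver.toBase n S) qW).Modules)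
        (πW : (Scheme.Modules.pullback (pullback.fst (i ≫ CohB1.ProjSpaceOver.toBase n S) qW)).obj E ⟶ FW),
        IsUniv (i ≫ CohB1.ProjSpaceOver.toBase n S) ((Scheme.Modules.pullback i).obj (Twist.twistOver n S 1)) Φ
            qW πW ∧ IsProper qW := by
  generalize hf : i ≫ CohB1.ProjSpaceOver.toBase n S = f
  haveI : IsProper f := hf ▸ isProper_comp i
  haveI : LocallyOfFinitePresentation f := hf ▸ lfp_comp i
  haveI : IsLocallyNoetherian X := LocallyOfFiniteType.isLocallyNoetherian f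
  let L := (Scheme.Modules.pullback i).obj (Twist.twistOver n S 1)
  have hLi : PicF.IsInvertible L := isInvertible_O1 i
  have chart : ∀ U : S.affineOpens, ∃ (M : Over S) (ξ : (QFun f E L hLi Φ).obj (op M)) (g : M.left ⟶ U.1),
      RepLocal.IsUniv (QFun f E L hLi Φ) U.1 M ξ ∧ g ≫ U.1.ι = M.hom ∧ IsProper g := by
    intro U
    let V : Scheme.{u} := U.1
    let j : V ⟶ S := U.1.ι
    haveI : IsAffine V := U.2
    haveI : IsLocallyNoetherian V := LocallyOfFiniteType.isLocallyNoetherian j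
    haveI : IsNoetherian V := {}
    let π' := CohB1.ProjSpaceOver.toBase n V
    let X' := pullback i (FGA.projMap n j)
    let i' : X' ⟶ CohB1.ProjSpaceOver n V := pullback.snd i (FGA.projMap n j)
    let jX : X' ⟶ X := pullback.fst i (FGA.projMap n j)
    let f' : X' ⟶ V := i' ≫ π'
    have sq : IsPullback jX f' f j := hf ▸
      ((IsPullback.of_hasPullback i (FGA.projMap n j)).paste_vert (HilbStrat.ProjSpace.isPullback_projMap j))
    haveI : IsProper f' := isProper_comp i'
    haveI : LocallyOfFinitePresentation f' := lfp_comp i'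
    let L' := (Scheme.Modules.pullback i').obj (Twist.twistOver n V 1)
    have hLL : PicF.cl L' = PicF.pullCl jX (PicF.cl L) := by
      show PicF.pullCl i' (PicF.pullCl _ (PicF.cl (Twist.twistProjSpace n (ULift.{u} ℤ) 1))) =
        PicF.pullCl jX (PicF.pullCl i (PicF.pullCl _ (PicF.cl (Twist.twistProjSpace n (ULift.{u} ℤ) 1))))
      rw [PicClLib.pullCl_comp, PicClLib.pullCl_comp, PicClLib.pullCl_comp]
      refine congrArg (fun t => PicF.pullCl t _) ?_
      show i' ≫ pullback.fst _ _ = jX ≫ i ≫ pullback.fst _ _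
      rw [show jX ≫ i ≫ pullback.fst _ _ = (i' ≫ FGA.projMap n j) ≫ pullback.fst _ _ by
        rw [← pullback.condition, Category.assoc]]
      rw [Category.assoc]
      exact congrArg (i' ≫ ·) ((pullback.lift_fst _ _ _).trans (Category.comp_id _)).symm
    let E' := (Scheme.Modules.pullback jX).obj E
    have hE' : Coh.IsCoh E' := ZClosLib.isCoh_pullback jX hE
    obtain ⟨p, ν, q₀, _⟩ := exists_epi_twists_affine i' hE'
    obtain ⟨W, qW', hWn, FW', πW', hW, m, c, hc, hcq⟩ := exists_quot_proj i' hE' q₀ Φ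
    haveI := hW.1.epi
    -- comparison of fibre products
    let θ : ∀ {T' : Scheme.{u}} (g' : T' ⟶ V), pullback f' g' ⟶ pullback f (g' ≫ j) := fun {T'} g' =>
      pullback.lift (pullback.fst f' g' ≫ jX) (pullback.snd f' g')
        (by rw [Category.assoc, sq.w, pullback.condition_assoc])
    haveI hθ : ∀ {T' : Scheme.{u}} (g' : T' ⟶ V), IsIso (θ g') := fun {T'} g' => by
      have h1 : IsPullback (pullback.fst f' g' ≫ jX) (pullback.snd f' g') f (g' ≫ j) :=
        (IsPullback.of_hasPullback f' g').paste_horiz sq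
      have : θ g' = h1.isoPullback.hom := pullback.hom_ext
        ((pullback.lift_fst _ _ _).trans h1.isoPullback_hom_fst.symm)
        ((pullback.lift_snd _ _ _).trans h1.isoPullback_hom_snd.symm)
      rw [this]; infer_instance
    let tr := fun {T' : Scheme.{u}} (g' : T' ⟶ V) =>
      (LimMod.trIso (pullback.fst f' g') jX (pullback.fst f' g' ≫ jX) rfl).app E
    let toU : ∀ {T' : Scheme.{u}} (g' : T' ⟶ V) {F : (pullback f (g' ≫ j)).Modules},
        ((Scheme.Modules.pullback (pullback.fst f (g' ≫ j))).obj E ⟶ F) →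
          ((Scheme.Modules.pullback (pullback.fst f' g')).obj E' ⟶ (Scheme.Modules.pullback (θ g')).obj F) :=
      fun {T'} g' {F} q => (tr g').hom ≫ pullQ (θ g') (pullback.fst f (g' ≫ j)) (pullback.fst f' g' ≫ jX)
        (pullback.lift_fst _ _ _) q
    have toU_iff : ∀ {T' : Scheme.{u}} (g' : T' ⟶ V) {F F' : (pullback f (g' ≫ j)).Modules}
        (q : (Scheme.Modules.pullback (pullback.fst f (g' ≫ j))).obj E ⟶ F)
        (q' : (Scheme.Modules.pullback (pullback.fst f (g' ≫ j))).obj E ⟶ F') [Epi q] [Epi q'],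
        SameQ (toU g' q) (toU g' q') ↔ SameQ q q' := fun g' F F' q q' _ _ =>
      ⟨fun h => sameQ_of_pullQ_iso _ _ _ _ (sameQ_of_comp _ h), fun h => SameQ.comp _ (SameQ.pullQ _ _ _ h)⟩
    have isQuot_toU : ∀ {T' : Scheme.{u}} (g' : T' ⟶ V) {F : (pullback f (g' ≫ j)).Modules}
        (q : (Scheme.Modules.pullback (pullback.fst f (g' ≫ j))).obj E ⟶ F), IsQuot f L Φ (g' ≫ j) q →
          IsQuot f' L' Φ g' (toU g' q) := fun {T'} g' F q hq => by
      haveI := hq.epi
      haveI := epi_pullQ (θ g') (pullback.fst f (g' ≫ j)) (pullback.fst f' g' ≫ jX) (pullback.lift_fst _ _ _) q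
      obtain ⟨h1, h2, h3⟩ := props_of_iso (θ g') (b := pullback.snd f (g' ≫ j)) (b' := pullback.snd f' g')
        (pullback.lift_snd _ _ _) (N' := (Scheme.Modules.pullback (pullback.fst f' g')).obj L')
        (PicClLib.isInvertible_pullback (pullback.fst f (g' ≫ j)) hLi) (by
          show PicF.pullCl _ (PicF.cl L') = PicF.pullCl _ (PicF.pullCl _ (PicF.cl L))
          rw [hLL, PicClLib.pullCl_comp, PicClLib.pullCl_comp, pullback.lift_fst]) (Iso.refl _) hq.fp hq.flat
      exact ⟨epi_comp _ _, h1, h2, fun t k => (congrArg (Int.cast (R := ℚ)) (h3 t k)).trans (hq.poly t k)⟩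
    -- the universal family
    let gW := qW' ≫ j
    let z : (Scheme.Modules.pullback (pullback.fst f' qW' ≫ jX)).obj E ⟶ FW' := (tr qW').inv ≫ πW'
    haveI : Epi z := epi_comp _ _
    have hθi : inv (θ qW') ≫ pullback.fst f' qW' ≫ jX = pullback.fst f gW := by
      rw [IsIso.inv_comp_eq, pullback.lift_fst]
    let πM := pullQ (inv (θ qW')) (pullback.fst f' qW' ≫ jX) (pullback.fst f gW) hθi z
    haveI : Epi πM := epi_pullQ _ _ _ _ _
    have hπM : SameQ (toU qW' πM) πW' := by
      have h1 := ((sameQ_pullQ_pullQ (θ qW') (inv (θ qW')) _ (pullback.fst f gW) hθi (pullback.fst f' qW' ≫ jX)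
        (pullback.lift_fst _ _ _) (𝟙 _) (IsIso.hom_inv_id _) z).trans (sameQ_pullQ_id _ z)).comp (tr qW').hom
      have e : (tr qW').hom ≫ z = πW' := Iso.hom_inv_id_assoc _ _
      rwa [e] at h1
    have hMq : IsQuot f L Φ gW πM := by
      obtain ⟨h1, h2, h3⟩ := props_of_iso (inv (θ qW')) (b := pullback.snd f' qW') (b' := pullback.snd f gW)
        (by rw [IsIso.inv_comp_eq]; exact (pullback.lift_snd _ _ _).symm)
        (N' := (Scheme.Modules.pullback (pullback.fst f gW)).obj L)
        (PicClLib.isInvertible_pullback (pullback.fst f' qW') (isInvertible_O1 i')) (by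
          show PicF.pullCl _ (PicF.cl L) = PicF.pullCl _ (PicF.pullCl _ (PicF.cl L'))
          rw [hLL, PicClLib.pullCl_comp, PicClLib.pullCl_comp, Category.assoc, hθi]) (Iso.refl _) hW.1.fp hW.1.flat
      exact ⟨inferInstance, h1, h2, fun t k => (congrArg (Int.cast (R := ℚ)) (h3 t k)).trans (hW.1.poly t k)⟩
    let M : Over S := Over.mk gW
    refine ⟨M, ⟨equivShrink _ (kernelSubobject πM),
        isQuot_congr (T := M) (Equiv.symm_apply_apply _ _).symm (hMq.of_sameQ (sameQ_kernelSubobject πM))⟩,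
      qW', ⟨fun x => (qW' x).2, fun T hT φ => ?_⟩, rfl, ?_⟩
    swap
    · haveI := hc
      rw [← hcq]
      haveI : IsProper (CohB1.ProjSpaceOver.toBase m V) := by
        simpa using isProper_comp (𝟙 (CohB1.ProjSpaceOver m V))
      infer_instance
    have hr : Set.range T.hom ⊆ Set.range j := by
      rintro _ ⟨x, rfl⟩
      rw [Scheme.Opens.range_ι]
      exact hT x
    obtain ⟨Tl, g', rfl⟩ : ∃ (Tl : Scheme.{u}) (g' : Tl ⟶ V), T = Over.mk (g' ≫ j) := by
      obtain ⟨Tl, ⟨⟨⟩⟩, g⟩ := T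
      refine ⟨Tl, IsOpenImmersion.lift j g hr, ?_⟩
      rw [IsOpenImmersion.lift_fac]
      rfl
    let q := cokernel.π (sub hLi φ).arrow
    have hq : IsQuot f L Φ (g' ≫ j) q := φ.2
    haveI := hq.epi
    obtain ⟨h, ⟨hh, hs⟩, hu⟩ := hW.2 _ g' _ (toU g' q) (isQuot_toU g' q hq)
    have key : ∀ (h : Tl ⟶ W) (hh : h ≫ qW' = g'),
        SameQ (pullQ (pullback.lift (pullback.fst f' g') (pullback.snd f' g' ≫ h)
            (by rw [Category.assoc, hh, pullback.condition]))
          (pullback.fst f' qW') (pullback.fst f' g') (pullback.lift_fst _ _ _) πW') (toU g' q) ↔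
        SameQ (pullQ (pullback.lift (pullback.fst f (g' ≫ j)) (pullback.snd f (g' ≫ j) ≫ h)
            (by rw [Category.assoc, ← Category.assoc h, hh, pullback.condition]))
          (pullback.fst f gW) (pullback.fst f (g' ≫ j)) (pullback.lift_fst _ _ _) πM) q := by
      intro h hh
      let l' : pullback f' g' ⟶ pullback f' qW' := pullback.lift (pullback.fst f' g') (pullback.snd f' g' ≫ h)
        (by rw [Category.assoc, hh, pullback.condition])
      let l : pullback f (g' ≫ j) ⟶ pullback f gW := pullback.lift (pullback.fst f (g' ≫ j))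
        (pullback.snd f (g' ≫ j) ≫ h) (by rw [Category.assoc, ← Category.assoc h, hh, pullback.condition])
      have hll : l' ≫ θ qW' = θ g' ≫ l := pullback.hom_ext (by simp [l', l, θ, gW]) (by simp [l', l, θ, gW])
      haveI := epi_pullQ l (pullback.fst f gW) (pullback.fst f (g' ≫ j)) (pullback.lift_fst _ _ _) πM
      have hx : SameQ (pullQ l' (pullback.fst f' qW') (pullback.fst f' g') (pullback.lift_fst _ _ _) (toU qW' πM))
          (toU g' (pullQ l (pullback.fst f gW) (pullback.fst f (g' ≫ j)) (pullback.lift_fst _ _ _) πM)) := by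
        show SameQ (pullQ l' _ _ _ ((LimMod.trIso (pullback.fst f' qW') jX _ rfl).hom.app E ≫ _)) _
        rw [pullQ_tr l' _ _ _ jX _ rfl (pullback.fst f' g' ≫ jX) rfl]
        refine SameQ.comp _ ?_
        refine (sameQ_pullQ_pullQ _ _ _ _ _ _ _ (θ g' ≫ l) hll πM).trans ?_
        exact (sameQ_pullQ_pullQ _ _ _ _ _ _ _ (θ g' ≫ l) rfl πM).symm
      exact ⟨fun hs => (toU_iff g' _ _).1 (hx.symm.trans ((SameQ.pullQ _ _ _ hπM).trans hs)),
        fun hs => (SameQ.pullQ _ _ _ hπM.symm).trans (hx.trans ((toU_iff g' _ _).2 hs))⟩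
    let T : Over S := Over.mk (g' ≫ j)
    let v : T ⟶ M := Over.homMk h (by show h ≫ qW' ≫ j = g' ≫ j; rw [reassoc_of% hh])
    refine ⟨v, ?_, fun w hw => ?_⟩
    · refine (res_eq_iff hLi _ _ _).2 ?_
      show FGA.quotPull f E v ((equivShrink _).symm (equivShrink _ (kernelSubobject πM))) = _
      rw [Equiv.symm_apply_apply, quotPull_eq_iff]
      refine ((SameQ.pullQ _ _ _ (sameQ_kernelSubobject πM).symm).trans ?_).trans ((key h hh).1 hs)
      exact sameQ_pullQ_congr (XTmap_eq (f := f) v) _ _ _ _ _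
    · replace hw := (res_eq_iff hLi _ _ _).1 hw
      change FGA.quotPull f E w ((equivShrink _).symm (equivShrink _ (kernelSubobject πM))) = _ at hw
      rw [Equiv.symm_apply_apply, quotPull_eq_iff] at hw
      have hwq : w.left ≫ qW' = g' := by
        rw [← cancel_mono j, Category.assoc]
        exact Over.w w
      refine Over.OverMorphism.ext (hu w.left ⟨hwq, (key w.left hwq).2 ?_⟩)
      exact ((sameQ_pullQ_congr (XTmap_eq (f := f) w).symm _ _ _ _ _).trans
        (SameQ.pullQ _ _ _ (sameQ_kernelSubobject πM))).trans hw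
  obtain ⟨M, ξ, hM⟩ := RepLocal.exists_univ (isLocal_QFun hLi) fun U => by
    obtain ⟨M, ξ, g, h, -, -⟩ := chart U
    exact ⟨M, ξ, h⟩
  have hMp : IsProper M.hom := RepLocal.prop_of_charts @IsProper hM chart
  haveI : IsLocallyNoetherian M.left := LocallyOfFiniteType.isLocallyNoetherian M.hom
  refine ⟨M.left, M.hom, inferInstance, _, cokernel.π (sub hLi ξ).arrow, ⟨ξ.2, fun T g F q hq => ?_⟩, hMp⟩
  haveI := hq.epi
  let T' : Over S := Over.mk g
  have hk := sameQ_kernelSubobject q
  obtain ⟨v, hv, hvu⟩ := hM T' ⟨equivShrink _ (kernelSubobject q),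
    isQuot_congr (T := T') (Equiv.symm_apply_apply _ _).symm (hq.of_sameQ hk)⟩
  have hiff : ∀ w : T' ⟶ M, (RepLocal.res (QFun f E L hLi Φ) w ξ = ⟨equivShrink _ (kernelSubobject q),
      isQuot_congr (T := T') (Equiv.symm_apply_apply _ _).symm (hq.of_sameQ hk)⟩) ↔
      SameQ (pullQ (pullback.lift (pullback.fst f g) (pullback.snd f g ≫ w.left)
          (by rw [Category.assoc, show w.left ≫ M.hom = g from Over.w w, pullback.condition]))
        (pullback.fst f M.hom) (pullback.fst f g) (pullback.lift_fst _ _ _) (cokernel.π (sub hLi ξ).arrow)) q := by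
    intro w
    rw [res_eq_iff]
    show FGA.quotPull f E w (sub hLi ξ) = (equivShrink _).symm (equivShrink _ (kernelSubobject q)) ↔ _
    rw [Equiv.symm_apply_apply, quotPull_eq_iff]
    have hc := sameQ_pullQ_congr (XTmap_eq (f := f) w) (pullback.fst f M.hom) (pullback.fst f g)
      (FGA.XTmap_fst f w) (pullback.lift_fst _ _ _) (cokernel.π (sub hLi ξ).arrow)
    exact ⟨fun h => (hc.symm.trans h).trans hk.symm, fun h => hc.trans (h.trans hk)⟩
  refine ⟨v.left, ⟨Over.w v, (hiff v).1 hv⟩, fun w ⟨hw, hws⟩ => ?_⟩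
  exact congrArg CommaMorphism.left (hvu (Over.homMk w hw) ((hiff (Over.homMk w hw)).2 hws))

end Groth.Agent.QuotRep
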