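import Groth.Agent.QuotRep.ZeroLocusApps
import Groth.Agent.H9Quot.Pull
import Groth.Agent.S4381

/-!
# The locus where a family of quotients factors through a given quotient
-/

set_option autoImplicit false
set_option linter.style.haveILetI false
set_option linter.unusedSectionVars false
set_option backward.isDefEq.respectTransparency false
set_option backward.isDefEq.respectTransparency.types false
set_option maxHeartbeats 1000000
set_option synthInstance.maxHeartbeats 400000

universe u

open CategoryTheory CategoryTheory.Limits AlgebraicGeometry TopologicalSpace Opposite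
open scoped Groth.Agent.H23.PicMul

attribute [-instance] CategoryTheory.catToReflQuiver

noncomputable section

namespace Groth.Agent.QuotRep

open Groth.Agent

variable {X S : Scheme.{u}} (f : X ⟶ S) (E : X.Modules)

/-- A map lands in a pulled back submodule iff it dies in the pulled back quotient. -/
theorem imageSubobject_le_quotPull_iff {T U : Over S} (g : U ⟶ T) (K : Subobject (FGA.ET f E T))
    {A : (PicF.XT f U).Modules} (a : A ⟶ FGA.ET f E U) :
    imageSubobject a ≤ FGA.quotPull f E g K ↔
      a ≫ (FGA.ETiso f E g).inv ≫ (Scheme.Modules.pullback (PicF.XTmap f g)).map (cokernel.π K.arrow) = 0 := by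
  let G := Scheme.Modules.pullback (PicF.XTmap f g)
  haveI := (Scheme.Modules.pullbackPushforwardAdjunction (PicF.XTmap f g)).isLeftAdjoint
  let m := G.map K.arrow ≫ (FGA.ETiso f E g).hom
  let p := (FGA.ETiso f E g).inv ≫ G.map (cokernel.π K.arrow)
  have w₀ : G.map K.arrow ≫ G.map (cokernel.π K.arrow) = 0 := by
    rw [← G.map_comp, cokernel.condition, G.map_zero]
  have w : m ≫ p = 0 := by simp only [m, p, Category.assoc, Iso.hom_inv_id_assoc, w₀]
  have h₀ : (ShortComplex.mk (G.map K.arrow) (G.map (cokernel.π K.arrow)) w₀).Exact :=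
    ShortComplex.exact_of_g_is_cokernel _ (CokernelCofork.mapIsColimit _ (cokernelIsCokernel K.arrow) G)
  let i : ShortComplex.mk (G.map K.arrow) (G.map (cokernel.π K.arrow)) w₀ ≅ ShortComplex.mk m p w :=
    ShortComplex.isoMk (Iso.refl _) (FGA.ETiso f E g) (Iso.refl _) (by simp [m]) (by simp [p])
  have hex : (ShortComplex.mk m p w).Exact := ShortComplex.exact_of_iso i h₀
  show imageSubobject a ≤ imageSubobject m ↔ a ≫ p = 0
  rw [show imageSubobject m = kernelSubobject p from (ShortComplex.exact_iff_image_eq_kernel _).1 hex]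
  constructor
  · intro hle
    rw [← imageSubobject_arrow_comp a, Category.assoc, ← Subobject.ofLE_arrow hle, Category.assoc,
      kernelSubobject_arrow_comp, comp_zero, comp_zero]
  · intro ha
    exact imageSubobject_le a (factorThruKernelSubobject p a ha) (factorThruKernelSubobject_comp_arrow p a ha)

variable {E}

/-- Base change of a map of modules to a further base. -/
theorem pullback_fst_map {M : X.Modules} (φ : M ⟶ E) {T U : Over S} (g : U ⟶ T) :
    (Scheme.Modules.pullback (pullback.fst f U.hom)).map φ ≫ (FGA.ETiso f E g).inv =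
      (FGA.ETiso f M g).inv ≫
        (Scheme.Modules.pullback (PicF.XTmap f g)).map ((Scheme.Modules.pullback (pullback.fst f T.hom)).map φ) := by
  rw [Iso.eq_inv_comp, ← Category.assoc, Iso.comp_inv_eq]
  exact (LimMod.trIso (PicF.XTmap f g) (pullback.fst f T.hom) (pullback.fst f U.hom)
    (FGA.XTmap_fst f g)).hom.naturality φ |>.symm

/-- The locus where a family of quotients kills a given submodule. -/
theorem exists_quotLocus [IsProper f] [LocallyOfFinitePresentation f] [IsNoetherian S]
    {L : X.Modules} (hLi : PicF.IsInvertible L) (hL : RelAmple.IsRelAmple f L)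
    {M : X.Modules} (hM : Coh.IsCoh M) (φ : M ⟶ E) (T : Over S) [IsLocallyNoetherian T.left]
    (K : FGA.QuotSet f E T) :
    ∃ (T' : Over S) (c : T' ⟶ T), IsClosedImmersion c.left ∧ ∀ (U : Over S) (g : U ⟶ T),
      imageSubobject ((Scheme.Modules.pullback (pullback.fst f U.hom)).map φ) ≤ FGA.quotPull f E g K.1 ↔
        ∃ h : U ⟶ T', h ≫ c = g := by
  haveI : IsLocallyNoetherian X := LocallyOfFiniteType.isLocallyNoetherian f
  let a := pullback.fst f T.hom
  let b : PicF.XT f T ⟶ T.left := pullback.snd f T.hom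
  haveI : IsProper b := inferInstanceAs (IsProper (pullback.snd f T.hom))
  haveI : LocallyOfFinitePresentation b := inferInstanceAs (LocallyOfFinitePresentation (pullback.snd f T.hom))
  haveI : IsLocallyNoetherian (PicF.XT f T) := LocallyOfFiniteType.isLocallyNoetherian b
  obtain ⟨σ, n₁, hσ, hgen⟩ := exists_twist_generators f hLi hL hM.1 (QCoh.isFT_of_isFP (QCoh.isCoh_iff_isFP.1 hM))
  have hLT : RelAmple.IsRelAmple b ((Scheme.Modules.pullback a).obj L) := AmpleX.isRelAmple_baseChange f T.hom hL
  let w : FGA.ET f M T ⟶ cokernel K.1.arrow := (Scheme.Modules.pullback a).map φ ≫ cokernel.π K.1.arrow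
  obtain ⟨Z, c, hc, -, huniv⟩ := exists_zeroLocus (f := b) (QCoh.isCoh_iff_isFP.1 K.2.1) K.2.2 w fun t => by
    obtain ⟨S₀, hS₀, hts⟩ := hσ (T.hom t)
    obtain ⟨_, ⟨V, hV, rfl⟩, htV, hVS⟩ :=
      T.left.isBasis_affineOpens.exists_subset_of_mem_open (show t ∈ T.hom ⁻¹ᵁ S₀.1 from hts) (T.hom ⁻¹ᵁ S₀.1).2
    haveI : IsNoetherianRing Γ(T.left, V) := IsLocallyNoetherian.component_noetherian ⟨V, hV⟩
    have hpb := QCoh.isPullback_overSpec (f := b) hV
    haveI : IsProper (QCoh.overSpec b hV) := MorphismProperty.of_isPullback hpb inferInstance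
    let ι := (b ⁻¹ᵁ V).ι
    have hA : CohB1.IsAmple ((Scheme.Modules.pullback ι).obj ((Scheme.Modules.pullback a).obj L)) :=
      AmpleX.isAmple_of_iso ((Scheme.Modules.restrictFunctorIsoPullback ι).app _) (hLT.2 ⟨V, hV⟩)
    obtain ⟨n₂, hvan⟩ := HilbSnap.exists_uniform_fiber_vanishing (QCoh.overSpec b hV)
      (AmpleX.isAmple_iff.1 hA).1 ((S4381.result (QCoh.overSpec b hV) _).2 hA)
      (ZClosLib.isCoh_pullback ι K.2.1)
    let n := max n₁ n₂
    obtain ⟨N, p, hp⟩ := hgen n (le_max_left _ _) S₀ hS₀ a b T.hom pullback.condition V hVS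
    refine ⟨V, hV, _, N, p, htV, PicClLib.isInvertible_pullback _
        (PicClLib.isInvertible_pullback a (H23.PicMul.isInvertible_tensorPow hLi _)), hp, fun y => ?_⟩
    obtain ⟨e⟩ := H23.PicMul.cl_eq_iff.1 (show
      PicF.cl (CohB1.tensorMod ((Scheme.Modules.pullback ι).obj (cokernel K.1.arrow))
          (CohB1.tensorPow ((Scheme.Modules.pullback ι).obj ((Scheme.Modules.pullback a).obj L)) n)) =
        PicF.cl (CohB1.tensorMod ((Scheme.Modules.pullback ι).obj (cokernel K.1.arrow))
          ((Scheme.Modules.pullback ι).obj ((Scheme.Modules.pullback a).obj (CohB1.tensorPow L n)))) by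
      rw [H23.PicMul.cl_tensor, H23.PicMul.cl_tensor]
      refine congrArg (PicF.cl _ * ·) ?_
      show _ = PicF.pullCl ι (PicF.pullCl a (PicF.cl (CohB1.tensorPow L n)))
      rw [H23.PicMul.cl_tensorPow, H23.PicMul.cl_tensorPow, H23.PicMul.pullCl_pow, H23.PicMul.pullCl_pow]
      rfl)
    exact (PBC.fiberRank_congr _ e 1 y).symm.trans (hvan n (le_max_right _ _) y 0)
  refine ⟨Over.mk (c ≫ T.hom), Over.homMk c rfl, hc, fun U g => ?_⟩
  haveI := (Scheme.Modules.pullbackPushforwardAdjunction (PicF.XTmap f g)).isLeftAdjoint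
  rw [imageSubobject_le_quotPull_iff, ← Category.assoc, pullback_fst_map f φ g, Category.assoc,
    Preadditive.IsIso.comp_left_eq_zero, ← Functor.map_comp]
  have sq := H9Quot.isPullback_XTmap f g
  rw [show (Scheme.Modules.pullback a).map φ ≫ cokernel.π K.1.arrow = w from rfl,
    pullback_map_eq_zero_iff_of_iso sq.isoPullback sq.isoPullback_hom_fst, ← huniv g.left]
  constructor
  · rintro ⟨h, hh⟩
    exact ⟨Over.homMk h (by show h ≫ c ≫ T.hom = U.hom; rw [reassoc_of% hh, Over.w g]), Over.OverMorphism.ext hh⟩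
  · rintro ⟨h, rfl⟩
    exact ⟨h.left, rfl⟩

end Groth.Agent.QuotRep

end
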