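import Groth.Agent.QuotRep.CoreFibre
import Groth.Agent.QuotRep.FibreIso
import Groth.Agent.HilbStrat.Main
import Groth.Agent.H9Quot.Pull
import Groth.Agent.AmpleX.Rel
import Groth.Agent.FittX.Sheaf

/-!
# The stratum of the Grassmannian representing quotients with a given Hilbert polynomial
-/

set_option autoImplicit false
set_option linter.style.haveILetI false
set_option linter.unusedSectionVars false
set_option backward.isDefEq.respectTransparency false
set_option backward.isDefEq.respectTransparency.types false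
set_option maxHeartbeats 1000000
set_option synthInstance.maxHeartbeats 400000

universe u

open CategoryTheory CategoryTheory.Limits AlgebraicGeometry TopologicalSpace Opposite

attribute [-instance] CategoryTheory.catToReflQuiver

noncomputable section

namespace Groth.Agent.QuotRep

open Groth.Agent

variable {X S : Scheme.{u}} {E : X.Modules}

/-- The pullback of a quotient. -/
def pullQ {P P' : Scheme.{u}} (a' : P' ⟶ P) (a : P ⟶ X) (c : P' ⟶ X) (h : a' ≫ a = c) {F : P.Modules}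
    (π : (Scheme.Modules.pullback a).obj E ⟶ F) :
    (Scheme.Modules.pullback c).obj E ⟶ (Scheme.Modules.pullback a').obj F :=
  (LimMod.trIso a' a c h).inv.app E ≫ (Scheme.Modules.pullback a').map π

/-- Two quotients with the same kernel. -/
def SameQ {P : Scheme.{u}} {B F F' : P.Modules} (π : B ⟶ F) (π' : B ⟶ F') : Prop := ∃ e : F ≅ F', π ≫ e.hom = π'

theorem SameQ.trans {P : Scheme.{u}} {B F F' F'' : P.Modules} {π : B ⟶ F} {π' : B ⟶ F'} {π'' : B ⟶ F''}
    (h : SameQ π π') (h' : SameQ π' π'') : SameQ π π'' := by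
  obtain ⟨e, rfl⟩ := h
  obtain ⟨e', rfl⟩ := h'
  exact ⟨e ≪≫ e', by rw [Iso.trans_hom, Category.assoc]⟩

theorem SameQ.symm {P : Scheme.{u}} {B F F' : P.Modules} {π : B ⟶ F} {π' : B ⟶ F'} (h : SameQ π π') :
    SameQ π' π := by
  obtain ⟨e, rfl⟩ := h
  exact ⟨e.symm, by rw [Category.assoc, Iso.symm_hom, Iso.hom_inv_id, Category.comp_id]⟩

theorem sameQ_pullQ_pullQ {P P' P'' : Scheme.{u}} (a'' : P'' ⟶ P') (a' : P' ⟶ P) (a : P ⟶ X) (c : P' ⟶ X)
    (h : a' ≫ a = c) (c' : P'' ⟶ X) (h' : a'' ≫ c = c') (m : P'' ⟶ P) (hm : a'' ≫ a' = m) {F : P.Modules}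
    (π : (Scheme.Modules.pullback a).obj E ⟶ F) :
    SameQ (pullQ a'' c c' h' (pullQ a' a c h π))
      (pullQ m a c' (by rw [← hm, Category.assoc, h, h']) π) := by
  refine ⟨(LimMod.trIso a'' a' m hm).app F, ?_⟩
  have hh : m ≫ a = c' := by rw [← hm, Category.assoc, h, h']
  have key := H9Quot.trIso_trIso a'' a' a c h c' h' m hm hh E
  let A := (Scheme.Modules.pullback a'').map ((LimMod.trIso a' a c h).hom.app E)
  have e1 : (LimMod.trIso a'' c c' h').inv.app E ≫
      (Scheme.Modules.pullback a'').map ((LimMod.trIso a' a c h).inv.app E) ≫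
        (LimMod.trIso a'' a' m hm).hom.app ((Scheme.Modules.pullback a).obj E) =
      (LimMod.trIso m a c' hh).inv.app E := by
    rw [← cancel_mono ((LimMod.trIso m a c' hh).hom.app E), Category.assoc, Category.assoc, ← key,
      ← Functor.map_comp_assoc, Iso.inv_hom_id_app, CategoryTheory.Functor.map_id, Category.id_comp,
      Iso.inv_hom_id_app, Iso.inv_hom_id_app]
  rw [pullQ, pullQ, pullQ, Functor.map_comp, ← e1]
  simp only [Category.assoc, Iso.app_hom]
  exact congrArg (fun t => (LimMod.trIso a'' c c' h').inv.app E ≫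
    (Scheme.Modules.pullback a'').map ((LimMod.trIso a' a c h).inv.app E) ≫ t)
    ((LimMod.trIso a'' a' m hm).hom.naturality π)

theorem sameQ_pullQ_congr {P P' : Scheme.{u}} {a' a'' : P' ⟶ P} (e : a' = a'') (a : P ⟶ X) (c : P' ⟶ X)
    (h : a' ≫ a = c) (h' : a'' ≫ a = c) {F : P.Modules} (π : (Scheme.Modules.pullback a).obj E ⟶ F) :
    SameQ (pullQ a' a c h π) (pullQ a'' a c h' π) := by
  subst e
  exact ⟨Iso.refl _, Category.comp_id _⟩

theorem epi_pullQ {P P' : Scheme.{u}} (a' : P' ⟶ P) (a : P ⟶ X) (c : P' ⟶ X) (h : a' ≫ a = c) {F : P.Modules}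
    (π : (Scheme.Modules.pullback a).obj E ⟶ F) [Epi π] : Epi (pullQ a' a c h π) := by
  haveI := (Scheme.Modules.pullbackPushforwardAdjunction a').isLeftAdjoint
  exact epi_comp _ _

variable (f : X ⟶ S) (L : X.Modules) (Φ : Polynomial ℚ)

/-- A flat family of finitely presented quotients of `E` with Hilbert polynomial `Φ`. -/
structure IsQuot {T : Scheme.{u}} (g : T ⟶ S) {F : (pullback f g).Modules}
    (q : (Scheme.Modules.pullback (pullback.fst f g)).obj E ⟶ F) : Prop where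
  epi : Epi q
  fp : CohB1.IsFP F
  flat : FlatMod.IsFlatOver (pullback.snd f g) F
  poly : ∀ t (j : ℕ), (PerfAux.eulerChar (pullback.snd f g) (CohB1.tensorMod F
      (CohB1.tensorPow ((Scheme.Modules.pullback (pullback.fst f g)).obj L) j)) t : ℚ) = Φ.eval (j : ℚ)

/-- A family is universal among the quotients. -/
def IsUniv {W : Scheme.{u}} (qW : W ⟶ S) {FW : (pullback f qW).Modules}
    (πW : (Scheme.Modules.pullback (pullback.fst f qW)).obj E ⟶ FW) : Prop :=
  IsQuot f L Φ qW πW ∧ ∀ (T : Scheme.{u}) (g : T ⟶ S) (F : (pullback f g).Modules)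
    (q : (Scheme.Modules.pullback (pullback.fst f g)).obj E ⟶ F), IsQuot f L Φ g q →
      ∃! h : T ⟶ W, ∃ hg : h ≫ qW = g,
        SameQ (pullQ (pullback.lift (pullback.fst f g) (pullback.snd f g ≫ h)
            (by rw [Category.assoc, hg, pullback.condition]))
          (pullback.fst f qW) (pullback.fst f g) (pullback.lift_fst _ _ _) πW) q

variable {f L Φ}

theorem isPullback_lift {T W : Scheme.{u}} {g : T ⟶ S} {qW : W ⟶ S} (h : T ⟶ W) (hg : h ≫ qW = g) :
    IsPullback (pullback.lift (pullback.fst f g) (pullback.snd f g ≫ h)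
        (by rw [Category.assoc, hg, pullback.condition]))
      (pullback.snd f g) (pullback.snd f qW) h := by
  refine IsPullback.of_right ?_ (pullback.lift_snd _ _ _) (IsPullback.of_hasPullback f qW)
  rw [pullback.lift_fst, hg]
  exact IsPullback.of_hasPullback f g

/-- Quotients presented by sections are represented by a stratum of the Grassmannian. -/
theorem exists_stratum_univ [IsProper f] [LocallyOfFinitePresentation f] (hLi : PicF.IsInvertible L)
    (hL : RelAmple.IsRelAmple f L) (hE : CohB1.IsFP E) {N r : ℕ} (w : Fin N → Γ(E, (⊤ : X.Opens)))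
    (hBd : Bd f E L w r Φ) {G : Scheme.{u}} (qS : G ⟶ S) {Q : G.Modules} (hQ : FlatMod.IsFinLocFreeOfRank r Q)
    (σ : Fin N → Γ(Q, (⊤ : G.Opens))) [Epi (secHom σ)]
    (hG : ∀ (T : Scheme.{u}) (g : T ⟶ S) (V : T.Modules), FlatMod.IsFinLocFreeOfRank r V →
      ∀ v : Fin N → Γ(V, (⊤ : T.Opens)), Epi (secHom v) → ∃! h : T ⟶ G, h ≫ qS = g ∧
        ∃ φ : (Scheme.Modules.pullback h).obj Q ⟶ V, ∀ j, φ.app ⊤ (pullTop h Q (σ j)) = v j) :
    ∃ (W : Scheme.{u}) (i : W ⟶ G), IsImmersion i ∧ QuasiCompact i ∧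
      ∃ (FW : (pullback f (i ≫ qS)).Modules)
        (πW : (Scheme.Modules.pullback (pullback.fst f (i ≫ qS))).obj E ⟶ FW), IsUniv f L Φ (i ≫ qS) πW := by
  let a₀ := pullback.fst f qS
  let b₀ := pullback.snd f qS
  have hQf : FlatMod.IsFinLocFree Q := fun x => let ⟨U, hx, hi⟩ := hQ x; ⟨U, r, hx, hi⟩
  have hQfp := QCoh.isFP_of_isFinLocFree hQf
  have hNf := QCoh.isFP_of_isFinLocFree (KFlatLib.isFinLocFree_freeMod (X := G) N)
  have hKq := QCoh.isQCoh_kernel (QCoh.isQCoh_of_isFP hNf) (QCoh.isQCoh_of_isFP hQfp) (secHom σ)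
  have hKt := LimMod.isFT_kernel_of_epi (secHom σ) (QCoh.isQCoh_of_isFP hNf) (QCoh.isFT_of_isFP hNf) hQfp
  have hquo : CohB1.IsFP (quo a₀ b₀ w σ) :=
    LimMod.isFP_cokernel (QCoh.isQCoh_pullback b₀ hKq) (FittX.isFT_pullback b₀ hKq hKt) (ModStLib.isFP_pullback a₀ hE) _
  let L₀ := (Scheme.Modules.pullback a₀).obj L
  haveI : IsProper b₀ := inferInstanceAs (IsProper (pullback.snd f qS))
  haveI : LocallyOfFinitePresentation b₀ := inferInstanceAs (LocallyOfFinitePresentation (pullback.snd f qS))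
  obtain ⟨W, i, hi, hqc, -, -, hW⟩ :=
    HilbStrat.exists_stratum b₀ (L := L₀) (AmpleX.isRelAmple_baseChange f qS hL) hquo Φ
  let aW : pullback f (i ≫ qS) ⟶ pullback f qS :=
    pullback.lift (pullback.fst f (i ≫ qS)) (pullback.snd f (i ≫ qS) ≫ i) (by rw [Category.assoc, pullback.condition])
  let πW := pullQ aW a₀ (pullback.fst f (i ≫ qS)) (pullback.lift_fst _ _ _) (quoπ a₀ b₀ w σ)
  have heuler : ∀ {T : Scheme.{u}} {g : T ⟶ S} (h : T ⟶ G) (hg : h ≫ qS = g) (t : T) (j : ℕ),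
      PerfAux.eulerChar (pullback.snd f g) (CohB1.tensorMod ((Scheme.Modules.pullback (pullback.lift (pullback.fst f g)
          (pullback.snd f g ≫ h) (by rw [Category.assoc, hg, pullback.condition]))).obj (quo a₀ b₀ w σ))
        (CohB1.tensorPow ((Scheme.Modules.pullback (pullback.fst f g)).obj L) j)) t =
        PerfAux.eulerChar b₀ (CohB1.tensorMod (quo a₀ b₀ w σ) (CohB1.tensorPow L₀ j)) (h t) := by
    intro T g h hg t j
    refine Eq.trans ?_ (HilbSnap.eulerChar_twist_bc (isPullback_lift h hg) (QCoh.isQCoh_of_isFP hquo)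
      (PicClLib.isInvertible_pullback a₀ hLi) j t)
    let a' : pullback f g ⟶ pullback f qS :=
      pullback.lift (pullback.fst f g) (pullback.snd f g ≫ h) (by rw [Category.assoc, hg, pullback.condition])
    obtain ⟨e⟩ := H23.PicMul.cl_eq_iff.1 (show
      PicF.cl (CohB1.tensorMod ((Scheme.Modules.pullback a').obj (quo a₀ b₀ w σ))
          (CohB1.tensorPow ((Scheme.Modules.pullback (pullback.fst f g)).obj L) j)) =
        PicF.cl (CohB1.tensorMod ((Scheme.Modules.pullback a').obj (quo a₀ b₀ w σ))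
          (CohB1.tensorPow ((Scheme.Modules.pullback a').obj L₀) j)) by
      rw [H23.PicMul.cl_tensor, H23.PicMul.cl_tensor, H23.PicMul.cl_tensorPow, H23.PicMul.cl_tensorPow,
        H23.PicMul.cl_eq_iff.2 ⟨((LimMod.trIso a' a₀ (pullback.fst f g) (pullback.lift_fst _ _ _)).app L).symm⟩]
      rfl)
    exact HilbSnap.eulerChar_congr _ e t
  have hgood := (hW W i).1 ⟨𝟙 W, Category.id_comp i⟩
  haveI : Epi (quoπ a₀ b₀ w σ) := inferInstance
  have hQW : IsQuot f L Φ (i ≫ qS) πW :=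
    ⟨epi_pullQ _ _ _ _ _, ModStLib.isFP_pullback aW hquo,
      (HilbStrat.isFlatOver_iff_of_isPullback (isPullback_lift i rfl) _).2 hgood.1,
      fun t j => (congrArg (Int.cast (R := ℚ)) (heuler i rfl t j)).trans (hgood.2 t j)⟩
  refine ⟨W, i, hi, hqc, _, πW, hQW, fun T g F q hq => ?_⟩
  let a := pullback.fst f g
  let b := pullback.snd f g
  have sq : IsPullback a b f g := IsPullback.of_hasPullback f g
  haveI := hq.epi
  obtain ⟨hV, hv, hfib⟩ := family_props hBd hLi sq q hq.fp hq.flat hq.poly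
  obtain ⟨h₀, ⟨hg₀, hc₀⟩, huniq⟩ := hG T g _ hV (pushSec w a b q) hv
  let a' : pullback f g ⟶ pullback f qS :=
    pullback.lift a (b ≫ h₀) (by rw [Category.assoc, hg₀]; exact pullback.condition)
  have ha' : a' ≫ a₀ = a := pullback.lift_fst _ _ _
  have hb' : a' ≫ b₀ = b ≫ h₀ := pullback.lift_snd _ _ _
  let π₀ := pullQ a' a₀ a ha' (quoπ a₀ b₀ w σ)
  obtain ⟨χ, hχ⟩ : ∃ χ, π₀ ≫ χ = q := (exists_factor_iff h₀ a' b hb' a ha' q).2 hc₀
  haveI : Epi π₀ := epi_pullQ _ _ _ _ _
  haveI : Epi (π₀ ≫ χ) := by rw [hχ]; infer_instance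
  haveI : Epi χ := epi_of_epi π₀ χ
  have hA := ModStLib.isFP_pullback a' hquo
  haveI : IsIso χ := by
    refine isIso_of_fibre b (QCoh.isQCoh_of_isFP hA) (QCoh.isFT_of_isFP hA) hq.fp χ hq.flat fun t => ?_
    obtain ⟨hrt, hvt, hkt⟩ := hfib t
    let ι := b.fiberι t
    let p := b.fiberToSpecResidueField t
    let y := T.fromSpecResidueField t
    let πt := pullQ ι a (ι ≫ a) rfl π₀
    have hqt : fibQ a b q t = πt ≫ (Scheme.Modules.pullback ι).map χ := by
      show (LimMod.trIso ι a (ι ≫ a) rfl).inv.app E ≫ (Scheme.Modules.pullback ι).map q = _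
      rw [← hχ, Functor.map_comp, ← Category.assoc]
      rfl
    haveI : Epi πt := epi_pullQ _ _ _ _ _
    have hm : (ι ≫ a') ≫ a₀ = ι ≫ a := by rw [Category.assoc, ha']
    have hsame : SameQ πt (quoπT a₀ b₀ w σ (ι ≫ a') (ι ≫ a) hm) :=
      sameQ_pullQ_pullQ ι a' a₀ a ha' (ι ≫ a) rfl (ι ≫ a') rfl (quoπ a₀ b₀ w σ)
    have hw' : (ι ≫ a') ≫ b₀ = p ≫ (y ≫ h₀) := by
      rw [Category.assoc, hb', ← Category.assoc, b.fiber_fac, Category.assoc]
    obtain ⟨e, he⟩ := hsame
    obtain ⟨φ₁, hφ₁⟩ := (exists_factor_iff (y ≫ h₀) (ι ≫ a') p hw' (ι ≫ a) hm πt).1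
      ⟨e.inv, by rw [← he, Category.assoc, Iso.hom_inv_id, Category.comp_id]⟩
    obtain ⟨φ₂, hφ₂⟩ := (exists_factor_iff (y ≫ h₀) (ι ≫ a') p hw' (ι ≫ a) hm (fibQ a b q t)).1
      ⟨e.inv ≫ (Scheme.Modules.pullback ι).map χ, by
        rw [hqt, ← he, Category.assoc, Iso.hom_inv_id_assoc]⟩
    haveI : Epi φ₂ := by
      haveI := hvt
      haveI : Epi ((secHom fun j => pullTop (y ≫ h₀) Q (σ j)) ≫ φ₂) := by
        rw [secHom_comp, show (fun j => φ₂.app ⊤ (pullTop (y ≫ h₀) Q (σ j))) = pushSec w (ι ≫ a) p (fibQ a b q t) from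
          funext hφ₂]
        infer_instance
      exact epi_of_epi (secHom fun j => pullTop (y ≫ h₀) Q (σ j)) φ₂
    haveI : IsIso φ₂ := isIso_of_epi_rank (KRRReg.isFinLocFreeOfRank_pullback (y ≫ h₀) hQ) hrt φ₂
    have hker : kernel.ι (fibQ a b q t) ≫ πt = 0 := by
      refine hkt _ πt ⟨inv φ₂ ≫ φ₁, fun j => ?_⟩
      show φ₁.app ⊤ ((inv φ₂).app ⊤ (pushSec w (ι ≫ a) p (fibQ a b q t) j)) = _
      rw [show (inv φ₂).app ⊤ (pushSec w (ι ≫ a) p (fibQ a b q t) j) = pullTop (y ≫ h₀) Q (σ j) from by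
        refine (congrArg ((inv φ₂).app ⊤) (hφ₂ j).symm).trans ?_
        exact congrArg (fun k => Scheme.Modules.Hom.app k ⊤ (pullTop (y ≫ h₀) Q (σ j))) (IsIso.hom_inv_id φ₂)]
      exact hφ₁ j
    haveI : Epi (fibQ a b q t) := by
      haveI := (Scheme.Modules.pullbackPushforwardAdjunction ι).isLeftAdjoint
      rw [hqt]; infer_instance
    let d := Abelian.epiDesc (fibQ a b q t) πt hker
    have hd : fibQ a b q t ≫ d = πt := Abelian.comp_epiDesc _ _ _
    refine ⟨⟨d, ?_, ?_⟩⟩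
    · rw [← cancel_epi πt, ← Category.assoc, ← hqt, hd, Category.comp_id]
    · rw [← cancel_epi (fibQ a b q t), ← Category.assoc, hd, Category.comp_id, ← hqt]
  have hgood₀ : HilbStrat.Good b₀ (quo a₀ b₀ w σ) L₀ Φ h₀ := by
    refine ⟨(HilbStrat.isFlatOver_iff_of_isPullback (isPullback_lift h₀ hg₀) _).1 fun z =>
      GrFlat5.isFlatOverAt_of_iso _ (asIso χ).symm z (hq.flat z), fun t j => ?_⟩
    rw [← heuler h₀ hg₀ t j, ← hq.poly t j]
    exact congrArg (Int.cast (R := ℚ)) (HilbSnap.eulerChar_congr _ (PicGrp.tensorModIso (asIso χ) (Iso.refl _)) t)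
  obtain ⟨h, hh⟩ := (hW T h₀).2 hgood₀
  haveI := hi
  refine ⟨h, ⟨by rw [← Category.assoc, hh, hg₀], ?_⟩, ?_⟩
  · refine (sameQ_pullQ_pullQ _ aW a₀ (pullback.fst f (i ≫ qS)) (pullback.lift_fst _ _ _) a _ a'
      (pullback.hom_ext ?_ ?_) (quoπ a₀ b₀ w σ)).trans ⟨asIso χ, hχ⟩
    · rw [Category.assoc, pullback.lift_fst, pullback.lift_fst, ha']
    · rw [Category.assoc, pullback.lift_snd, pullback.lift_snd_assoc, hb', Category.assoc, hh]
  · rintro h' ⟨hg', hs⟩
    refine (cancel_mono i).1 ?_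
    rw [hh]
    refine huniq _ ⟨by rw [Category.assoc, hg'], ?_⟩
    let a'' : pullback f g ⟶ pullback f qS :=
      pullback.lift a (b ≫ h' ≫ i) (by rw [Category.assoc, Category.assoc, hg']; exact pullback.condition)
    have hm : a'' ≫ a₀ = a := pullback.lift_fst _ _ _
    obtain ⟨e, he⟩ := ((sameQ_pullQ_pullQ _ aW a₀ (pullback.fst f (i ≫ qS)) (pullback.lift_fst _ _ _) a _ a''
      (pullback.hom_ext (by rw [Category.assoc, pullback.lift_fst, pullback.lift_fst, hm])
        (by rw [Category.assoc, pullback.lift_snd, pullback.lift_snd_assoc, pullback.lift_snd, Category.assoc]))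
      (quoπ a₀ b₀ w σ)).symm.trans hs)
    exact (exists_factor_iff (h' ≫ i) a'' b (pullback.lift_snd _ _ _) a hm q).1 ⟨e.hom, he⟩

end Groth.Agent.QuotRep

end
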