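import Groth.Agent.QCoh.Qcqs
import Groth.Agent.QCoh.Support
import Groth.Agent.QCoh.FlatOver
import Groth.Agent.LimMod.Exact
import Groth.Agent.H9FlatCl.Closure
import Groth.Agent.LimMod.Tr
import Groth.Agent.PPSheaf.FlatPr

/-!
# Flat extensions of quotients over a discrete valuation ring
-/

set_option autoImplicit false
set_option linter.style.haveILetI false
set_option linter.unusedSectionVars false
set_option backward.isDefEq.respectTransparency false
set_option backward.isDefEq.respectTransparency.types false
set_option maxHeartbeats 1000000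
set_option synthInstance.maxHeartbeats 400000

universe u

open CategoryTheory CategoryTheory.Limits AlgebraicGeometry TopologicalSpace Opposite

attribute [-instance] CategoryTheory.catToReflQuiver

noncomputable section

namespace Groth.Agent.QuotRep

open Groth.Agent

theorem isIso_counit_openImmersion {U X : Scheme.{u}} (j : U ⟶ X) [IsOpenImmersion j] :
    IsIso (Scheme.Modules.pullbackPushforwardAdjunction j).counit := by
  haveI : IsIso (Scheme.Modules.restrictAdjunction j).counit := inferInstance
  haveI := (Scheme.Modules.restrictAdjunction j).fullyFaithfulROfIsIsoCounit.full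
  haveI := (Scheme.Modules.restrictAdjunction j).fullyFaithfulROfIsIsoCounit.faithful
  infer_instance

variable (R : Type u) [CommRing R] [IsDomain R] [IsDiscreteValuationRing R]

/-- Flatness over a discrete valuation ring from invertibility of a uniformiser on a bigger module. -/
theorem isFlatOver_of_mono {P : Scheme.{u}} (b : P ⟶ Spec (CommRingCat.of R)) {PK : Scheme.{u}} (v : PK ⟶ P)
    (bK : PK ⟶ Spec (CommRingCat.of (FractionRing R)))
    (w : v ≫ b = bK ≫ Spec.map (CommRingCat.ofHom (algebraMap R (FractionRing R)))) {G : P.Modules} (hG : Coh.IsQCoh G)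
    {M : PK.Modules} (ι : G ⟶ (Scheme.Modules.pushforward v).obj M) [Mono ι] : FlatMod.IsFlatOver b G := by
  intro x
  obtain ⟨U, hU, hxU, -⟩ := exists_isAffineOpen_mem_and_subset (x := x) (U := ⊤) trivial
  let A := CommRingCat.of R
  let V : (Spec A).Opens := ⊤
  refine (QCoh.flat_appLE_iff b hG hU (isAffineOpen_top (Spec A)) le_top).1 ?_ x hxU
  letI : Module Γ(Spec A, V) Γ(G, U) := Module.compHom _ (b.appLE V U le_top).hom
  let e : R ≃+* Γ(Spec A, V) := (Scheme.ΓSpecIso A).commRingCatIsoToRingEquiv.symm
  haveI : IsDomain Γ(Spec A, V) := e.symm.toMulEquiv.isDomain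
  haveI : IsPrincipalIdealRing Γ(Spec A, V) := IsPrincipalIdealRing.of_surjective e.toRingHom e.surjective
  refine Module.Flat.flat_iff_torsion_eq_bot_of_isBezout.2 (eq_bot_iff.2 fun m hm => ?_)
  obtain ⟨⟨r', hr'⟩, hrm⟩ := hm
  obtain ⟨r, rfl⟩ := e.surjective r'
  have hr : r ≠ 0 := fun h => nonZeroDivisors.ne_zero hr' (by rw [h, map_zero])
  have hu : IsUnit (v.app U (b.appLE V U le_top (e r))) := by
    have e2 : v.app U (b.appLE V U le_top (e r)) =
        PK.presheaf.map (homOfLE le_top).op (bK.appTop ((Scheme.ΓSpecIso (CommRingCat.of (FractionRing R))).inv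
          (algebraMap R (FractionRing R) r))) := by
      have h1 : (Spec.map (CommRingCat.ofHom (algebraMap R (FractionRing R)))).appTop (e r) =
          (Scheme.ΓSpecIso (CommRingCat.of (FractionRing R))).inv (algebraMap R (FractionRing R) r) :=
        (ConcreteCategory.congr_hom (Scheme.ΓSpecIso_inv_naturality (CommRingCat.ofHom (algebraMap R (FractionRing R)))) r).symm
      rw [← h1, ← CommRingCat.comp_apply, ← CommRingCat.comp_apply, ← CommRingCat.comp_apply]
      refine ConcreteCategory.congr_hom ?_ (e r)
      rw [← Category.assoc (Scheme.Hom.appTop _), ← Scheme.Hom.comp_appTop, ← w, Scheme.Hom.comp_appTop,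
        Category.assoc, Scheme.Hom.appLE, Category.assoc, v.naturality]
      rfl
    rw [e2]
    exact (((isUnit_iff_ne_zero.2 (by simpa using hr)).map
      (Scheme.ΓSpecIso (CommRingCat.of (FractionRing R))).inv.hom).map bK.appTop.hom).map _
  refine QCoh.app_injective ι U ?_
  rw [map_zero]
  have h0 : ι.app U (b.appLE V U le_top (e r) • m) = 0 := by
    rw [show b.appLE V U le_top (e r) • m = 0 from hrm, map_zero]
  rw [Scheme.Modules.Hom.app_smul] at h0
  let z : Γ(M, v ⁻¹ᵁ U) := ι.app U m
  exact (hu.smul_eq_zero (M := Γ(M, v ⁻¹ᵁ U)) (x := z)).1 (show v.app U (b.appLE V U le_top (e r)) • z = (0 : Γ(M, v ⁻¹ᵁ U)) from h0)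

/-- Quotients over the generic point extend to flat quotients. -/
theorem exists_flat_extension {P : Scheme.{u}} (b : P ⟶ Spec (CommRingCat.of R)) [LocallyOfFiniteType b]
    {PK : Scheme.{u}} {v : PK ⟶ P} {bK : PK ⟶ Spec (CommRingCat.of (FractionRing R))}
    (sq : IsPullback v bK b (Spec.map (CommRingCat.ofHom (algebraMap R (FractionRing R)))))
    {E : P.Modules} (hE : Coh.IsCoh E) {F : PK.Modules} (hF : Coh.IsQCoh F)
    (q : (Scheme.Modules.pullback v).obj E ⟶ F) [Epi q] :
    ∃ (F' : P.Modules) (π : E ⟶ F'), Coh.IsCoh F' ∧ Epi π ∧ FlatMod.IsFlatOver b F' ∧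
      ∃ e : (Scheme.Modules.pullback v).obj F' ≅ F, (Scheme.Modules.pullback v).map π ≫ e.hom = q := by
  haveI := H9FlatCl.isOpenImmersion_generic R
  haveI : IsOpenImmersion v := MorphismProperty.of_isPullback sq.flip inferInstance
  haveI : IsLocallyNoetherian P := LocallyOfFiniteType.isLocallyNoetherian b
  haveI : QuasiCompact v := MorphismProperty.of_isPullback sq.flip inferInstance
  let adj := Scheme.Modules.pullbackPushforwardAdjunction v
  let q' := adj.homEquiv _ _ q
  have hpush := QCoh.isQCoh_pushforward v hF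
  let F' := Abelian.image q'
  have hF'q : Coh.IsQCoh F' := QCoh.isQCoh_kernel hpush (QCoh.isQCoh_cokernel hE.1 hpush q') _
  let π := Abelian.factorThruImage q'
  let ι := Abelian.image.ι q'
  refine ⟨F', π, QCoh.isCoh_of_epi π hE hF'q, inferInstance, isFlatOver_of_mono R b v bK sq.w hF'q ι, ?_⟩
  haveI := isIso_counit_openImmersion v
  haveI : Flat v := inferInstance
  haveI := PPSheaf.preservesFiniteLimits_pullback v
  haveI : Mono ((Scheme.Modules.pullback v).map ι) := Functor.map_mono _ _
  let c := (Scheme.Modules.pullback v).map ι ≫ adj.counit.app F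
  have hc : (Scheme.Modules.pullback v).map π ≫ c = q := by
    rw [← Category.assoc, ← Functor.map_comp, Abelian.image.fac]
    exact (adj.homEquiv_counit _ _ _).symm.trans ((adj.homEquiv _ _).symm_apply_apply q)
  haveI : Mono c := mono_comp _ _
  haveI : Epi ((Scheme.Modules.pullback v).map π ≫ c) := by rw [hc]; infer_instance
  haveI : Epi c := epi_of_epi ((Scheme.Modules.pullback v).map π) c
  haveI : IsIso c := isIso_of_mono_of_epi c
  exact ⟨asIso c, hc⟩

end Groth.Agent.QuotRep

end
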