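import Groth.Agent.QuotRep.CoreUniv
import Groth.Agent.QuotRep.DvrExtend
import Groth.Agent.AlgSpVal.DvrThrough

/-!
# The stratum is closed
-/

set_option autoImplicit false
set_option linter.style.haveILetI false
set_option linter.unusedSectionVars false
set_option backward.isDefEq.respectTransparency false
set_option backward.isDefEq.respectTransparency.types false
set_option maxHeartbeats 1000000
set_option synthInstance.maxHeartbeats 400000

universe u

open CategoryTheory CategoryTheory.Limits AlgebraicGeometry TopologicalSpace Opposite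

attribute [-instance] CategoryTheory.catToReflQuiver

noncomputable section

namespace Groth.Agent.QuotRep

open Groth.Agent

variable {X S : Scheme.{u}} {E : X.Modules} {f : X ⟶ S} {L : X.Modules} {Φ : Polynomial ℚ}

theorem isFP_of_iso' {P : Scheme.{u}} {F F' : P.Modules} (e : F ≅ F') (h : CohB1.IsFP F) : CohB1.IsFP F' :=
  (SheafOfModules.isFinitePresentation (R := P.ringCatSheaf)).prop_of_iso e h

theorem IsQuot.of_sameQ {T : Scheme.{u}} {g : T ⟶ S} {F F' : (pullback f g).Modules}
    {q : (Scheme.Modules.pullback (pullback.fst f g)).obj E ⟶ F}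
    {q' : (Scheme.Modules.pullback (pullback.fst f g)).obj E ⟶ F'} (hq : IsQuot f L Φ g q) (h : SameQ q q') :
    IsQuot f L Φ g q' := by
  obtain ⟨e, rfl⟩ := h
  haveI := hq.epi
  exact ⟨epi_comp _ _, isFP_of_iso' e hq.fp, fun x => GrFlat5.isFlatOverAt_of_iso _ e x (hq.flat x),
    fun t j => (congrArg (Int.cast (R := ℚ))
      (HilbSnap.eulerChar_congr _ (PicGrp.tensorModIso e.symm (Iso.refl _)) t)).trans (hq.poly t j)⟩

/-- The Euler characteristics of a pulled back family. -/
theorem eulerChar_pullQ [IsProper f] (hLi : PicF.IsInvertible L) {W T : Scheme.{u}} {qW : W ⟶ S} {g : T ⟶ S}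
    (h : T ⟶ W) (hg : h ≫ qW = g) {FW : (pullback f qW).Modules} (hFW : Coh.IsQCoh FW) (t : T) (j : ℕ) :
    PerfAux.eulerChar (pullback.snd f g) (CohB1.tensorMod ((Scheme.Modules.pullback (pullback.lift (pullback.fst f g)
        (pullback.snd f g ≫ h) (by rw [Category.assoc, hg, pullback.condition]))).obj FW)
      (CohB1.tensorPow ((Scheme.Modules.pullback (pullback.fst f g)).obj L) j)) t =
      PerfAux.eulerChar (pullback.snd f qW) (CohB1.tensorMod FW
        (CohB1.tensorPow ((Scheme.Modules.pullback (pullback.fst f qW)).obj L) j)) (h t) := by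
  refine Eq.trans ?_ (HilbSnap.eulerChar_twist_bc (isPullback_lift h hg) hFW
    (PicClLib.isInvertible_pullback _ hLi) j t)
  let a' : pullback f g ⟶ pullback f qW :=
    pullback.lift (pullback.fst f g) (pullback.snd f g ≫ h) (by rw [Category.assoc, hg, pullback.condition])
  obtain ⟨e⟩ := H23.PicMul.cl_eq_iff.1 (show
    PicF.cl (CohB1.tensorMod ((Scheme.Modules.pullback a').obj FW)
        (CohB1.tensorPow ((Scheme.Modules.pullback (pullback.fst f g)).obj L) j)) =
      PicF.cl (CohB1.tensorMod ((Scheme.Modules.pullback a').obj FW)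
        (CohB1.tensorPow ((Scheme.Modules.pullback a').obj ((Scheme.Modules.pullback (pullback.fst f qW)).obj L)) j)) by
    rw [H23.PicMul.cl_tensor, H23.PicMul.cl_tensor, H23.PicMul.cl_tensorPow, H23.PicMul.cl_tensorPow,
      H23.PicMul.cl_eq_iff.2 ⟨((LimMod.trIso a' (pullback.fst f qW) (pullback.fst f g) (pullback.lift_fst _ _ _)).app L).symm⟩]
    rfl)
  exact HilbSnap.eulerChar_congr _ e t

theorem IsQuot.pull [IsProper f] (hLi : PicF.IsInvertible L) {W T : Scheme.{u}} {qW : W ⟶ S}
    {FW : (pullback f qW).Modules} {πW : (Scheme.Modules.pullback (pullback.fst f qW)).obj E ⟶ FW}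
    (hW : IsQuot f L Φ qW πW) {g : T ⟶ S} (h : T ⟶ W) (hg : h ≫ qW = g) :
    IsQuot f L Φ g (pullQ (pullback.lift (pullback.fst f g) (pullback.snd f g ≫ h)
      (by rw [Category.assoc, hg, pullback.condition])) (pullback.fst f qW) (pullback.fst f g)
        (pullback.lift_fst _ _ _) πW) := by
  haveI := hW.epi
  exact ⟨epi_pullQ _ _ _ _ _, ModStLib.isFP_pullback _ hW.fp,
    fun x => MorLib.FlatBC.isFlatOverAt_baseChange _ _ _ _ (isPullback_lift h hg) _ x (hW.flat _),
    fun t j => (congrArg (Int.cast (R := ℚ)) (eulerChar_pullQ hLi h hg (QCoh.isQCoh_of_isFP hW.fp) t j)).trans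
      (hW.poly (h t) j)⟩

theorem isLocallyConstant_const_of_local {A : Type u} [CommRing A] [IsLocalRing A] {β : Type*}
    {φ : Spec (CommRingCat.of A) → β} (hφ : IsLocallyConstant φ) (x : Spec (CommRingCat.of A)) :
    φ x = φ (IsLocalRing.closedPoint A) :=
  ((IsLocalRing.specializes_closedPoint x).mem_open (hφ.isOpen_fiber (φ (IsLocalRing.closedPoint A))) rfl)

/-- The universal stratum is closed. -/
theorem isClosedImmersion_of_isUniv [IsProper f] [LocallyOfFinitePresentation f] (hLi : PicF.IsInvertible L)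
    (hE : CohB1.IsFP E) {G W : Scheme.{u}} (qS : G ⟶ S) [IsSeparated qS] [IsLocallyNoetherian G] (i : W ⟶ G)
    [IsImmersion i] [QuasiCompact i] {FW : (pullback f (i ≫ qS)).Modules}
    {πW : (Scheme.Modules.pullback (pullback.fst f (i ≫ qS))).obj E ⟶ FW}
    (hW : IsUniv f L Φ (i ≫ qS) πW) : IsClosedImmersion i := by
  have hspec : SpecializingMap i := by
    intro u v huv
    obtain ⟨A, _, _, _, iR, k, hiR, hk, hki⟩ := AlgSpVal.exists_dvr_path_field i u v huv
    let jK := Spec.map (CommRingCat.ofHom (algebraMap A (FractionRing A)))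
    let g := iR ≫ qS
    have hgK : k ≫ i ≫ qS = jK ≫ g := by rw [← Category.assoc, hki, Category.assoc]
    haveI : IsLocallyNoetherian (Spec (CommRingCat.of A)) := inferInstance
    let P := pullback f g
    let PK := pullback f (jK ≫ g)
    let b : P ⟶ Spec (CommRingCat.of A) := pullback.snd f g
    haveI : IsProper b := inferInstanceAs (IsProper (pullback.snd f g))
    haveI : LocallyOfFinitePresentation b := inferInstanceAs (LocallyOfFinitePresentation (pullback.snd f g))
    haveI : IsLocallyNoetherian P := LocallyOfFiniteType.isLocallyNoetherian b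
    let aK := pullback.fst f (jK ≫ g)
    let v' : PK ⟶ P := pullback.lift aK (pullback.snd f (jK ≫ g) ≫ jK) (by rw [Category.assoc, pullback.condition])
    have hv' : v' ≫ pullback.fst f g = aK := pullback.lift_fst _ _ _
    have sq : IsPullback v' (pullback.snd f (jK ≫ g)) b jK := isPullback_lift jK rfl
    let qK := pullQ (pullback.lift aK (pullback.snd f (jK ≫ g) ≫ k)
      (by rw [Category.assoc, hgK, pullback.condition])) (pullback.fst f (i ≫ qS)) aK (pullback.lift_fst _ _ _) πW
    have hqK : IsQuot f L Φ (jK ≫ g) qK := hW.1.pull hLi k hgK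
    let τ := LimMod.trIso v' (pullback.fst f g) aK hv'
    let q₀ := τ.hom.app E ≫ qK
    haveI := hqK.epi
    haveI : Epi q₀ := epi_comp _ _
    obtain ⟨F', π, hF', hπ, hfl, e, he⟩ := exists_flat_extension A b sq
      (QCoh.isCoh_iff_isFP.2 (ModStLib.isFP_pullback (pullback.fst f g) hE)) (QCoh.isQCoh_of_isFP hqK.fp) q₀
    have hsame : SameQ (pullQ v' (pullback.fst f g) aK hv' π) qK := ⟨e, by
      refine (Category.assoc _ _ _).trans (Eq.trans ?_ (Iso.inv_hom_id_app_assoc τ E qK))
      exact congrArg (fun t => τ.inv.app E ≫ t) he⟩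
    have hF'p := QCoh.isCoh_iff_isFP.1 hF'
    have hq : IsQuot f L Φ g π := ⟨hπ, hF'p, hfl, fun t j => by
      have hlc := PBC.isLocallyConstant_eulerChar b (CohB1.tensorMod F'
          (CohB1.tensorPow ((Scheme.Modules.pullback (pullback.fst f g)).obj L) j))
        (HilbSnap.isFP_tensor_invertible hF'p (H23.PicMul.isInvertible_tensorPow (PicClLib.isInvertible_pullback _ hLi) j))
        (TwistFlat.isFlatOver_tensor _ (H23.PicMul.isInvertible_tensorPow (PicClLib.isInvertible_pullback _ hLi) j) hfl)
      let o : Spec (CommRingCat.of (FractionRing A)) := IsLocalRing.closedPoint (FractionRing A)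
      rw [isLocallyConstant_const_of_local hlc t, ← isLocallyConstant_const_of_local hlc (jK o), ← hqK.poly o j]
      refine congrArg (Int.cast (R := ℚ)) ((eulerChar_pullQ hLi jK rfl hF'.1 o j).symm.trans ?_)
      obtain ⟨e', -⟩ := hsame
      exact HilbSnap.eulerChar_congr _ (PicGrp.tensorModIso e' (Iso.refl _)) o⟩
    obtain ⟨h, ⟨hg, hh⟩, -⟩ := hW.2 _ g F' π hq
    have hjk : jK ≫ h = k := by
      refine (hW.2 _ (jK ≫ g) _ qK hqK).unique ⟨by rw [Category.assoc, hg], ?_⟩ ⟨hgK, ⟨Iso.refl _, Category.comp_id _⟩⟩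
      refine SameQ.trans ?_ hsame
      obtain ⟨e₂, he₂⟩ := hh
      refine (sameQ_pullQ_pullQ v' (pullback.lift (pullback.fst f g) (pullback.snd f g ≫ h)
          (by rw [Category.assoc, hg, pullback.condition])) (pullback.fst f (i ≫ qS)) (pullback.fst f g)
        (pullback.lift_fst _ _ _) aK hv' _ (pullback.hom_ext ?_ ?_) πW).symm.trans
        ⟨(Scheme.Modules.pullback v').mapIso e₂, ?_⟩
      · rw [Category.assoc, pullback.lift_fst, pullback.lift_fst, pullback.lift_fst]
      · rw [Category.assoc, pullback.lift_snd, pullback.lift_snd, ← Category.assoc, pullback.lift_snd, Category.assoc]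
      · rw [pullQ, pullQ, Category.assoc, Functor.mapIso_hom, ← Functor.map_comp]
        exact congrArg (fun t => (LimMod.trIso v' (pullback.fst f g) aK hv').inv.app E ≫ (Scheme.Modules.pullback v').map t) he₂
    haveI := H9FlatCl.isOpenImmersion_generic A
    haveI : IsDominant jK := ⟨by
      refine (jK.isOpenEmbedding.isOpen_range).dense ?_
      exact Set.range_nonempty _⟩
    have hhi : h ≫ i = iR := ext_of_isDominant_of_isSeparated qS (by rw [Category.assoc]; exact hg) jK
      (by rw [← Category.assoc, hjk, hki])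
    refine ⟨h (IsLocalRing.closedPoint A), ?_, ?_⟩
    · show u ⤳ h (IsLocalRing.closedPoint A)
      rw [← hk, ← hjk, Scheme.Hom.comp_apply]
      exact (IsLocalRing.specializes_closedPoint _).map h.continuous
    · rw [← Scheme.Hom.comp_apply, hhi, hiR]
  exact .of_isPreimmersion i ((isClosedMap_iff_specializingMap i).2 hspec).isClosed_range

end Groth.Agent.QuotRep

end
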