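import Groth.Agent.QuotRep.BdAux
import Groth.Agent.QuotRep.HighBC
import Groth.Agent.HilbBound.Closed

/-!
# Quotients on closed subschemes of projective space over a field
-/

set_option autoImplicit false
set_option linter.style.haveILetI false
set_option linter.unusedSectionVars false
set_option backward.isDefEq.respectTransparency false
set_option backward.isDefEq.respectTransparency.types false
set_option maxHeartbeats 1000000
set_option synthInstance.maxHeartbeats 400000

universe u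

open CategoryTheory CategoryTheory.Limits AlgebraicGeometry TopologicalSpace Opposite

attribute [-instance] CategoryTheory.catToReflQuiver

noncomputable section

namespace Groth.Agent.QuotRep

open Groth.Agent Groth.Agent.RegEpi Groth.Agent.PnCoh.Finite Groth.Agent.HilbBound

attribute [local instance 10000] HilbBound.projOver

theorem eq_zero_of_generated {X : Scheme.{u}} {M T : X.Modules} (h : Curv2.IsGloballyGenerated M) (g : M ⟶ T)
    (h0 : ∀ s : Γ(M, (⊤ : X.Opens)), g.app ⊤ s = 0) : g = 0 :=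
  GGFF.gg_of_isGloballyGenerated h T g fun s => (GGFF.comp_eq_zero_iff s g).2 (h0 _)

theorem comb_zero {X : Scheme.{u}} {L : X.Modules} {N : ℕ} (v : Fin N → Γ(L, (⊤ : X.Opens))) :
    comb v (fun _ => 0) = 0 := Finset.sum_eq_zero fun _ _ => zero_smul _ _

/-- The consequences of a kernel bound for a quotient on a closed subscheme. -/
theorem field_bd {n p l N : ℕ} {Φ : Polynomial ℚ} {m : ℤ}
    (hm : ∀ (k : Type u) [Field k] (F : (Proj (CohB1.polyGrading n k)).Modules)
      (φ : FlatMod.freeMod (Proj (CohB1.polyGrading n k)) p ⟶ F), Coh.IsCoh F → Epi φ →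
      (∀ t : ℤ, (chi (k := k) (n := n) F t : ℚ) = Φ.eval (t : ℚ)) → Curv2.IsMRegular k n (kernel φ) m)
    (hl : m ≤ (l : ℤ))
    {K : Type u} [Field K] {P : Scheme.{u}} (ι : P ⟶ Proj (CohB1.polyGrading n K)) [IsClosedImmersion ι]
    (b : P ⟶ Spec (CommRingCat.of K)) (hb : ι ≫ CohB1.ProjSpace.toSpec n K = b)
    {G : (Proj (CohB1.polyGrading n K)).Modules}
    (ε : FlatMod.freeMod (Proj (CohB1.polyGrading n K)) p ≅ (twF (k := K) (n := n) (-(l : ℤ))).obj G)
    (v : Fin N → Γ(G, (⊤ : (Proj (CohB1.polyGrading n K)).Opens)))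
    (hv : ∀ s, ∃ c : Fin N → K, comb v (fun j => Coh.toGlobal (CohB1.ProjSpace.toSpec n K) (c j)) = s)
    (hG : Coh.IsCoh G) {F : P.Modules} (hF : Coh.IsCoh F)
    (q : (Scheme.Modules.pullback ι).obj G ⟶ F) [Epi q]
    (hchi : letI : P.Over (Spec (CommRingCat.of K)) := ⟨b⟩
      ∀ j : ℕ, (Curv2.euler K P (CohB1.tensorMod F (CohB1.tensorPow (PruferCoh.oneX ι) j)) : ℚ) =
        Φ.eval ((j : ℚ) + (l : ℚ))) :
    letI : P.Over (Spec (CommRingCat.of K)) := ⟨b⟩
    (∀ i, 0 < i → Subsingleton (Coh.HH P F i)) ∧ (Module.finrank K (Coh.HH P F 0) : ℚ) = Φ.eval (l : ℚ) ∧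
      Module.Finite K (Coh.HH P F 0) ∧
      (∀ s, ∃ c : Fin N → K, comb (fun j => q.app ⊤ (pullTop ι G (v j))) (fun j => Coh.toGlobal b (c j)) = s) ∧
      ∀ (M : P.Modules) (ψ : (Scheme.Modules.pullback ι).obj G ⟶ M),
        (∀ c : Fin N → K, comb (fun j => q.app ⊤ (pullTop ι G (v j))) (fun j => Coh.toGlobal b (c j)) = 0 →
          comb (fun j => ψ.app ⊤ (pullTop ι G (v j))) (fun j => Coh.toGlobal b (c j)) = 0) →
        ∃ χ : F ⟶ M, q ≫ χ = ψ := by
  letI : P.Over (Spec (CommRingCat.of K)) := ⟨b⟩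
  let PK := Proj (CohB1.polyGrading n K)
  haveI : IsNoetherian PK := Proj16.isNoetherian_proj _
  haveI : IsProper (PK ↘ Spec (CommRingCat.of K)) := HilbBound.isProper_over (k := K) (n := n)
  haveI : IsLocallyNoetherian P := LocallyOfFiniteType.isLocallyNoetherian ι
  have hι : ι ≫ (PK ↘ Spec (CommRingCat.of K)) = P ↘ Spec (CommRingCat.of K) := hb
  haveI : PreservesColimitsOfShape WalkingSpan (Scheme.Modules.pushforward ι) :=
    KFlatLib.preservesColimitsOfShape_push ι _
  haveI := (Scheme.Modules.pullbackPushforwardAdjunction ι).rightAdjoint_preservesLimits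
  let adj := Scheme.Modules.pullbackPushforwardAdjunction ι
  let θ := adj.homEquiv _ _ q
  haveI := FamHom.epi_unit ι G
  haveI : Epi ((Scheme.Modules.pushforward ι).map q) := inferInstance
  haveI : Epi θ := by
    show Epi (adj.homEquiv _ _ q)
    rw [Adjunction.homEquiv_unit]
    exact epi_comp _ _
  have hFp := QCoh.isCoh_pushforward_finite ι hF
  have hK : Coh.IsCoh (kernel θ) := QCoh.isCoh_kernel hG hFp θ
  have hchi' : ∀ t : ℤ, (chi (k := K) (n := n) ((Scheme.Modules.pushforward ι).obj F) t : ℚ) =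
      Φ.eval ((t : ℚ) + (l : ℚ)) := fun t => by
    have := chi_eq_of_nat hFp (P := Φ.comp (Polynomial.X + Polynomial.C (l : ℚ))) (fun j => by
      rw [chi_push ι hι hF.1 j, hchi j]
      simp) t
    rw [this]
    simp
  let S₀ : ShortComplex PK.Modules := ShortComplex.mk (kernel.ι θ) θ (kernel.condition θ)
  have hS₀ : S₀.ShortExact :=
    .mk' (ShortComplex.exact_of_f_is_kernel _ (kernelIsKernel θ)) inferInstance inferInstance
  have hS₁ := RegDescent.twSeq_exact (ProjRegular.coords K n) ProjRegular.coords_mem ProjRegular.coords_cover hS₀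
    (-(l : ℤ))
  let θ' := (twF (k := K) (n := n) (-(l : ℤ))).map θ
  haveI hθ' : Epi θ' := hS₁.epi_g
  have hreg₁ : Curv2.IsMRegular K n ((twF (-(l : ℤ))).obj (kernel θ)) m := by
    have h := hm K _ (ε.hom ≫ θ') (isCoh_tw hFp _) (epi_comp _ _) fun t => by
      rw [chi_Tw, hchi']
      push_cast
      ring_nf
    refine isMRegular_of_iso ((kernelIsIsoComp ε.hom θ') ≪≫ ?_) h
    exact (kernelIsKernel θ').conePointUniqueUpToIso hS₁.fIsKernel
  have hregK : Curv2.IsMRegular K n (kernel θ) 0 := fun i hi _ => by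
    obtain ⟨e⟩ := twF_twF_iso (k := K) (n := n) (kernel θ) (-(l : ℤ)) ((0 - (i : ℤ)) + l) (0 - (i : ℤ)) (by ring)
    exact QCoh.subsingleton_HH_of_iso e i
      (subsingleton_of_regular (isCoh_tw hK _) hreg₁ (q := i) hi (by omega))
  have hregG : Curv2.IsMRegular K n G 0 := fun i hi hin => by
    obtain ⟨e⟩ := twF_twF_iso (k := K) (n := n) G (-(l : ℤ)) ((0 - (i : ℤ)) + l) (0 - (i : ℤ)) (by ring)
    exact QCoh.subsingleton_HH_of_iso ((twF _).mapIso ε ≪≫ e) i
      (subsingleton_of_regular (isCoh_freeMod p) (isMRegular_freeMod p) (q := i) hi (by omega))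
  have hregF : Curv2.IsMRegular K n ((Scheme.Modules.pushforward ι).obj F) 0 :=
    isMRegular_X₃ (S := S₀) hS₀ hK hG hregK hregG le_rfl (by omega)
  obtain ⟨e₀⟩ := twF_zero_iso (k := K) (n := n) ((Scheme.Modules.pushforward ι).obj F)
  have hHH : ∀ i, Nonempty (Coh.HH P F i ≃ₗ[K] Coh.HH PK ((Scheme.Modules.pushforward ι).obj F) i) :=
    fun i => PnCoh.exists_linearEquiv_push K ι hι hF.1 i
  have hvan : ∀ i, 0 < i → Subsingleton (Coh.HH P F i) := fun i hi => by
    obtain ⟨e⟩ := hHH i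
    haveI : Subsingleton (Coh.HH PK ((Scheme.Modules.pushforward ι).obj F) i) :=
      QCoh.subsingleton_HH_of_iso e₀ i (subsingleton_of_regular hFp hregF (q := i) hi (by omega))
    exact e.toEquiv.subsingleton
  have hrank : (Module.finrank K (Coh.HH P F 0) : ℚ) = Φ.eval (l : ℚ) := by
    have h := chi_eq_h0 hFp hregF (j := 0) (by norm_num)
    have h' := hchi' 0
    rw [h, Int.cast_natCast, Int.cast_zero, zero_add] at h'
    obtain ⟨e⟩ := hHH 0
    rw [← h', e.finrank_eq]
    exact congrArg (Nat.cast (R := ℚ)) (dimH_congr (k := K) e₀ 0).symm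
  have hfin : Module.Finite K (Coh.HH P F 0) := by
    obtain ⟨e⟩ := hHH 0
    haveI : Module.Finite K (Coh.HH PK ((Scheme.Modules.pushforward ι).obj F) 0) :=
      projSpace_finite_HH n K ((Scheme.Modules.pushforward ι).obj F) hFp 0
    exact Module.Finite.equiv e.symm
  have hsurj : Function.Surjective (θ.app ⊤) := by
    refine app_top_surjective (A := K) (S := S₀) hS₀ ?_
    obtain ⟨eK⟩ := twF_zero_iso (k := K) (n := n) (kernel θ)
    exact QCoh.subsingleton_HH_of_iso eK 1 (subsingleton_of_regular hK hregK (q := 1) le_rfl (by omega))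
  have hscal : ∀ c : K, ι.app ⊤ (Coh.toGlobal (CohB1.ProjSpace.toSpec n K) c) = Coh.toGlobal b c := fun c => by
    rw [← hb]
    rfl
  have hval : ∀ {M : P.Modules} (ψ : (Scheme.Modules.pullback ι).obj G ⟶ M) (c : Fin N → K),
      (adj.homEquiv _ _ ψ).app ⊤ (comb v (fun j => Coh.toGlobal (CohB1.ProjSpace.toSpec n K) (c j))) =
        (show Γ((Scheme.Modules.pushforward ι).obj M, (⊤ : PK.Opens)) from
          (comb (X := P) (L := M) (fun j => ψ.app ⊤ (pullTop ι G (v j))) (fun j => Coh.toGlobal b (c j)) :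
            Γ(M, (⊤ : P.Opens)))) := fun ψ c => by
    rw [app_comb]
    refine Finset.sum_congr rfl fun j _ => ?_
    rw [Adjunction.homEquiv_unit]
    show (show Γ(P, ⊤) from ι.app ⊤ (Coh.toGlobal (CohB1.ProjSpace.toSpec n K) (c j))) •
      ψ.app ⊤ ((adj.unit.app G).app ⊤ (v j)) = _
    rw [hscal, ← pullTop_eq_unit]
  refine ⟨hvan, hrank, hfin, fun s => ?_, fun M ψ hψ => ?_⟩
  · obtain ⟨x, hx⟩ := hsurj s
    obtain ⟨c, rfl⟩ := hv x
    exact ⟨c, (hval q c).symm.trans hx⟩
  have hgg : Curv2.IsGloballyGenerated (kernel θ) := by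
    obtain ⟨eK⟩ := twF_zero_iso (k := K) (n := n) (kernel θ)
    exact AmpleX.isGloballyGenerated_of_iso eK (S1647.result K n _ hK 0 hregK)
  have hz : kernel.ι θ ≫ adj.homEquiv _ _ ψ = 0 := by
    refine eq_zero_of_generated hgg _ fun s => ?_
    obtain ⟨c, hc⟩ := hv ((kernel.ι θ).app ⊤ s)
    have h0 : θ.app ⊤ ((kernel.ι θ).app ⊤ s) = 0 :=
      congrArg (fun φ : kernel θ ⟶ (Scheme.Modules.pushforward ι).obj F => φ.app ⊤ s) (kernel.condition θ)
    rw [← hc, hval q c] at h0
    show (adj.homEquiv _ _ ψ).app ⊤ ((kernel.ι θ).app ⊤ s) = 0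
    rw [← hc, hval ψ c]
    exact hψ c h0
  let χ' := Abelian.epiDesc θ (adj.homEquiv _ _ ψ) hz
  have hχ' : θ ≫ χ' = adj.homEquiv _ _ ψ := Abelian.comp_epiDesc _ _ _
  haveI := AmpleVan.isIso_counit ι hF.1
  refine ⟨inv (adj.counit.app F) ≫ (Scheme.Modules.pullback ι).map χ' ≫ adj.counit.app M, ?_⟩
  have e1 := (adj.homEquiv _ _).symm_apply_apply ψ
  rw [← hχ', Adjunction.homEquiv_counit, Functor.map_comp, Category.assoc] at e1
  have e2 := (adj.homEquiv _ _).symm_apply_apply q
  rw [Adjunction.homEquiv_counit] at e2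
  rw [← e1, ← e2, Category.assoc]
  exact congrArg ((Scheme.Modules.pullback ι).map θ ≫ ·) (IsIso.hom_inv_id_assoc _ _)

end Groth.Agent.QuotRep

end
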