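import Groth.Agent.QuotRep.CoreProper
import Groth.Agent.QuotRep.GrassUniv

/-!
# The projective scheme of quotients with a given Hilbert polynomial
-/

set_option autoImplicit false
set_option linter.style.haveILetI false
set_option linter.unusedSectionVars false
set_option backward.isDefEq.respectTransparency false
set_option backward.isDefEq.respectTransparency.types false
set_option maxHeartbeats 1000000
set_option synthInstance.maxHeartbeats 400000

universe u

open CategoryTheory CategoryTheory.Limits AlgebraicGeometry TopologicalSpace Opposite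

attribute [-instance] CategoryTheory.catToReflQuiver

noncomputable section

namespace Groth.Agent.QuotRep

open Groth.Agent

variable {X S : Scheme.{u}} {f : X ⟶ S} {E L : X.Modules} {N r : ℕ} {Φ : Polynomial ℚ}

theorem Bd.extend {w : Fin N → Γ(E, (⊤ : X.Opens))} (h : Bd f E L w r Φ) {N' : ℕ}
    {w' : Fin N' → Γ(E, (⊤ : X.Opens))} (ι : Fin N → Fin N') (hι : ∀ j, w' (ι j) = w j) :
    Bd f E L w' r Φ := by
  intro K _ P a b x sq F q hF hq hΦ
  obtain ⟨h1, h2, h3, h4⟩ := h K P a b x sq F q hF hq hΦ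
  refine ⟨h1, h2, ?_, fun M ψ ⟨φ, hφ⟩ => h4 M ψ ⟨φ, fun j => ?_⟩⟩
  · haveI := h3
    have e : (secHom fun j => basis (Spec (CommRingCat.of K)) N' (ι j)) ≫ secHom (pushSec w' a b q) =
        secHom (pushSec w a b q) := by
      rw [secHom_comp]
      refine congrArg secHom (funext fun j => ?_)
      rw [secHom_basis_apply]
      exact congrArg (fun s => q.app ⊤ (pullTop a E s)) (hι j)
    haveI : Epi ((secHom fun j => basis (Spec (CommRingCat.of K)) N' (ι j)) ≫ secHom (pushSec w' a b q)) := by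
      rw [e]; infer_instance
    exact epi_of_epi (secHom fun j => basis (Spec (CommRingCat.of K)) N' (ι j)) _
  · have := hφ (ι j)
    simp only [pushSec, hι] at this ⊢
    exact this

/-- The Grassmannian over an arbitrary base, embedded in a projective space. -/
theorem exists_grassmannian_over (S : Scheme.{u}) (hrN : r ≤ N) :
    ∃ (G : Scheme.{u}) (qS : G ⟶ S) (Q : G.Modules) (σ : Fin N → Γ(Q, (⊤ : G.Opens))),
      FlatMod.IsFinLocFreeOfRank r Q ∧ Epi (secHom σ) ∧
      (∀ (T : Scheme.{u}) (g : T ⟶ S) (V : T.Modules), FlatMod.IsFinLocFreeOfRank r V →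
        ∀ v : Fin N → Γ(V, (⊤ : T.Opens)), Epi (secHom v) → ∃! h : T ⟶ G, h ≫ qS = g ∧
          ∃ φ : (Scheme.Modules.pullback h).obj Q ⟶ V, ∀ j, φ.app ⊤ (pullTop h Q (σ j)) = v j) ∧
      ∃ (m : ℕ) (c : G ⟶ CohB1.ProjSpaceOver m S),
        IsClosedImmersion c ∧ c ≫ CohB1.ProjSpaceOver.toBase m S = qS := by
  let k : CommRingCat.{u} := CommRingCat.of (ULift.{u} ℤ)
  obtain ⟨G₀, p, Q₀, σ₀, hQ₀, hσ₀, huniv, m, c, hc, hcp⟩ := exists_grassmannian k N r hrN
  let j₀ := specULiftZIsTerminal.from S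
  let a := pullback.fst p j₀
  haveI := hσ₀
  haveI : Epi (secHom fun j => pullTop a Q₀ (σ₀ j)) := epi_pullSec a σ₀
  refine ⟨pullback p j₀, pullback.snd p j₀, _, fun j => pullTop a Q₀ (σ₀ j),
    KRRReg.isFinLocFreeOfRank_pullback a hQ₀, inferInstance, fun T g V hV v hv => ?_, m, ?_⟩
  · obtain ⟨h₀, ⟨hh₀, φ₀, hφ₀⟩, hu⟩ := huniv T (specULiftZIsTerminal.from T) V hV v hv
    let h : T ⟶ pullback p j₀ := pullback.lift h₀ g (specULiftZIsTerminal.hom_ext _ _)
    have hl : h ≫ a = h₀ := pullback.lift_fst _ _ _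
    refine ⟨h, ⟨pullback.lift_snd _ _ _, (LimMod.trIso h a h₀ hl).hom.app Q₀ ≫ φ₀, fun j => ?_⟩, ?_⟩
    · exact (congrArg (φ₀.app ⊤) (trIso_pullTop h h₀ hl (σ₀ j))).trans (hφ₀ j)
    · rintro h' ⟨hg', φ', hφ'⟩
      refine pullback.hom_ext ?_ (hg'.trans (pullback.lift_snd _ _ _).symm)
      rw [hl]
      refine hu _ ⟨specULiftZIsTerminal.hom_ext _ _, (LimMod.trIso h' a (h' ≫ a) rfl).inv.app Q₀ ≫ φ', fun j => ?_⟩
      rw [← hφ' j]
      show φ'.app ⊤ (((LimMod.trIso h' a (h' ≫ a) rfl).inv.app Q₀).app ⊤ (pullTop (h' ≫ a) Q₀ (σ₀ j))) = _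
      refine congrArg (φ'.app ⊤) ?_
      rw [← trIso_pullTop h' (h' ≫ a) rfl (σ₀ j)]
      exact congrArg (fun t => Scheme.Modules.Hom.app t ⊤ (pullTop h' _ (pullTop a Q₀ (σ₀ j))))
        ((LimMod.trIso h' a (h' ≫ a) rfl).hom_inv_id_app Q₀)
  · let π₀ := CohB1.ProjSpace.toSpec m (ULift.{u} ℤ)
    haveI : IsIso (specULiftZIsTerminal.from (Spec k)) :=
      specULiftZIsTerminal.hom_ext (𝟙 _) (specULiftZIsTerminal.from (Spec k)) ▸ inferInstance
    let c₀ := c ≫ pullback.fst π₀ (specULiftZIsTerminal.from (Spec k))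
    haveI : IsClosedImmersion c := hc
    haveI : IsClosedImmersion c₀ := inferInstance
    refine ⟨pullback.map p j₀ π₀ j₀ c₀ (𝟙 S) (𝟙 _) (specULiftZIsTerminal.hom_ext _ _) (by simp), ?_, ?_⟩
    · exact MorphismProperty.pullbackMap (P := @IsClosedImmersion) (i₁ := c₀) (i₂ := 𝟙 S) inferInstance inferInstance
        (specULiftZIsTerminal.hom_ext _ _) (Category.id_comp _).symm
    · exact (pullback.lift_snd _ _ _).trans (Category.comp_id _)

/-- The scheme of quotients presented by sections, a closed subscheme of a projective space. -/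
theorem exists_quot_univ [IsNoetherian S] [IsProper f] [LocallyOfFinitePresentation f]
    (hLi : PicF.IsInvertible L) (hL : RelAmple.IsRelAmple f L) (hE : CohB1.IsFP E)
    (w : Fin N → Γ(E, (⊤ : X.Opens))) (hBd : Bd f E L w r Φ) :
    ∃ (W : Scheme.{u}) (qW : W ⟶ S), IsLocallyNoetherian W ∧
      ∃ (FW : (pullback f qW).Modules) (πW : (Scheme.Modules.pullback (pullback.fst f qW)).obj E ⟶ FW),
        IsUniv f L Φ qW πW ∧ ∃ (m : ℕ) (c : W ⟶ CohB1.ProjSpaceOver m S),
          IsClosedImmersion c ∧ c ≫ CohB1.ProjSpaceOver.toBase m S = qW := by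
  let w' : Fin (N + r) → Γ(E, (⊤ : X.Opens)) := Fin.append w 0
  have hBd' : Bd f E L w' r Φ := hBd.extend (Fin.castAdd r) fun j => Fin.append_left w 0 j
  obtain ⟨G, qS, Q, σ, hQ, hσ, hG, m, c, hc, hcq⟩ := exists_grassmannian_over S (N := N + r) (r := r) (by omega)
  haveI := hσ
  haveI := hc
  obtain ⟨W, i, hi, hqc, FW, πW, hW⟩ := exists_stratum_univ hLi hL hE w' hBd' qS hQ σ hG
  haveI := TwistFlat.isProper_toBase m (Y := S)
  haveI : IsLocallyNoetherian (CohB1.ProjSpaceOver m S) :=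
    LocallyOfFiniteType.isLocallyNoetherian (CohB1.ProjSpaceOver.toBase m S)
  haveI : IsLocallyNoetherian G := LocallyOfFiniteType.isLocallyNoetherian c
  haveI : IsSeparated qS := hcq ▸ inferInstance
  haveI := hi
  haveI := hqc
  haveI := isClosedImmersion_of_isUniv hLi hE qS i hW
  exact ⟨W, i ≫ qS, LocallyOfFiniteType.isLocallyNoetherian i, FW, πW, hW, m, i ≫ c, inferInstance,
    by rw [Category.assoc, hcq]⟩

end Groth.Agent.QuotRep

end
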