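import Groth.Agent.QuotRep.SecHom
import Groth.Agent.LimMod.Tr
import Groth.Agent.LimMod.Exact
import Groth.Agent.PBC.Bc0Comp

/-!
# The quotient by the relations of a point of the Grassmannian
-/

set_option autoImplicit false
set_option linter.style.haveILetI false
set_option linter.unusedSectionVars false
set_option backward.isDefEq.respectTransparency false
set_option backward.isDefEq.respectTransparency.types false
set_option maxHeartbeats 1000000
set_option synthInstance.maxHeartbeats 400000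

universe u

open CategoryTheory CategoryTheory.Limits AlgebraicGeometry TopologicalSpace Opposite

attribute [-instance] CategoryTheory.catToReflQuiver

noncomputable section

namespace Groth.Agent.QuotRep

open Groth.Agent

variable {P P' T T' : Scheme.{u}} {N : ℕ}

/-- The base change map sends pulled back sections to pulled back sections. -/
theorem bc0_pullTop (b : P ⟶ T) (g : T' ⟶ T) (b' : P' ⟶ T') (a' : P' ⟶ P) (w : a' ≫ b = b' ≫ g) (F : P.Modules)
    (s : Γ(F, (⊤ : P.Opens))) :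
    (show Γ((Scheme.Modules.pullback a').obj F, (⊤ : P'.Opens)) from (CohBC.bc0 b g b' a' w F).app ⊤
      (pullTop g ((Scheme.Modules.pushforward b).obj F)
        (show Γ((Scheme.Modules.pushforward b).obj F, (⊤ : T.Opens)) from s))) = pullTop a' F s :=
  PBC.bc0_app_pullSec b g b' a' w F (O := ⊤) (W := ⊤) le_top s

theorem pullFreeIso_hom_basis (g : P ⟶ T) (j : Fin N) :
    (KFlatLib.pullFreeIso g N).hom.app ⊤ (pullTop g _ (basis T N j)) = basis P N j := by
  have h := secHom_pullSec g (basis T N)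
  rw [secHom_basis, CategoryTheory.Functor.map_id, Category.comp_id] at h
  rw [← secHom_basis_apply (fun j => pullTop g _ (basis T N j)) j, ← h]
  exact congr(($((KFlatLib.pullFreeIso g N).inv_hom_id)).app ⊤ (basis P N j))

/-- The transpose of a map out of a free module. -/
theorem homEquiv_secHom (g : P ⟶ T) {M : P.Modules} (s : Fin N → Γ(M, (⊤ : P.Opens))) :
    (Scheme.Modules.pullbackPushforwardAdjunction g).homEquiv _ _ ((KFlatLib.pullFreeIso g N).hom ≫ secHom s) =
      secHom (show Fin N → Γ((Scheme.Modules.pushforward g).obj M, (⊤ : T.Opens)) from s) := by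
  refine hom_ext_basis fun j => ?_
  rw [secHom_basis_apply, Adjunction.homEquiv_unit]
  show (secHom s).app ⊤ ((KFlatLib.pullFreeIso g N).hom.app ⊤
    (((Scheme.Modules.pullbackPushforwardAdjunction g).unit.app _).app ⊤ (basis T N j))) = s j
  rw [← pullTop_eq_unit, pullFreeIso_hom_basis, secHom_basis_apply]

section Family

variable {X Y G : Scheme.{u}} (a₀ : Y ⟶ X) (b₀ : Y ⟶ G) {E : X.Modules} (w : Fin N → Γ(E, (⊤ : X.Opens)))
  {Q : G.Modules} (σ : Fin N → Γ(Q, (⊤ : G.Opens)))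

/-- The relations among the sections imposed by a point of the Grassmannian. -/
def rel : (Scheme.Modules.pullback b₀).obj (kernel (secHom σ)) ⟶ (Scheme.Modules.pullback a₀).obj E :=
  (Scheme.Modules.pullback b₀).map (kernel.ι (secHom σ)) ≫ (KFlatLib.pullFreeIso b₀ N).hom ≫
    secHom fun j => pullTop a₀ E (w j)

/-- The quotient by these relations. -/
def quo : Y.Modules := cokernel (rel a₀ b₀ w σ)

/-- The projection. -/
def quoπ : (Scheme.Modules.pullback a₀).obj E ⟶ quo a₀ b₀ w σ := cokernel.π (rel a₀ b₀ w σ)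

instance : Epi (quoπ a₀ b₀ w σ) := inferInstanceAs (Epi (cokernel.π _))

variable {a₀ b₀ w σ}

theorem rel_comp_eq_zero_iff [Epi (secHom σ)] {M : Y.Modules} (ψ : (Scheme.Modules.pullback a₀).obj E ⟶ M) :
    rel a₀ b₀ w σ ≫ ψ = 0 ↔ ∃ φ : Q ⟶ (Scheme.Modules.pushforward b₀).obj M,
      ∀ j, φ.app ⊤ (σ j) = (show Γ((Scheme.Modules.pushforward b₀).obj M, (⊤ : G.Opens)) from
        ψ.app ⊤ (pullTop a₀ E (w j))) := by
  let adj := Scheme.Modules.pullbackPushforwardAdjunction b₀
  let s : Fin N → Γ(M, (⊤ : Y.Opens)) := fun j => ψ.app ⊤ (pullTop a₀ E (w j))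
  let t : Fin N → Γ((Scheme.Modules.pushforward b₀).obj M, (⊤ : G.Opens)) := s
  have e : adj.homEquiv _ _ (rel a₀ b₀ w σ ≫ ψ) = kernel.ι (secHom σ) ≫ secHom t := by
    rw [rel, Category.assoc, Category.assoc, secHom_comp, Adjunction.homEquiv_naturality_left, homEquiv_secHom]
  have h0 : adj.homEquiv _ _ (0 : (Scheme.Modules.pullback b₀).obj (kernel (secHom σ)) ⟶ M) = 0 := by
    rw [Adjunction.homEquiv_unit, Functor.map_zero, comp_zero]
  rw [← (adj.homEquiv _ _).injective.eq_iff, e, h0]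
  constructor
  · intro h
    refine ⟨Abelian.epiDesc (secHom σ) (secHom t) h, fun j => ?_⟩
    have e2 := Abelian.comp_epiDesc (secHom σ) (secHom t) h
    rw [secHom_comp] at e2
    exact congrFun (secHom_injective e2) j
  · rintro ⟨φ, hφ⟩
    have e2 : secHom σ ≫ φ = secHom t := by
      rw [secHom_comp]
      exact congrArg secHom (funext hφ)
    rw [← e2, ← Category.assoc, kernel.condition, zero_comp]

variable (a₀ b₀ w σ) in
/-- The pulled back projection. -/
def quoπT {P : Scheme.{u}} (a' : P ⟶ Y) (a : P ⟶ X) (ha : a' ≫ a₀ = a) :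
    (Scheme.Modules.pullback a).obj E ⟶ (Scheme.Modules.pullback a').obj (quo a₀ b₀ w σ) :=
  (LimMod.trIso a' a₀ a ha).inv.app E ≫ (Scheme.Modules.pullback a').map (quoπ a₀ b₀ w σ)

theorem epi_quoπT {P : Scheme.{u}} (a' : P ⟶ Y) (a : P ⟶ X) (ha : a' ≫ a₀ = a) :
    Epi (quoπT a₀ b₀ w σ a' a ha) := by
  haveI := (Scheme.Modules.pullbackPushforwardAdjunction a').isLeftAdjoint
  exact epi_comp _ _

theorem trIso_pullTop {P : Scheme.{u}} (a' : P ⟶ Y) (a : P ⟶ X) (ha : a' ≫ a₀ = a) (x : Γ(E, (⊤ : X.Opens))) :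
    ((LimMod.trIso a' a₀ a ha).hom.app E).app ⊤ (pullTop a' _ (pullTop a₀ E x)) = pullTop a E x :=
  LimMod.tr_pullSec a' a₀ a ha le_top le_top le_top x

/-- Factorisation through the pulled back projection. -/
theorem exists_factor_iff [Epi (secHom σ)] {P T : Scheme.{u}} (h : T ⟶ G) (a' : P ⟶ Y) (b : P ⟶ T)
    (hw : a' ≫ b₀ = b ≫ h) (a : P ⟶ X) (ha : a' ≫ a₀ = a) {M : P.Modules}
    (ψ : (Scheme.Modules.pullback a).obj E ⟶ M) :
    (∃ χ, quoπT a₀ b₀ w σ a' a ha ≫ χ = ψ) ↔
      ∃ φ : (Scheme.Modules.pullback h).obj Q ⟶ (Scheme.Modules.pushforward b).obj M,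
        ∀ j, φ.app ⊤ (pullTop h Q (σ j)) = (show Γ((Scheme.Modules.pushforward b).obj M, (⊤ : T.Opens)) from
          ψ.app ⊤ (pullTop a E (w j))) := by
  let adj' := Scheme.Modules.pullbackPushforwardAdjunction a'
  let ψ₁ : (Scheme.Modules.pullback a').obj ((Scheme.Modules.pullback a₀).obj E) ⟶ M :=
    (LimMod.trIso a' a₀ a ha).hom.app E ≫ ψ
  let ψ' := adj'.homEquiv _ _ ψ₁
  have h1 : (∃ χ, quoπT a₀ b₀ w σ a' a ha ≫ χ = ψ) ↔ rel a₀ b₀ w σ ≫ ψ' = 0 := by
    constructor
    · rintro ⟨χ, hχ⟩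
      have e : ψ₁ = (Scheme.Modules.pullback a').map (quoπ a₀ b₀ w σ) ≫ χ := by
        rw [show ψ₁ = (LimMod.trIso a' a₀ a ha).hom.app E ≫ ψ from rfl, ← hχ, quoπT, Category.assoc,
          Iso.hom_inv_id_app_assoc]
      show rel a₀ b₀ w σ ≫ adj'.homEquiv _ _ ψ₁ = 0
      rw [e, Adjunction.homEquiv_naturality_left, ← Category.assoc, quoπ, cokernel.condition, zero_comp]
    · intro hz
      refine ⟨(adj'.homEquiv _ _).symm (cokernel.desc _ ψ' hz), ?_⟩
      have e : (Scheme.Modules.pullback a').map (quoπ a₀ b₀ w σ) ≫ (adj'.homEquiv _ _).symm (cokernel.desc _ ψ' hz) =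
          ψ₁ := by
        rw [← Adjunction.homEquiv_naturality_left_symm, quoπ, cokernel.π_desc]
        exact Equiv.symm_apply_apply _ _
      rw [quoπT, Category.assoc, e]
      exact Iso.inv_hom_id_app_assoc _ _ _
  rw [h1, rel_comp_eq_zero_iff]
  have hval : ∀ j, ψ'.app ⊤ (pullTop a₀ E (w j)) =
      (show Γ((Scheme.Modules.pushforward a').obj M, (⊤ : Y.Opens)) from ψ.app ⊤ (pullTop a E (w j))) := fun j => by
    show ((adj'.homEquiv _ _) ψ₁).app ⊤ _ = _
    rw [Adjunction.homEquiv_unit]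
    show ψ₁.app ⊤ ((adj'.unit.app _).app ⊤ (pullTop a₀ E (w j))) = _
    rw [← pullTop_eq_unit]
    exact congrArg (ψ.app ⊤) (trIso_pullTop a' a ha (w j))
  let κ := (Scheme.Modules.pushforwardComp a' b₀).app M ≪≫ (Scheme.Modules.pushforwardCongr hw).app M ≪≫
    ((Scheme.Modules.pushforwardComp b h).app M).symm
  have hκ : ∀ s : Γ(M, (⊤ : P.Opens)), κ.hom.app ⊤
      (show Γ((Scheme.Modules.pushforward b₀).obj ((Scheme.Modules.pushforward a').obj M), (⊤ : G.Opens)) from s) =
      (show Γ((Scheme.Modules.pushforward h).obj ((Scheme.Modules.pushforward b).obj M), (⊤ : G.Opens)) from s) :=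
    fun s => QCoh.map_id' (M := M) (U := (⊤ : P.Opens)) _ s
  let adjh := Scheme.Modules.pullbackPushforwardAdjunction h
  have hunit : ∀ (φ : (Scheme.Modules.pullback h).obj Q ⟶ (Scheme.Modules.pushforward b).obj M) (j : Fin N),
      ((adjh.homEquiv _ _) φ).app ⊤ (σ j) = φ.app ⊤ (pullTop h Q (σ j)) := fun φ j => by
    rw [Adjunction.homEquiv_unit, pullTop_eq_unit]
    rfl
  constructor
  · rintro ⟨φ', hφ'⟩
    refine ⟨(adjh.homEquiv _ _).symm (φ' ≫ κ.hom), fun j => ?_⟩
    rw [← hunit, Equiv.apply_symm_apply]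
    refine (congrArg (κ.hom.app ⊤) ((hφ' j).trans (hval j))).trans ?_
    exact hκ _
  · rintro ⟨φ, hφ⟩
    refine ⟨adjh.homEquiv _ _ φ ≫ κ.inv, fun j => ?_⟩
    show κ.inv.app ⊤ ((adjh.homEquiv _ _ φ).app ⊤ (σ j)) = _
    rw [hunit, hφ, hval]
    refine (congrArg (κ.inv.app ⊤) (hκ _).symm).trans ?_
    exact congrArg (fun t => Scheme.Modules.Hom.app t ⊤ _) κ.hom_inv_id

end Family

end Groth.Agent.QuotRep

end
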