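import Groth.Agent.VAFibre.Span
import Groth.Agent.AmpleX.CounitEpi
import Groth.Agent.QCoh.AnnIdeal
import Groth.Agent.QCoh.Support
import Groth.Agent.LimMod.Exact
import Groth.Agent.LimMod.Tr

/-!
# The counit of a family generated on the fibres is epi
-/

set_option autoImplicit false
set_option linter.style.haveILetI false
set_option linter.unusedSectionVars false
set_option backward.isDefEq.respectTransparency false
set_option backward.isDefEq.respectTransparency.types false
set_option maxHeartbeats 1000000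

universe u

open CategoryTheory CategoryTheory.Limits AlgebraicGeometry TopologicalSpace Opposite

noncomputable section

namespace Groth.Agent.QuotRep

open Groth.Agent

variable {X S : Scheme.{u}}

/-- A module of finite type with empty fibres vanishes. -/
theorem isZero_of_isZero_fibre (f : X ⟶ S) {C : X.Modules} (hC : Coh.IsQCoh C) (hft : CohB1.IsFT C)
    (h : ∀ s : S, IsZero ((Scheme.Modules.pullback (f.fiberι s)).obj C)) : IsZero C := by
  have hs : CohB1.support C = ∅ := by
    refine Set.eq_empty_of_forall_notMem fun x hx => ?_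
    have h1 := QCoh.support_pullback (f.fiberι (f x)) hC hft
    rw [QCoh.support_eq_empty_of_isZero (h (f x)) (QCoh.isQCoh_pullback _ hC)] at h1
    obtain ⟨z, hz⟩ : ∃ z, f.fiberι (f x) z = x := ⟨f.asFiber x, Scheme.Hom.fiberι_asFiber f x⟩
    exact (Set.eq_empty_iff_forall_notMem.1 h1.symm z) (show f.fiberι (f x) z ∈ CohB1.support C from hz.symm ▸ hx)
  refine QCoh.isZero_of_cover hC (fun U : X.affineOpens => U.1) (fun U => U.2) (fun x => ?_) fun U => ?_
  · obtain ⟨U, hU, hx⟩ := QCoh.exists_affine_mem x
    exact ⟨⟨U, hU⟩, hx⟩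
  · refine Module.support_eq_empty_iff (R := Γ(X, U.1)).1 (Set.eq_empty_of_forall_notMem fun p hp => ?_)
    have hmem : U.2.fromSpec p ∈ U.1 := by
      have h' : U.2.fromSpec p ∈ Set.range U.2.fromSpec := ⟨p, rfl⟩
      rwa [U.2.range_fromSpec] at h'
    have hq : U.2.primeIdealOf ⟨U.2.fromSpec p, hmem⟩ = p :=
      (Scheme.Hom.isEmbedding U.2.fromSpec).injective (U.2.fromSpec_primeIdealOf _)
    rw [← hq] at hp
    exact Set.eq_empty_iff_forall_notMem.1 hs _ ((QCoh.mem_moduleSupport_iff hC U.2 hmem).1 hp)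

/-- The counit is epi if all fibres are globally generated and base change holds on them. -/
theorem epi_counit_of_fibre (f : X ⟶ S) [QuasiCompact f] [QuasiSeparated f] {G : X.Modules}
    (hG : Coh.IsQCoh G) (hft : CohB1.IsFT G)
    (hbc : ∀ s : S, IsIso (CohBC.bc0 f (S.fromSpecResidueField s) (f.fiberToSpecResidueField s) (f.fiberι s)
      (f.fiber_fac s) G))
    (hgg : ∀ s : S, Curv2.IsGloballyGenerated ((Scheme.Modules.pullback (f.fiberι s)).obj G)) :
    Epi ((Scheme.Modules.pullbackPushforwardAdjunction f).counit.app G) := by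
  let adj := Scheme.Modules.pullbackPushforwardAdjunction f
  let ε := adj.counit.app G
  let π : G ⟶ cokernel ε := cokernel.π ε
  have hP : Coh.IsQCoh ((Scheme.Modules.pullback f).obj ((Scheme.Modules.pushforward f).obj G)) :=
    QCoh.isQCoh_pullback f (QCoh.isQCoh_pushforward f hG)
  have hC : Coh.IsQCoh (cokernel ε) := QCoh.isQCoh_cokernel hP hG ε
  refine Preadditive.epi_of_isZero_cokernel ε
    (isZero_of_isZero_fibre f hC (LimMod.isFT_cokernel hP hG hft ε) fun s => ?_)
  haveI := hbc s
  obtain ⟨V, hV, hsV⟩ := QCoh.exists_affine_mem s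
  have hle : (⊤ : (f.fiber s).Opens) ≤ f.fiberι s ⁻¹ᵁ (f ⁻¹ᵁ V) := by
    intro z _
    show f (f.fiberι s z) ∈ V
    have hz : f.fiberι s z ∈ Set.range (f.fiberι s) := ⟨z, rfl⟩
    rw [Scheme.Hom.range_fiberι] at hz
    exact (show f (f.fiberι s z) = s from hz).symm ▸ hsV
  let p := (Scheme.Modules.pullback (f.fiberι s)).map π
  have hkill : ∀ x : Γ(G, f ⁻¹ᵁ V), π.app (f ⁻¹ᵁ V) x = 0 := fun x => by
    have h1 : adj.unit.app ((Scheme.Modules.pushforward f).obj G) ≫ (Scheme.Modules.pushforward f).map (ε ≫ π) =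
        (Scheme.Modules.pushforward f).map π := by
      rw [Functor.map_comp]
      exact adj.right_triangle_components_assoc G _
    rw [cokernel.condition, Functor.map_zero, comp_zero] at h1
    exact (congr(($h1).app V x)).symm
  have hz : ∀ z, p.app ⊤ z = 0 := fun z => by
    obtain ⟨m, c, x, rfl⟩ := VAFibre.exists_comb_fibre f hG s hV hsV hle z
    rw [map_sum]
    refine Finset.sum_eq_zero fun i _ => ?_
    rw [Scheme.Modules.Hom.app_smul, ExistEasy.pullSec_natural, hkill, LimMod.pullSec_zero, smul_zero]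
  obtain ⟨σ, q, hq⟩ := hgg s
  have hp : p = 0 := by
    rw [← cancel_epi q, comp_zero]
    refine Sigma.hom_ext _ _ fun k => ?_
    refine AmpleX.hom_ext_one' ?_
    rw [comp_zero]
    exact hz _
  haveI : Epi p := inferInstanceAs (Epi ((Scheme.Modules.pullback (f.fiberι s)).map (cokernel.π ε)))
  exact IsZero.of_epi_eq_zero p hp

end Groth.Agent.QuotRep

end
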