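import Groth.Agent.QuotRep.CoreFactor
import Groth.Agent.QuotRep.Frame
import Groth.Agent.QuotRep.EpiCounit
import Groth.Agent.PBC.Deg0Glob
import Groth.Agent.PBC.Top
import Groth.Agent.PBC.Betti
import Groth.Agent.HilbSnap.GeClosed
import Groth.Agent.HilbSnap.UniformVan
import Groth.Agent.KRRReg.LamPull

/-!
# Families whose fibres are presented by sections
-/

set_option autoImplicit false
set_option linter.style.haveILetI false
set_option linter.unusedSectionVars false
set_option backward.isDefEq.respectTransparency false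
set_option backward.isDefEq.respectTransparency.types false
set_option maxHeartbeats 1000000
set_option synthInstance.maxHeartbeats 400000

universe u

open CategoryTheory CategoryTheory.Limits AlgebraicGeometry TopologicalSpace Opposite

attribute [-instance] CategoryTheory.catToReflQuiver

noncomputable section

namespace Groth.Agent.QuotRep

open Groth.Agent

variable {X S : Scheme.{u}} {N : ℕ}

/-- The images of the sections in the direct image of a quotient. -/
def pushSec {E : X.Modules} (w : Fin N → Γ(E, (⊤ : X.Opens))) {P T : Scheme.{u}} (a : P ⟶ X) (b : P ⟶ T)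
    {F : P.Modules} (q : (Scheme.Modules.pullback a).obj E ⟶ F) :
    Fin N → Γ((Scheme.Modules.pushforward b).obj F, (⊤ : T.Opens)) :=
  fun j => q.app ⊤ (pullTop a E (w j))

/-- All quotients with Hilbert polynomial `Φ` of the fibres over fields are presented by the sections `w`. -/
def Bd (f : X ⟶ S) (E L : X.Modules) (w : Fin N → Γ(E, (⊤ : X.Opens))) (r : ℕ) (Φ : Polynomial ℚ) : Prop :=
  ∀ (K : Type u) [Field K] (P : Scheme.{u}) (a : P ⟶ X) (b : P ⟶ Spec (CommRingCat.of K))
    (x : Spec (CommRingCat.of K) ⟶ S), IsPullback a b f x →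
  ∀ (F : P.Modules) (q : (Scheme.Modules.pullback a).obj E ⟶ F), Coh.IsCoh F → Epi q →
    (∀ t (j : ℕ), (PerfAux.eulerChar b (CohB1.tensorMod F
      (CohB1.tensorPow ((Scheme.Modules.pullback a).obj L) j)) t : ℚ) = Φ.eval (j : ℚ)) →
    (∀ t, Subsingleton (CohIII.fiberH b F t 1)) ∧
      FlatMod.IsFinLocFreeOfRank r ((Scheme.Modules.pushforward b).obj F) ∧
      Epi (secHom (pushSec w a b q)) ∧
      ∀ (M : P.Modules) (ψ : (Scheme.Modules.pullback a).obj E ⟶ M),
        (∃ φ : (Scheme.Modules.pushforward b).obj F ⟶ (Scheme.Modules.pushforward b).obj M,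
          ∀ j, φ.app ⊤ (pushSec w a b q j) = pushSec w a b ψ j) → kernel.ι q ≫ ψ = 0

theorem rank_unique {M : X.Modules} [Nonempty X] {n m : ℕ} (hn : FlatMod.IsFinLocFreeOfRank n M)
    (hm : FlatMod.IsFinLocFreeOfRank m M) : n = m := by
  obtain ⟨x⟩ := ‹Nonempty X›
  obtain ⟨p⟩ := CurveTensor.exists_basis_stalk hn x
  obtain ⟨q⟩ := CurveTensor.exists_basis_stalk hm x
  simpa using Fintype.card_congr (p.indexEquiv q)

/-- Epimorphy is checked on the residue fields. -/
theorem epi_of_residueField {A B : X.Modules} (hA : Coh.IsQCoh A) (hB : Coh.IsQCoh B) (hBt : CohB1.IsFT B)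
    (φ : A ⟶ B) (h : ∀ t : X, Epi ((Scheme.Modules.pullback (X.fromSpecResidueField t)).map φ)) : Epi φ := by
  refine Preadditive.epi_of_isZero_cokernel φ
    (isZero_of_isZero_fibre (𝟙 X) (QCoh.isQCoh_cokernel hA hB φ) (LimMod.isFT_cokernel hA hB hBt φ) fun t => ?_)
  haveI := LimMod.pullback_preservesColimits (X.fromSpecResidueField t)
  haveI := h t
  have hz : IsZero ((Scheme.Modules.pullback (X.fromSpecResidueField t)).obj (cokernel φ)) :=
    (isZero_cokernel_of_epi _).of_iso (PreservesCokernel.iso (Scheme.Modules.pullback _) φ)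
  have e : (𝟙 X : X ⟶ X).fiberι t = (𝟙 X : X ⟶ X).fiberToSpecResidueField t ≫ X.fromSpecResidueField t := by
    rw [← Scheme.Hom.fiber_fac, Category.comp_id]
  rw [e]
  haveI := (Scheme.Modules.pullbackPushforwardAdjunction ((𝟙 X : X ⟶ X).fiberToSpecResidueField t)).isLeftAdjoint
  haveI : (Scheme.Modules.pullback ((𝟙 X : X ⟶ X).fiberToSpecResidueField t)).Additive :=
    Functor.additive_of_preserves_binary_products _
  exact (Functor.map_isZero (Scheme.Modules.pullback ((𝟙 X : X ⟶ X).fiberToSpecResidueField t)) hz).of_iso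
    ((Scheme.Modules.pullbackComp _ _).app _).symm

variable {f : X ⟶ S} {E L : X.Modules} {w : Fin N → Γ(E, (⊤ : X.Opens))} {r : ℕ} {Φ : Polynomial ℚ}

/-- The quotient on the fibre over a point. -/
def fibQ {P T : Scheme.{u}} (a : P ⟶ X) (b : P ⟶ T) {F : P.Modules} (q : (Scheme.Modules.pullback a).obj E ⟶ F)
    (t : T) : (Scheme.Modules.pullback (b.fiberι t ≫ a)).obj E ⟶ (Scheme.Modules.pullback (b.fiberι t)).obj F :=
  (LimMod.trIso (b.fiberι t) a (b.fiberι t ≫ a) rfl).inv.app E ≫ (Scheme.Modules.pullback (b.fiberι t)).map q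

theorem fibQ_pullTop {P T : Scheme.{u}} (a : P ⟶ X) (b : P ⟶ T) {F : P.Modules}
    (q : (Scheme.Modules.pullback a).obj E ⟶ F) (t : T) (s : Γ(E, (⊤ : X.Opens))) :
    (fibQ a b q t).app ⊤ (pullTop (b.fiberι t ≫ a) E s) = pullTop (b.fiberι t) F (q.app ⊤ (pullTop a E s)) := by
  rw [← trIso_pullTop (b.fiberι t) (b.fiberι t ≫ a) rfl s]
  refine (congrArg (((Scheme.Modules.pullback (b.fiberι t)).map q).app ⊤) (congrArg (fun f => Scheme.Modules.Hom.app f ⊤
    (pullTop (b.fiberι t) _ (pullTop a E s))) ((LimMod.trIso (b.fiberι t) a (b.fiberι t ≫ a) rfl).hom_inv_id_app E))).trans ?_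
  exact ExistEasy.pullSec_natural (b.fiberι t) q le_top _

/-- The properties of a family whose fibres are presented by the sections. -/
theorem family_props [IsProper f] [LocallyOfFinitePresentation f] (hBd : Bd f E L w r Φ) (hLi : PicF.IsInvertible L)
    {P T : Scheme.{u}} {a : P ⟶ X} {b : P ⟶ T} {g : T ⟶ S} (sq : IsPullback a b f g) {F : P.Modules}
    (q : (Scheme.Modules.pullback a).obj E ⟶ F) [Epi q] (hF : CohB1.IsFP F) (hfl : FlatMod.IsFlatOver b F)
    (hΦ : ∀ t (j : ℕ), (PerfAux.eulerChar b (CohB1.tensorMod F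
      (CohB1.tensorPow ((Scheme.Modules.pullback a).obj L) j)) t : ℚ) = Φ.eval (j : ℚ)) :
    FlatMod.IsFinLocFreeOfRank r ((Scheme.Modules.pushforward b).obj F) ∧ Epi (secHom (pushSec w a b q)) ∧
      ∀ t : T, FlatMod.IsFinLocFreeOfRank r ((Scheme.Modules.pushforward (b.fiberToSpecResidueField t)).obj
          ((Scheme.Modules.pullback (b.fiberι t)).obj F)) ∧
        Epi (secHom (pushSec w (b.fiberι t ≫ a) (b.fiberToSpecResidueField t) (fibQ a b q t))) ∧
        ∀ (M : (b.fiber t).Modules) (ψ : (Scheme.Modules.pullback (b.fiberι t ≫ a)).obj E ⟶ M),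
          (∃ φ : (Scheme.Modules.pushforward (b.fiberToSpecResidueField t)).obj
              ((Scheme.Modules.pullback (b.fiberι t)).obj F) ⟶
              (Scheme.Modules.pushforward (b.fiberToSpecResidueField t)).obj M,
            ∀ j, φ.app ⊤ (pushSec w (b.fiberι t ≫ a) (b.fiberToSpecResidueField t) (fibQ a b q t) j) =
              pushSec w (b.fiberι t ≫ a) (b.fiberToSpecResidueField t) ψ j) →
            kernel.ι (fibQ a b q t) ≫ ψ = 0 := by
  haveI : IsProper b := MorphismProperty.of_isPullback sq inferInstance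
  haveI : LocallyOfFinitePresentation b := MorphismProperty.of_isPullback sq inferInstance
  have hFq := QCoh.isQCoh_of_isFP hF
  have key : ∀ t : T, (∀ s, Subsingleton (CohIII.fiberH (b.fiberToSpecResidueField t)
      ((Scheme.Modules.pullback (b.fiberι t)).obj F) s 1)) ∧
      FlatMod.IsFinLocFreeOfRank r ((Scheme.Modules.pushforward (b.fiberToSpecResidueField t)).obj
          ((Scheme.Modules.pullback (b.fiberι t)).obj F)) ∧
        Epi (secHom (pushSec w (b.fiberι t ≫ a) (b.fiberToSpecResidueField t) (fibQ a b q t))) ∧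
        ∀ (M : (b.fiber t).Modules) (ψ : (Scheme.Modules.pullback (b.fiberι t ≫ a)).obj E ⟶ M),
          (∃ φ : (Scheme.Modules.pushforward (b.fiberToSpecResidueField t)).obj
              ((Scheme.Modules.pullback (b.fiberι t)).obj F) ⟶
              (Scheme.Modules.pushforward (b.fiberToSpecResidueField t)).obj M,
            ∀ j, φ.app ⊤ (pushSec w (b.fiberι t ≫ a) (b.fiberToSpecResidueField t) (fibQ a b q t) j) =
              pushSec w (b.fiberι t ≫ a) (b.fiberToSpecResidueField t) ψ j) →
            kernel.ι (fibQ a b q t) ≫ ψ = 0 := fun t => by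
    have h1 : IsPullback (b.fiberι t) (b.fiberToSpecResidueField t) b (T.fromSpecResidueField t) :=
      IsPullback.of_hasPullback _ _
    haveI : IsLocallyNoetherian (Spec (T.residueField t)) := inferInstanceAs (IsLocallyNoetherian (Spec (CommRingCat.of (T.residueField t))))
    haveI : LocallyOfFiniteType (b.fiberToSpecResidueField t) := MorphismProperty.of_isPullback h1 inferInstance
    haveI : IsLocallyNoetherian (b.fiber t) := LocallyOfFiniteType.isLocallyNoetherian (b.fiberToSpecResidueField t)
    haveI : Epi (fibQ a b q t) := by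
      haveI := (Scheme.Modules.pullbackPushforwardAdjunction (b.fiberι t)).isLeftAdjoint
      exact epi_comp _ _
    refine hBd (T.residueField t) (b.fiber t) (b.fiberι t ≫ a) (b.fiberToSpecResidueField t)
      (T.fromSpecResidueField t ≫ g) (h1.paste_horiz sq) _ (fibQ a b q t)
      (QCoh.isCoh_iff_isFP.2 (ModStLib.isFP_pullback _ hF)) inferInstance fun s j => ?_
    refine Eq.trans ?_ (hΦ (T.fromSpecResidueField t s) j)
    refine congrArg (Int.cast (R := ℚ)) ?_
    refine Eq.trans ?_ (HilbSnap.eulerChar_twist_bc h1 hFq (PicClLib.isInvertible_pullback a hLi) j s)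
    obtain ⟨e⟩ := H23.PicMul.cl_eq_iff.1 (show
      PicF.cl (CohB1.tensorMod ((Scheme.Modules.pullback (b.fiberι t)).obj F)
          (CohB1.tensorPow ((Scheme.Modules.pullback (b.fiberι t ≫ a)).obj L) j)) =
        PicF.cl (CohB1.tensorMod ((Scheme.Modules.pullback (b.fiberι t)).obj F)
          (CohB1.tensorPow ((Scheme.Modules.pullback (b.fiberι t)).obj ((Scheme.Modules.pullback a).obj L)) j)) by
      rw [H23.PicMul.cl_tensor, H23.PicMul.cl_tensor, H23.PicMul.cl_tensorPow, H23.PicMul.cl_tensorPow,
        H23.PicMul.cl_eq_iff.2 ⟨((Scheme.Modules.pullbackComp (b.fiberι t) a).app L).symm⟩]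
      rfl)
    exact HilbSnap.eulerChar_congr _ e s
  obtain ⟨hlf, hbc⟩ := PBC.isFinLocFree_and_isIso_bc0 b hF hfl ⊤ fun t _ => Or.inr (by
    refine HilbSnap.subsingleton_fiberH_of_rank b hF 1 t ?_
    have h1 : IsPullback (b.fiberι t) (b.fiberToSpecResidueField t) b (T.fromSpecResidueField t) :=
      IsPullback.of_hasPullback _ _
    let o : Spec (T.residueField t) := IsLocalRing.closedPoint (T.residueField t)
    haveI := (key t).1 o
    rw [show t = T.fromSpecResidueField t o from (Scheme.fromSpecResidueField_apply t o).symm,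
      ← PBC.fiberRank_bc h1 hFq 1 o]
    exact Module.finrank_zero_of_subsingleton)
  have hlf' := PBC.isFinLocFree_of_restrict_top hlf
  have hiso : ∀ t : T, IsIso (CohBC.bc0 b (T.fromSpecResidueField t) (b.fiberToSpecResidueField t) (b.fiberι t)
      (b.fiber_fac t) F) := fun t => hbc _ _ _ _ _ (IsPullback.of_hasPullback b (T.fromSpecResidueField t)) fun _ => trivial
  refine ⟨fun t => ?_, ?_, fun t => (key t).2⟩
  · obtain ⟨U, m, ht, ⟨i⟩⟩ := hlf' t
    refine ⟨U, ht, ?_⟩
    suffices hm : m = r by subst hm; exact ⟨i⟩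
    let y := T.fromSpecResidueField t
    haveI := hiso t
    have hr' : FlatMod.IsFinLocFreeOfRank r ((Scheme.Modules.pullback y).obj ((Scheme.Modules.pushforward b).obj F)) :=
      fun z => by
        obtain ⟨V, hz, ⟨iV⟩⟩ := (key t).2.1 z
        exact ⟨V, hz, ⟨(Scheme.Modules.restrictFunctor V.ι).mapIso (asIso (CohBC.bc0 b y (b.fiberToSpecResidueField t)
          (b.fiberι t) (b.fiber_fac t) F)) ≪≫ iV⟩⟩
    let o : Spec (T.residueField t) := IsLocalRing.closedPoint (T.residueField t)
    haveI : Nonempty (Spec (T.residueField t)) := ⟨o⟩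
    refine rank_unique (M := (Scheme.Modules.pullback y).obj ((Scheme.Modules.pushforward b).obj F)) ?_ hr'
    intro z
    have hz : y z ∈ U := by rw [Scheme.fromSpecResidueField_apply]; exact ht
    exact ⟨y ⁻¹ᵁ U, hz, ⟨((H23.PullPush.pullRestrictIso y U).app _).symm ≪≫
      (Scheme.Modules.pullback (y ∣_ U)).mapIso i ≪≫ KFlatLib.pullFreeIso _ m⟩⟩
  · refine epi_of_residueField (QCoh.isQCoh_of_isFinLocFree (KFlatLib.isFinLocFree_freeMod N))
      (QCoh.isQCoh_of_isFinLocFree hlf') (QCoh.isFT_of_isFP (QCoh.isFP_of_isFinLocFree hlf')) _ fun t => ?_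
    haveI := hiso t
    let β := CohBC.bc0 b (T.fromSpecResidueField t) (b.fiberToSpecResidueField t) (b.fiberι t) (b.fiber_fac t) F
    have e : (KFlatLib.pullFreeIso (T.fromSpecResidueField t) N).inv ≫
        (Scheme.Modules.pullback (T.fromSpecResidueField t)).map (secHom (pushSec w a b q)) ≫ β =
        secHom (pushSec w (b.fiberι t ≫ a) (b.fiberToSpecResidueField t) (fibQ a b q t)) := by
      rw [← Category.assoc, secHom_pullSec, secHom_comp]
      refine congrArg secHom (funext fun j => ?_)
      refine (bc0_pullTop b (T.fromSpecResidueField t) (b.fiberToSpecResidueField t) (b.fiberι t) (b.fiber_fac t) F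
        (q.app ⊤ (pullTop a E (w j)))).trans ?_
      exact (fibQ_pullTop a b q t (w j)).symm
    haveI := (key t).2.2.1
    haveI : Epi ((KFlatLib.pullFreeIso (T.fromSpecResidueField t) N).inv ≫
        (Scheme.Modules.pullback (T.fromSpecResidueField t)).map (secHom (pushSec w a b q)) ≫ β) := by
      rw [e]; infer_instance
    haveI := epi_of_epi (KFlatLib.pullFreeIso (T.fromSpecResidueField t) N).inv
      ((Scheme.Modules.pullback (T.fromSpecResidueField t)).map (secHom (pushSec w a b q)) ≫ β)
    have e2 : (Scheme.Modules.pullback (T.fromSpecResidueField t)).map (secHom (pushSec w a b q)) =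
        ((Scheme.Modules.pullback (T.fromSpecResidueField t)).map (secHom (pushSec w a b q)) ≫ β) ≫ inv β := by
      simp
    rw [e2]
    infer_instance

end Groth.Agent.QuotRep

end
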