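import Groth.Agent.QCoh.FT
import Groth.Agent.ModStLib.FibGrpd

/-!
# Finite presentation is local
-/

set_option autoImplicit false
set_option linter.style.haveILetI false
set_option linter.unusedSectionVars false
set_option backward.isDefEq.respectTransparency false
set_option backward.isDefEq.respectTransparency.types false
set_option maxHeartbeats 1000000
set_option synthInstance.maxHeartbeats 400000

universe u

open CategoryTheory CategoryTheory.Limits AlgebraicGeometry TopologicalSpace Opposite

attribute [-instance] CategoryTheory.catToReflQuiver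

noncomputable section

namespace Groth.Agent.QuotRep

open Groth.Agent

theorem finitePresentation_moduleSpecΓ {R : CommRingCat.{u}} {N : (Spec R).Modules} (h : CohB1.IsFP N) :
    Module.FinitePresentation R (moduleSpecΓFunctor.obj N) := by
  let φ : R →+* Γ(Spec R, ⊤) := (Scheme.ΓSpecIso R).inv.hom
  haveI := QCoh.finitePresentation_of_isFP h (isAffineOpen_top (Spec R))
  letI : Algebra R Γ(Spec R, ⊤) := φ.toAlgebra
  letI : Module R Γ(N, (⊤ : (Spec R).Opens)) := Module.compHom _ φ
  haveI : IsScalarTower R Γ(Spec R, ⊤) Γ(N, (⊤ : (Spec R).Opens)) := ⟨fun a b c => mul_smul (φ a) b c⟩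
  haveI : Module.FinitePresentation R Γ(Spec R, ⊤) :=
    Module.FinitePresentation.of_equiv (LinearEquiv.ofBijective (Algebra.linearMap R Γ(Spec R, ⊤))
      (Scheme.ΓSpecIso R).commRingCatIsoToRingEquiv.symm.bijective)
  haveI : Module.FinitePresentation R Γ(N, (⊤ : (Spec R).Opens)) :=
    Module.FinitePresentation.trans _ _ Γ(Spec R, ⊤)
  let E : Γ(N, (⊤ : (Spec R).Opens)) ≃ₗ[R] moduleSpecΓFunctor.obj N :=
    { toFun := fun x => x
      invFun := fun x => x
      left_inv := fun _ => rfl
      right_inv := fun _ => rfl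
      map_add' := fun _ _ => rfl
      map_smul' := fun _ _ => rfl }
  exact Module.FinitePresentation.of_equiv E

theorem exists_finite_presentation_restrict {X : Scheme.{u}} {M : X.Modules} {U : X.Opens} (hU : IsAffineOpen U)
    (h : CohB1.IsFP (M.restrict U.ι)) :
    ∃ P : (SheafOfModules.over M U).Presentation, P.IsFinite := by
  have hN : CohB1.IsFP (M.restrict hU.fromSpec) := by
    let k := hU.isoSpec.inv
    refine (SheafOfModules.isFinitePresentation (R := (Spec Γ(X, U)).ringCatSheaf)).prop_of_iso ?_
      (ModStLib.isFP_pullback k h)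
    exact (Scheme.Modules.pullback k).mapIso ((Scheme.Modules.restrictFunctorIsoPullback U.ι).app M) ≪≫
      (Scheme.Modules.pullbackComp k U.ι).app M ≪≫
      (Scheme.Modules.pullbackCongr (IsAffineOpen.isoSpec_inv_ι hU)).app M ≪≫
      ((Scheme.Modules.restrictFunctorIsoPullback hU.fromSpec).app M).symm
  haveI := finitePresentation_moduleSpecΓ hN
  obtain ⟨P₀, hP₀⟩ := QCoh.exists_presentation_of_finitePresentation (QCoh.isQCoh_of_isFP hN)
  have : PreservesColimitsOfSize.{u, u} (Scheme.Modules.restrictFunctor hU.isoSpec.hom) := inferInstance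
  let P₁ := SheafOfModules.Presentation.ofIsIso.{u, u, u} (QCoh.chartRestrictIso hU M).hom
    (Scheme.Modules.presentationRestrict hU.isoSpec.hom P₀)
  exact ⟨QCoh.presentationOver U P₁,
    { isFiniteType_generators := ⟨inferInstanceAs (Finite P₀.generators.I)⟩
      isFiniteType_relations := ⟨inferInstanceAs (Finite P₀.relations.I)⟩ }⟩

/-- A module finitely presented on the members of an open cover is finitely presented. -/
theorem isFP_of_local {X : Scheme.{u}} {M : X.Modules}
    (h : ∀ x : X, ∃ (Y : Scheme.{u}) (j : Y ⟶ X), IsOpenImmersion j ∧ x ∈ Set.range j ∧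
      CohB1.IsFP ((Scheme.Modules.pullback j).obj M)) : CohB1.IsFP M := by
  have hc : ∀ x : X, ∃ U : X.Opens, x ∈ U ∧ IsAffineOpen U ∧ CohB1.IsFP (M.restrict U.ι) := fun x => by
    obtain ⟨Y, j, hj, hx, hFP⟩ := h x
    haveI := hj
    obtain ⟨_, ⟨U, hU, rfl⟩, hxU, hUj⟩ :=
      X.isBasis_affineOpens.exists_subset_of_mem_open (show x ∈ j.opensRange from hx) j.opensRange.2
    let U : X.Opens := U
    have hr : Set.range U.ι ⊆ Set.range j := by
      rw [Scheme.Opens.range_ι]; exact hUj
    refine ⟨U, hxU, hU, (SheafOfModules.isFinitePresentation (R := (U : Scheme.{u}).ringCatSheaf)).prop_of_iso ?_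
      (ModStLib.isFP_pullback (IsOpenImmersion.lift j U.ι hr) hFP)⟩
    exact (Scheme.Modules.pullbackComp _ j).app M ≪≫
      (Scheme.Modules.pullbackCongr (IsOpenImmersion.lift_fac j U.ι hr)).app M ≪≫
      ((Scheme.Modules.restrictFunctorIsoPullback U.ι).app M).symm
  choose U hxU hU hFP using hc
  choose g hg using fun x => exists_finite_presentation_restrict (hU x) (hFP x)
  let q : SheafOfModules.QuasicoherentData.{u} (R := X.ringCatSheaf) M :=
    { I := X, X := U
      coversTop := (Opens.coversTop_iff _ U).2 (eq_top_iff.2 fun x _ => Opens.mem_iSup.2 ⟨x, hxU x⟩)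
      presentation := g }
  have hq : q.IsFinitePresentation := by
    constructor
    exact hg
  constructor
  exact ⟨q, hq⟩

end Groth.Agent.QuotRep

end
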