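import Groth.Agent.GrPlucker.Charts
import Groth.Agent.QuotRep.Frame

/-!
# Matrices of maps into the charts of a Grassmannian
-/

set_option autoImplicit false
set_option linter.style.haveILetI false
set_option linter.unusedSectionVars false
set_option backward.isDefEq.respectTransparency false
set_option backward.isDefEq.respectTransparency.types false
set_option maxHeartbeats 1000000
set_option synthInstance.maxHeartbeats 400000

universe u

open CategoryTheory CategoryTheory.Limits AlgebraicGeometry TopologicalSpace Opposite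

attribute [-instance] CategoryTheory.catToReflQuiver

noncomputable section

namespace Groth.Agent.QuotRep.Gr

open Groth.Agent GrPlucker

variable {k : Type u} [CommRing k] {M : Type u} [AddCommGroup M] [Module k M] {N n : ℕ}
  (b : Module.Basis (Fin N) k M) (D : GrPlucker.Rep k M n)

/-- The charts. -/
abbrev Y (k : Type u) [CommRing k] (I : Fin n → Fin N) : Scheme.{u} := Spec (CommRingCat.of (Ch (k := k) I))

/-- The structure map of a chart. -/
abbrev str (k : Type u) [CommRing k] (I : Fin n → Fin N) : Y k I ⟶ Spec (CommRingCat.of k) :=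
  Spec.map (CommRingCat.ofHom (algebraMap k (Ch (k := k) I)))

/-- The universal matrix as global functions. -/
def univΓ (I : Fin n → Fin N) : Matrix (Fin n) (Fin N) Γ(Y k I, ⊤) :=
  (univ (k := k) I).map (Scheme.ΓSpecIso (CommRingCat.of (Ch (k := k) I))).inv.hom

/-- The matrix of a map into a chart. -/
def mat {T : Scheme.{u}} {I : Fin n → Fin N} (a : T ⟶ Y k I) : Matrix (Fin n) (Fin N) Γ(T, ⊤) :=
  (univΓ I).map a.appTop.hom

theorem mat_comp {T T' : Scheme.{u}} {I : Fin n → Fin N} (g : T' ⟶ T) (a : T ⟶ Y k I) :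
    mat (g ≫ a) = (mat a).map g.appTop.hom :=
  Matrix.ext fun r l => by
    show (g ≫ a).appTop (univΓ I r l) = g.appTop (a.appTop (univΓ I r l))
    rw [Scheme.Hom.comp_appTop]
    rfl

theorem mat_normed {T : Scheme.{u}} {I : Fin n → Fin N} (a : T ⟶ Y k I) : (mat a).submatrix id I = 1 :=
  Normed.map a.appTop.hom (Normed.map (Scheme.ΓSpecIso (CommRingCat.of (Ch (k := k) I))).inv.hom (normed_univ I))

theorem mat_spec {R : CommRingCat.{u}} [Algebra k R] {I : Fin n → Fin N} (a : Spec R ⟶ Y k I)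
    (ψ : Ch (k := k) I →ₐ[k] R) (ha : a = Spec.map (CommRingCat.ofHom ψ.toRingHom)) :
    mat a = ((univ (k := k) I).map ψ).map (Scheme.ΓSpecIso R).inv.hom :=
  Matrix.ext fun r l => by
    subst ha
    exact (ConcreteCategory.congr_hom (Scheme.ΓSpecIso_inv_naturality (CommRingCat.ofHom ψ.toRingHom)) _).symm

theorem exists_algHom₂ {R : CommRingCat.{u}} {I J : Fin n → Fin N} (a : Spec R ⟶ Y k I) (a' : Spec R ⟶ Y k J)
    (h : a ≫ str k I = a' ≫ str k J) :
    ∃ (alg : Algebra k R) (ψ : letI := alg; Ch (k := k) I →ₐ[k] R) (ψ' : letI := alg; Ch (k := k) J →ₐ[k] R),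
      letI := alg
      a = Spec.map (CommRingCat.ofHom ψ.toRingHom) ∧ a' = Spec.map (CommRingCat.ofHom ψ'.toRingHom) := by
  letI alg : Algebra k R := (Spec.preimage (R := CommRingCat.of k) (S := R) (a ≫ str k I)).hom.toAlgebra
  have ht : Spec.map (CommRingCat.ofHom (algebraMap k R)) = a ≫ str k I := Spec.map_preimage _
  obtain ⟨ψ, hψ⟩ := exists_algHom I a ht.symm
  obtain ⟨ψ', hψ'⟩ := exists_algHom J a' (h.symm.trans ht.symm)
  exact ⟨alg, ψ, ψ', hψ, hψ'⟩

/-- The matrices of two maps into charts agreeing in the Grassmannian differ by a minor. -/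
theorem mat_eq_mul {T : Scheme.{u}} {I J : Fin n → Fin N} (a : T ⟶ Y k I) (a' : T ⟶ Y k J)
    (h : a ≫ σ D I b = a' ≫ σ D J b) : mat a = (mat a).submatrix id J * mat a' := by
  refine Matrix.ext fun r l => Scheme.OpenCover.ext_elem _ _ T.affineCover fun i => ?_
  let j := T.affineCover.f i
  have hs : ∀ (G : Matrix (Fin n) (Fin N) Γ(T, ⊤)), j.app ⊤ (G r l) = G.map j.appTop.hom r l := fun G => rfl
  refine (hs _).trans (Eq.trans ?_ (hs _).symm)
  refine congrFun (congrFun ?_ r) l
  rw [Matrix.map_mul, ← Matrix.submatrix_map, ← mat_comp, ← mat_comp]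
  let R := T.affineOpenCover.X i
  have hstr : (j ≫ a) ≫ str k I = (j ≫ a') ≫ str k J := by
    rw [show str k I = _ from (σ_hom D I b).symm, show str k J = _ from (σ_hom D J b).symm, Category.assoc,
      Category.assoc, ← Category.assoc a, h, Category.assoc]
  obtain ⟨alg, ψ, ψ', hψ, hψ'⟩ := exists_algHom₂ (R := R) (j ≫ a) (j ≫ a') hstr
  letI := alg
  rw [mat_spec (R := R) (j ≫ a) ψ hψ, mat_spec (R := R) (j ≫ a') ψ' hψ', Matrix.submatrix_map]
  refine Eq.trans (congrArg (fun G => Matrix.map G (Scheme.ΓSpecIso R).inv.hom) ?_) Matrix.map_mul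
  let g := D.pb ψ (chartPt D I b)
  have hg : g.left = Spec.map (CommRingCat.ofHom ψ'.toRingHom) ≫ σ D J b := by
    show Spec.map (CommRingCat.ofHom ψ.toRingHom) ≫ σ D I b = _
    rw [← hψ, ← hψ', Category.assoc, Category.assoc, h]
  have e := (cls_of_factor D I b g ψ rfl).symm.trans (cls_of_factor D J b g ψ' hg)
  exact eq_mul_of_ker b ((normed_univ J).map ψ'.toRingHom) (congrArg Module.Grassmannian.toSubmodule e).ge

/-- Maps into charts whose matrices differ by square matrices agree in the Grassmannian. -/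
theorem comp_σ_eq {T : Scheme.{u}} {I J : Fin n → Fin N} (a : T ⟶ Y k I) (a' : T ⟶ Y k J)
    (hstr : a ≫ str k I = a' ≫ str k J) (G G' : Matrix (Fin n) (Fin n) Γ(T, ⊤))
    (hG : mat a = G * mat a') (hG' : mat a' = G' * mat a) : a ≫ σ D I b = a' ≫ σ D J b := by
  refine T.affineCover.hom_ext _ _ fun i => ?_
  let j := T.affineCover.f i
  let R := T.affineOpenCover.X i
  obtain ⟨alg, ψ, ψ', hψ, hψ'⟩ := exists_algHom₂ (R := R) (j ≫ a) (j ≫ a')
    (by rw [Category.assoc, Category.assoc, hstr])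
  letI := alg
  have key : ∀ {I J : Fin n → Fin N} (a : T ⟶ Y k I) (a' : T ⟶ Y k J) (φ : Ch (k := k) I →ₐ[k] R)
      (φ' : Ch (k := k) J →ₐ[k] R), j ≫ a = Spec.map (CommRingCat.ofHom φ.toRingHom) →
      j ≫ a' = Spec.map (CommRingCat.ofHom φ'.toRingHom) → ∀ G : Matrix (Fin n) (Fin n) Γ(T, ⊤), mat a = G * mat a' →
      (lin b ((univ (k := k) J).map φ')).ker ≤ (lin b ((univ (k := k) I).map φ)).ker := by
    intro I J a a' φ φ' hφ hφ' G hG
    have e := congrArg (fun P => Matrix.map (Matrix.map P j.appTop.hom) (Scheme.ΓSpecIso R).hom.hom) hG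
    have hid : ∀ P : Matrix (Fin n) (Fin N) R,
        (P.map (Scheme.ΓSpecIso R).inv.hom).map (Scheme.ΓSpecIso R).hom.hom = P := fun P =>
      Matrix.ext fun r l => ConcreteCategory.congr_hom (Scheme.ΓSpecIso R).inv_hom_id (P r l)
    simp only [Matrix.map_mul, ← mat_comp] at e
    rw [mat_spec (R := R) _ φ hφ, mat_spec (R := R) _ φ' hφ'] at e
    replace e := ((hid _).symm.trans e).trans (Matrix.map_mul.trans (congrArg (_ * ·) (hid _)))
    rw [e, lin_mul]
    exact LinearMap.ker_le_ker_comp _ _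
  have hle := key a a' ψ ψ' hψ hψ' G hG
  have hle' := key a' a ψ' ψ hψ' hψ G' hG'
  have e : D.pb ψ (chartPt D I b) = D.pb ψ' (chartPt D J b) := by
    refine D.cls_injective ?_
    rw [cls_of_factor D I b _ ψ rfl, cls_of_factor D J b _ ψ' rfl]
    exact Module.Grassmannian.ext (le_antisymm hle' hle)
  have e2 := congrArg CommaMorphism.left e
  rw [← Category.assoc, ← Category.assoc]
  show (j ≫ a) ≫ _ = (j ≫ a') ≫ _
  rw [hψ, hψ']
  exact e2

/-- A normalised matrix of functions gives a map into a chart. -/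
theorem exists_map {T : Scheme.{u}} (s : T ⟶ Spec (CommRingCat.of k)) {I : Fin n → Fin N}
    (P : Matrix (Fin n) (Fin N) Γ(T, ⊤)) (hP : P.submatrix id I = 1) :
    ∃ a : T ⟶ Y k I, a ≫ str k I = s ∧ mat a = P := by
  letI : Algebra k Γ(T, ⊤) := ((Scheme.ΓSpecIso (CommRingCat.of k)).inv ≫ s.appTop).hom.toAlgebra
  obtain ⟨ψ, hψ⟩ := GrPlucker.exists_hom (k := k) I P hP
  refine ⟨T.toSpecΓ ≫ Spec.map (CommRingCat.ofHom ψ.toRingHom), ?_, Matrix.ext fun r l => ?_⟩
  · rw [Category.assoc, ← Spec.map_comp, ← CommRingCat.ofHom_comp]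
    rw [show ψ.toRingHom.comp (algebraMap k (Ch (k := k) I)) = algebraMap k Γ(T, ⊤) from ψ.comp_algebraMap]
    show T.toSpecΓ ≫ Spec.map ((Scheme.ΓSpecIso (CommRingCat.of k)).inv ≫ s.appTop) = s
    rw [Spec.map_comp, ← Category.assoc, ← Scheme.toSpecΓ_naturality, Category.assoc,
      toSpecΓ_SpecMap_ΓSpecIso_inv, Category.comp_id]
  · show (T.toSpecΓ ≫ Spec.map (CommRingCat.ofHom ψ.toRingHom)).appTop (univΓ I r l) = P r l
    rw [← hψ, Scheme.Hom.comp_appTop, CommRingCat.comp_apply]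
    refine Eq.trans (congrArg T.toSpecΓ.appTop.hom
      (ConcreteCategory.congr_hom (Scheme.ΓSpecIso_inv_naturality (CommRingCat.ofHom ψ.toRingHom))
        (univ (k := k) I r l)).symm) ?_
    rw [Scheme.toSpecΓ_appTop]
    exact ConcreteCategory.congr_hom (Scheme.ΓSpecIso Γ(T, ⊤)).inv_hom_id _

end Groth.Agent.QuotRep.Gr

end
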