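import Groth.Agent.QuotRep.GrassMat

/-!
# The universal quotient on a Grassmannian
-/

set_option autoImplicit false
set_option linter.style.haveILetI false
set_option linter.unusedSectionVars false
set_option backward.isDefEq.respectTransparency false
set_option backward.isDefEq.respectTransparency.types false
set_option maxHeartbeats 1000000
set_option synthInstance.maxHeartbeats 400000

universe u

open CategoryTheory CategoryTheory.Limits AlgebraicGeometry TopologicalSpace Opposite

attribute [-instance] CategoryTheory.catToReflQuiver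

noncomputable section

namespace Groth.Agent.QuotRep.Gr

open Groth.Agent GrPlucker

variable {k : Type u} [CommRing k] {M : Type u} [AddCommGroup M] [Module k M] {N n : ℕ}
  (b : Module.Basis (Fin N) k M) (D : GrPlucker.Rep k M n)

/-- The target of the universal matrices. -/
def E (i : (Fin n → Fin N) × Fin n) : D.X.left.Modules :=
  (Scheme.Modules.pushforward (σ D i.1 b)).obj (Coh.structureModule (Y k i.1))

/-- The universal matrices as one map. -/
def φU : FlatMod.freeMod D.X.left N ⟶ ⨁ (E b D) :=
  biproduct.lift fun i => secHom (show Fin N → Γ(E b D i, (⊤ : D.X.left.Opens)) from fun l => univΓ i.1 i.2 l)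

/-- The universal quotient. -/
def Q : D.X.left.Modules := Abelian.image (φU b D)

/-- The sections generating the universal quotient. -/
def sig (l : Fin N) : Γ(Q b D, (⊤ : D.X.left.Opens)) :=
  (Abelian.factorThruImage (φU b D)).app ⊤ (basis D.X.left N l)

/-- The projections. -/
def proj (i : (Fin n → Fin N) × Fin n) : Q b D ⟶ E b D i := Abelian.image.ι (φU b D) ≫ biproduct.π (E b D) i

theorem proj_sig (i : (Fin n → Fin N) × Fin n) (l : Fin N) : (proj b D i).app ⊤ (sig b D l) = univΓ i.1 i.2 l := by
  have h : Abelian.factorThruImage (φU b D) ≫ proj b D i = secHom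
      (show Fin N → Γ(E b D i, (⊤ : D.X.left.Opens)) from fun l => univΓ i.1 i.2 l) := by
    rw [proj, ← Category.assoc, Abelian.image.fac]
    exact biproduct.lift_π _ _
  exact (congrArg (fun f => Scheme.Modules.Hom.app f ⊤ (basis D.X.left N l)) h).trans (secHom_basis_apply _ l)

theorem secHom_sig : secHom (sig b D) = Abelian.factorThruImage (φU b D) := (eq_secHom _).symm

instance epi_secHom_sig : Epi (secHom (sig b D)) := by rw [secHom_sig]; infer_instance

theorem sec_ext {U : D.X.left.Opens} (x : Γ(Q b D, U)) (h : ∀ i, (proj b D i).app U x = 0) : x = 0 := by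
  refine QCoh.app_injective (Abelian.image.ι (φU b D)) U ?_
  rw [map_zero]
  let y := (Abelian.image.ι (φU b D)).app U x
  let ev : ((⨁ E b D) ⟶ (⨁ E b D)) →+ Γ(⨁ E b D, U) := AddMonoidHom.mk' (fun f => f.app U y) fun _ _ => rfl
  have e := congrArg ev (biproduct.total (f := E b D))
  rw [map_sum] at e
  refine (e.symm.trans (Finset.sum_eq_zero fun i _ => ?_) : _ = _)
  show (biproduct.ι (E b D) i).app U ((proj b D i).app U x) = 0
  rw [h, map_zero]

variable {b D}

/-- On a chart every generating section is a combination of the chosen ones. -/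
theorem pullTop_sig (J : Fin n → Fin N) (l : Fin N) :
    pullTop (σ D J b) (Q b D) (sig b D l) =
      comb (fun r => pullTop (σ D J b) (Q b D) (sig b D (J r))) fun r => univΓ J r l := by
  let σJ := σ D J b
  haveI := isOpenImmersion_σ D J b
  let U := σJ.opensRange
  have hU : (⊤ : (Y k J).Opens) ≤ σJ ⁻¹ᵁ U := fun x _ => ⟨x, rfl⟩
  haveI : IsIso (σJ.appLE U ⊤ hU) := by
    haveI : IsIso (σJ.app U) := Scheme.Hom.isIso_app σJ U le_rfl
    haveI : IsIso (homOfLE hU) := ⟨homOfLE le_top, Subsingleton.elim _ _, Subsingleton.elim _ _⟩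
    exact inferInstanceAs (IsIso (σJ.app U ≫ (Y k J).presheaf.map (homOfLE hU).op))
  let c : Fin n → Γ(D.X.left, U) := fun r => inv (σJ.appLE U ⊤ hU) (univΓ J r l)
  have hc : ∀ r, σJ.appLE U ⊤ hU (c r) = univΓ J r l := fun r =>
    ConcreteCategory.congr_hom (IsIso.inv_hom_id (σJ.appLE U ⊤ hU)) _
  let res : Fin N → Γ(Q b D, U) := fun m => (Q b D).presheaf.map (homOfLE le_top).op (sig b D m)
  have key : res l = ∑ r, c r • res (J r) := by
    refine sub_eq_zero.1 (sec_ext b D _ ?_)
    rintro ⟨I, q⟩
    rw [map_sub, map_sum, sub_eq_zero]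
    let σI := σ D I b
    haveI := isOpenImmersion_σ D I b
    let W : (Y k I).Opens := σI ⁻¹ᵁ U
    let rs : Γ(Y k I, ⊤) → Γ(Y k I, W) := (Y k I).presheaf.map (homOfLE le_top).op
    have hres : ∀ m, (proj b D (I, q)).app U (res m) = rs (univΓ I q m) := fun m => by
      refine (QCoh.map_app_comm (proj b D (I, q)) (homOfLE le_top) _).trans ?_
      rw [proj_sig]
      rfl
    rw [hres]
    have hterm : ∀ r, (proj b D (I, q)).app U (c r • res (J r)) =
        (show Γ(Y k I, W) from σI.app U (c r) * rs (univΓ I q (J r))) := fun r => by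
      rw [Scheme.Modules.Hom.app_smul, hres]
      rfl
    simp only [hterm]
    show rs (univΓ I q l) = ∑ r, σI.app U (c r) * rs (univΓ I q (J r))
    let a : W.toScheme ⟶ Y k I := W.ι
    have ha : Set.range (a ≫ σI) ⊆ Set.range σJ := by
      rintro _ ⟨x, rfl⟩
      exact x.2
    let a' := IsOpenImmersion.lift σJ (a ≫ σI) ha
    have haa : a ≫ σI = a' ≫ σJ := (IsOpenImmersion.lift_fac _ _ _).symm
    have hle : (⊤ : W.toScheme.Opens) ≤ a ⁻¹ᵁ W := fun x _ => x.2
    let ξ := a.appLE W ⊤ hle
    haveI : IsIso ξ := by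
      show IsIso (W.ι.appLE W ⊤ hle)
      infer_instance
    have hinj : Function.Injective ξ := (ConcreteCategory.bijective_of_isIso ξ).1
    refine hinj ?_
    have h1 : ∀ z, ξ (rs z) = a.appTop z := fun z => by
      show ((Y k I).presheaf.map (homOfLE le_top).op ≫ a.appLE W ⊤ hle) z = _
      rw [Scheme.Hom.map_appLE]
      exact (ConcreteCategory.congr_hom (Scheme.Hom.app_eq_appLE a (U := ⊤)) z).symm
    have h2 : ∀ z, ξ (σI.app U z) = a'.appTop (σJ.appLE U ⊤ hU z) := fun z => by
      show (σI.app U ≫ a.appLE W ⊤ hle) z = (σJ.appLE U ⊤ hU ≫ a'.appTop) z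
      rw [← Scheme.Hom.comp_appLE, show a'.appTop = a'.appLE ⊤ ⊤ le_top from Scheme.Hom.app_eq_appLE a',
        Scheme.Hom.appLE_comp_appLE]
      congr 3
    rw [h1, map_sum]
    refine ((congrFun (congrFun (mat_eq_mul b D a a' haa) q) l).trans Matrix.mul_apply).trans ?_
    refine Finset.sum_congr rfl fun r _ => ?_
    rw [map_mul, h1, h2, hc, mul_comm]
    rfl
  have hps : ∀ m, pullTop σJ (Q b D) (sig b D m) = QCoh.pullSec σJ (Q b D) hU (res m) := fun m => by
    refine Eq.trans ?_ (ExistEasy.pullSec_res σJ (Q b D) le_top le_rfl le_top hU (sig b D m))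
    exact (QCoh.map_id' (M := (Scheme.Modules.pullback σJ).obj (Q b D)) (homOfLE le_rfl) _).symm
  rw [hps, key]
  let ev : Γ(Q b D, U) →+ Γ((Scheme.Modules.pullback σJ).obj (Q b D), (⊤ : (Y k J).Opens)) :=
    AddMonoidHom.mk' (QCoh.pullSec σJ (Q b D) hU) fun x y => QCoh.pullSec_add σJ (Q b D) hU x y
  refine (map_sum ev _ _).trans (Finset.sum_congr rfl fun r _ => ?_)
  show QCoh.pullSec σJ (Q b D) hU (c r • res (J r)) = _
  rw [QCoh.pullSec_smul, hc, ← hps]

/-- The chosen sections form a frame on their chart. -/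
theorem isIso_frame_chart (J : Fin n → Fin N) :
    IsIso (secHom fun r => pullTop (σ D J b) (Q b D) (sig b D (J r))) := by
  let σJ := σ D J b
  let e : Fin n → Γ((Scheme.Modules.pullback σJ).obj (Q b D), (⊤ : (Y k J).Opens)) :=
    fun r => pullTop σJ (Q b D) (sig b D (J r))
  let adj := Scheme.Modules.pullbackPushforwardAdjunction σJ
  let c : Fin n → ((Scheme.Modules.pullback σJ).obj (Q b D) ⟶ Coh.structureModule (Y k J)) := fun r =>
    (adj.homEquiv _ _).symm (proj b D (J, r))
  have hc : ∀ r m, (c r).app ⊤ (pullTop σJ (Q b D) (sig b D m)) = univΓ J r m := fun r m => by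
    have h : adj.homEquiv _ _ (c r) = proj b D (J, r) := Equiv.apply_symm_apply _ _
    rw [Adjunction.homEquiv_unit] at h
    rw [pullTop_eq_unit]
    exact (congrArg (fun f => Scheme.Modules.Hom.app f ⊤ (sig b D m)) h).trans (proj_sig b D (J, r) m)
  let ret : (Scheme.Modules.pullback σJ).obj (Q b D) ⟶ FlatMod.freeMod (Y k J) n :=
    ∑ r, c r ≫ Sigma.ι (fun _ : Fin n => Coh.structureModule (Y k J)) r
  have hret : secHom e ≫ ret = 𝟙 _ := by
    classical
    rw [secHom_comp, ← secHom_basis]
    refine congrArg secHom (funext fun s => ?_)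
    let ev : ((Scheme.Modules.pullback σJ).obj (Q b D) ⟶ FlatMod.freeMod (Y k J) n) →+
        Γ(FlatMod.freeMod (Y k J) n, (⊤ : (Y k J).Opens)) :=
      AddMonoidHom.mk' (fun f => f.app ⊤ (e s)) fun _ _ => rfl
    refine (map_sum ev _ _).trans ?_
    rw [Finset.sum_eq_single s]
    · show (Sigma.ι (fun _ : Fin n => Coh.structureModule (Y k J)) s).app ⊤ ((c s).app ⊤ (e s)) = _
      rw [hc s (J s), show univΓ (k := k) J s (J s) = 1 from by
        have := congrFun (congrFun (mat_normed (𝟙 (Y k J))) s) s
        rw [Matrix.one_apply_eq] at this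
        exact this]
      rfl
    · intro r _ hr
      show (Sigma.ι (fun _ : Fin n => Coh.structureModule (Y k J)) r).app ⊤ ((c r).app ⊤ (e s)) = 0
      rw [hc r (J s), show univΓ (k := k) J r (J s) = 0 from by
        have := congrFun (congrFun (mat_normed (𝟙 (Y k J))) r) s
        rw [Matrix.one_apply_ne hr] at this
        exact this]
      exact map_zero _
    · exact fun h => absurd (Finset.mem_univ s) h
  haveI : Epi (secHom e) := by
    let P : Matrix (Fin n) (Fin N) Γ(Y k J, ⊤) := univΓ J
    haveI : Epi (secHom fun l => pullTop σJ (Q b D) (sig b D l)) := epi_pullSec _ _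
    haveI : Epi (matHom P ≫ secHom e) := by
      rw [matHom_comp_secHom, show (fun j => comb e fun r => P r j) = fun l => pullTop σJ (Q b D) (sig b D l) from
        funext fun l => (pullTop_sig J l).symm]
      infer_instance
    exact epi_of_epi (matHom P) (secHom e)
  haveI : IsSplitMono (secHom e) := IsSplitMono.mk' ⟨ret, hret⟩
  exact isIso_of_epi_of_isSplitMono _

/-- Along a map into a chart the chosen sections form a frame and the coordinates are the matrix. -/
theorem frame_of_map {T : Scheme.{u}} {J : Fin n → Fin N} (a : T ⟶ Y k J) {h : T ⟶ D.X.left} (ha : a ≫ σ D J b = h) :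
    IsIso (secHom fun r => pullTop h (Q b D) (sig b D (J r))) ∧
      ∀ l, pullTop h (Q b D) (sig b D l) =
        comb (fun r => pullTop h (Q b D) (sig b D (J r))) fun r => mat a r l := by
  subst ha
  let σJ := σ D J b
  let κ := (Scheme.Modules.pullbackComp a σJ).hom.app (Q b D)
  have hκ : ∀ m, κ.app ⊤ (pullTop a _ (pullTop σJ (Q b D) (sig b D m))) = pullTop (a ≫ σJ) (Q b D) (sig b D m) :=
    fun m => ExistEasy.pullSec_comp a σJ (Q b D) le_top le_top _
  constructor
  · haveI := isIso_frame_chart (b := b) (D := D) J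
    haveI := isIso_pullSec a fun r => pullTop σJ (Q b D) (sig b D (J r))
    rw [← show secHom (fun r => pullTop a _ (pullTop σJ (Q b D) (sig b D (J r)))) ≫ κ =
      secHom fun r => pullTop (a ≫ σJ) (Q b D) (sig b D (J r)) from
      (secHom_comp _ κ).trans (congrArg secHom (funext fun r => hκ _))]
    infer_instance
  · intro l
    rw [← hκ, pullTop_sig J l, pullSec_comb, app_comb]
    exact congrArg (comb · fun r => mat a r l) (funext fun r => hκ _)

theorem exists_chart_mem (x : D.X.left) : ∃ I : Fin n → Fin N, x ∈ Set.range (σ D I b) := by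
  let K := D.X.left.residueField x
  letI : Algebra k K := (Spec.preimage (R := CommRingCat.of k) (S := K)
    (D.X.left.fromSpecResidueField x ≫ D.X.hom)).hom.toAlgebra
  let g : Pt D.X K := Over.homMk (D.X.left.fromSpecResidueField x) (Spec.map_preimage _).symm
  obtain ⟨o⟩ : Nonempty (Spec K) := ⟨IsLocalRing.closedPoint K⟩
  obtain ⟨I, -, hI⟩ := exists_mem_range D b g o
  exact ⟨I, by rwa [show g.left o = x from Scheme.fromSpecResidueField_apply x o] at hI⟩

/-- A map lands locally in charts. -/
theorem exists_chart_nhd {T : Scheme.{u}} (h : T ⟶ D.X.left) (t : T) :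
    ∃ (I : Fin n → Fin N) (U : T.Opens), t ∈ U ∧ ∃ a : U.toScheme ⟶ Y k I, a ≫ σ D I b = U.ι ≫ h := by
  obtain ⟨I, hI⟩ := exists_chart_mem (b := b) (D := D) (h t)
  haveI := isOpenImmersion_σ D I b
  refine ⟨I, h ⁻¹ᵁ (σ D I b).opensRange, hI, IsOpenImmersion.lift (σ D I b) (_ ≫ h) ?_, IsOpenImmersion.lift_fac _ _ _⟩
  rintro _ ⟨x, rfl⟩
  exact x.2

theorem isFinLocFreeOfRank_Q : FlatMod.IsFinLocFreeOfRank n (Q b D) := fun x => by
  obtain ⟨I, U, hx, a, ha⟩ := exists_chart_nhd (b := b) (D := D) (𝟙 _) x
  rw [Category.comp_id] at ha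
  haveI := (frame_of_map a ha).1
  exact ⟨U, hx, ⟨(Scheme.Modules.restrictFunctorIsoPullback U.ι).app _ ≪≫
    (asIso (secHom fun r => pullTop U.ι (Q b D) (sig b D (I r)))).symm⟩⟩

end Groth.Agent.QuotRep.Gr

end
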