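import Groth.Agent.QuotRep.ZeroLocusApps
import Groth.Agent.H9Quot.Pull
import Groth.Agent.S4381

/-!
# The vanishing locus of a map to a flat family
-/

set_option autoImplicit false
set_option linter.style.haveILetI false
set_option linter.unusedSectionVars false
set_option backward.isDefEq.respectTransparency false
set_option backward.isDefEq.respectTransparency.types false
set_option maxHeartbeats 1000000
set_option synthInstance.maxHeartbeats 400000

universe u

open CategoryTheory CategoryTheory.Limits AlgebraicGeometry TopologicalSpace Opposite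
open scoped Groth.Agent.H23.PicMul

attribute [-instance] CategoryTheory.catToReflQuiver

noncomputable section

namespace Groth.Agent.QuotRep

open Groth.Agent

/-- Over a locally noetherian base with a relatively ample module, the vanishing of a map from a
coherent module to a flat coherent one is represented by a closed subscheme. -/
theorem exists_vanishLocus {Y T : Scheme.{u}} (b : Y ⟶ T) [IsProper b] [LocallyOfFinitePresentation b]
    [IsLocallyNoetherian T] {L : Y.Modules} (hL : RelAmple.IsRelAmple b L) {M F : Y.Modules}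
    (hM : Coh.IsCoh M) (hF : Coh.IsCoh F) (hfl : FlatMod.IsFlatOver b F) (w : M ⟶ F) :
    ∃ (Z : Scheme.{u}) (c : Z ⟶ T), IsClosedImmersion c ∧ ∀ ⦃U : Scheme.{u}⦄ (g : U ⟶ T),
      (∃ h : U ⟶ Z, h ≫ c = g) ↔ (Scheme.Modules.pullback (pullback.fst b g)).map w = 0 := by
  haveI : IsLocallyNoetherian Y := LocallyOfFiniteType.isLocallyNoetherian b
  obtain ⟨Z, c, hc, -, huniv⟩ := exists_zeroLocus (f := b) (QCoh.isCoh_iff_isFP.1 hF) hfl w fun t => by
    obtain ⟨V, hV, htV⟩ := QCoh.exists_affine_mem t
    haveI : IsNoetherianRing Γ(T, V) := IsLocallyNoetherian.component_noetherian ⟨V, hV⟩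
    have hpb := QCoh.isPullback_overSpec (f := b) hV
    haveI : IsProper (QCoh.overSpec b hV) := MorphismProperty.of_isPullback hpb inferInstance
    let j := (b ⁻¹ᵁ V).ι
    have hA : CohB1.IsAmple ((Scheme.Modules.pullback j).obj L) :=
      AmpleX.isAmple_of_iso ((Scheme.Modules.restrictFunctorIsoPullback j).app L) (hL.2 ⟨V, hV⟩)
    have hLj : PicF.IsInvertible ((Scheme.Modules.pullback j).obj L) := (AmpleX.isAmple_iff.1 hA).1
    haveI : CompactSpace ((b ⁻¹ᵁ V : Y.Opens) : Scheme.{u}) :=
      isCompact_iff_compactSpace.1 (b.isCompact_preimage hV.isCompact)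
    haveI := AmpleX.isSeparated_of_isAmple hA
    obtain ⟨n₁, hgen⟩ := AmpleX.eventually_generated_fin hA (QCoh.isQCoh_pullback j hM.1)
      (KFlatLib.isFT_of_iso' ((Scheme.Modules.restrictFunctorIsoPullback j).app M)
        (AmpleX.isFT_restrict' j hM.1 (QCoh.isFT_of_isFP (QCoh.isCoh_iff_isFP.1 hM))))
    obtain ⟨n₂, hvan⟩ := HilbSnap.exists_uniform_fiber_vanishing (QCoh.overSpec b hV)
      hLj ((S4381.result (QCoh.overSpec b hV) _).2 hA) (ZClosLib.isCoh_pullback j hF)
    let n := max n₁ n₂
    obtain ⟨G, iso, N, s, hs⟩ := hgen n (le_max_left _ _)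
    obtain ⟨p, hp⟩ := InvX.exists_epi_freeMod hs
    exact ⟨V, hV, CohB1.tensorPow ((Scheme.Modules.pullback j).obj L) n, N, p ≫ iso.hom, htV,
      H23.PicMul.isInvertible_tensorPow hLj n, inferInstance, fun y => hvan n (le_max_right _ _) y 0⟩
  exact ⟨Z, c, hc, huniv⟩

end Groth.Agent.QuotRep
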