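import Groth.Agent.QuotRep.HilbQuot
import Groth.Agent.QuotRep.VanishLocus
import Groth.Agent.QuotRep.QuotLocus
import Groth.Agent.GenusOnePt.Basic
import Groth.Agent.S1616

/-!
# The locus of inclusions between two families of closed subschemes
-/

set_option autoImplicit false
set_option linter.style.haveILetI false
set_option linter.unusedSectionVars false
set_option backward.isDefEq.respectTransparency false
set_option backward.isDefEq.respectTransparency.types false
set_option maxHeartbeats 1000000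
set_option synthInstance.maxHeartbeats 400000

universe u

open CategoryTheory CategoryTheory.Limits AlgebraicGeometry TopologicalSpace Opposite

attribute [-instance] CategoryTheory.catToReflQuiver

noncomputable section

namespace Groth.Agent.QuotRep

open Groth.Agent

variable {X Y S : Scheme.{u}}

/-- Inclusions of ideal submodules are inclusions of ideals. -/
theorem idealSub_le_iff {M : Y.Modules} (e : M ≅ Coh.structureModule Y) (I J : Y.IdealSheafData) :
    idealSub e I ≤ idealSub e J ↔ I ≤ J := by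
  haveI : Mono (ClSub.idealModι I) := inferInstanceAs (Mono (kernel.ι _))
  haveI : Mono (ClSub.idealModι J) := inferInstanceAs (Mono (kernel.ι _))
  constructor
  · intro hle U a ha
    obtain ⟨φ, hφ⟩ : ∃ φ : ClSub.idealMod I ⟶ ClSub.idealMod J,
        φ ≫ ClSub.idealModι J ≫ e.inv = ClSub.idealModι I ≫ e.inv :=
      ⟨Subobject.ofMkLEMk _ _ hle, Subobject.ofMkLEMk_comp hle⟩
    have hφ' : φ ≫ ClSub.idealModι J = ClSub.idealModι I := by
      rw [← cancel_mono e.inv, Category.assoc, hφ]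
    obtain ⟨s, rfl⟩ := OmegaLib.exists_of_mem I U a ha
    have := OmegaLib.idealSect_mem J U (φ.app U.1 s)
    exact (show OmegaSh.idealSect J U.1 (φ.app U.1 s) = OmegaSh.idealSect I U.1 s from
      congr(($hφ').app U.1 s)) ▸ this
  · intro h
    refine Subobject.mk_le_mk_of_comm (kernel.lift _ (ClSub.idealModι I)
      (GenusOnePt.comp_toSubscheme_of_le h)) ?_
    rw [← Category.assoc]
    exact congrArg (· ≫ e.inv) (kernel.lift_ι _ _ _)

/-- The locus over which one family of closed subschemes lies in another is closed. -/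
theorem exists_flagLocus (f : X ⟶ S) [IsProper f] [LocallyOfFinitePresentation f] {L : X.Modules}
    (hL : RelAmple.IsRelAmple f L) {P : Over S} [IsLocallyNoetherian P.left] (A B : FGA.HilbSet f P) :
    ∃ (T' : Over S) (c : T' ⟶ P), IsClosedImmersion c.left ∧ ∀ (U : Over S) (g : U ⟶ P),
      FGA.hilbPull f g B.1 ≤ FGA.hilbPull f g A.1 ↔ ∃ h : U ⟶ T', h ≫ c = g := by
  let b : PicF.XT f P ⟶ P.left := pullback.snd f P.hom
  haveI : IsProper b := inferInstanceAs (IsProper (pullback.snd f P.hom))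
  haveI : LocallyOfFinitePresentation b := inferInstanceAs (LocallyOfFinitePresentation (pullback.snd f P.hom))
  haveI : IsLocallyNoetherian (PicF.XT f P) := LocallyOfFiniteType.isLocallyNoetherian b
  let a := pullback.fst f P.hom
  have hLT : RelAmple.IsRelAmple b ((Scheme.Modules.pullback a).obj L) := AmpleX.isRelAmple_baseChange f P.hom hL
  let eP := etStr f P
  let SA := idealSub eP A.1
  let SB := idealSub eP B.1
  have hA := quotSet_idealSub A
  have hBc : Coh.IsCoh (SB : (PicF.XT f P).Modules) :=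
    SheafHomX.isCoh_of_iso (haveI : Mono (ClSub.idealModι B.1) := inferInstanceAs (Mono (kernel.ι _))
      (Subobject.underlyingIso (ClSub.idealModι B.1 ≫ eP.inv)).symm)
      (PPSheaf.GrCoh.isCoh_idealMod _ fun U => by
        haveI := IsLocallyNoetherian.component_noetherian (X := PicF.XT f P) U
        exact IsNoetherian.noetherian _)
  let w : (SB : (PicF.XT f P).Modules) ⟶ cokernel SA.arrow := SB.arrow ≫ cokernel.π SA.arrow
  obtain ⟨Z, c, hc, huniv⟩ := exists_vanishLocus b hLT hBc hA.1 hA.2 w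
  refine ⟨Over.mk (c ≫ P.hom), Over.homMk c rfl, hc, fun U g => ?_⟩
  haveI := (Scheme.Modules.pullbackPushforwardAdjunction (PicF.XTmap f g)).isLeftAdjoint
  let G := Scheme.Modules.pullback (PicF.XTmap f g)
  rw [← idealSub_le_iff (etStr f U), ← quotPull_idealSub, ← quotPull_idealSub]
  show imageSubobject (G.map SB.arrow ≫ (FGA.ETiso f (Coh.structureModule X) g).hom) ≤ _ ↔ _
  rw [imageSubobject_le_quotPull_iff, Category.assoc, Iso.hom_inv_id_assoc, ← Functor.map_comp]
  have sq := H9Quot.isPullback_XTmap f g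
  show (Scheme.Modules.pullback (PicF.XTmap f g)).map w = 0 ↔ _
  rw [pullback_map_eq_zero_iff_of_iso sq.isoPullback sq.isoPullback_hom_fst, ← huniv g.left]
  constructor
  · rintro ⟨h, hh⟩
    exact ⟨Over.homMk h (by show h ≫ c ≫ P.hom = U.hom; rw [reassoc_of% hh, Over.w g]), Over.OverMorphism.ext hh⟩
  · rintro ⟨h, rfl⟩
    exact ⟨h.left, rfl⟩

/-- The flag Hilbert scheme of length two, as a disjoint union of projective schemes. -/
theorem exists_flag [IsNoetherian S] {f : X ⟶ S} [IsProper f] [LocallyOfFinitePresentation f]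
    {L : X.Modules} (hL : RelAmple.IsRelAmple f L) {H₀ : Over S} {Z : FGA.HilbSet f H₀}
    (hH : FGA.HilbRepresentedBy f H₀ Z) {ι : Type u} {P : ι → Scheme.{u}} (e : (∐ P) ≅ H₀.left) (m : ι → ℕ)
    (c : ∀ a, P a ⟶ CohB1.ProjSpaceOver (m a) S)
    (hc : ∀ a, IsClosedImmersion (c a) ∧
      c a ≫ CohB1.ProjSpaceOver.toBase (m a) S = Limits.Sigma.ι P a ≫ e.hom ≫ H₀.hom) :
    ∃ (H : Over S) (W₁ W₂ : FGA.HilbSet f H), W₂.1 ≤ W₁.1 ∧ IsLocallyNoetherian H.left ∧
      (∀ (T : Over S) [IsLocallyNoetherian T.left] (Y₁ Y₂ : FGA.HilbSet f T), Y₂.1 ≤ Y₁.1 →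
        ∃! g : T ⟶ H, FGA.hilbPull f g W₁.1 = Y₁.1 ∧ FGA.hilbPull f g W₂.1 = Y₂.1) ∧
      ∃ (κ : Type u) (Q : κ → Scheme.{u}) (e' : (∐ Q) ≅ H.left) (d : κ → ℕ)
        (c' : ∀ a, Q a ⟶ CohB1.ProjSpaceOver (d a) S),
        ∀ a, IsClosedImmersion (c' a) ∧
          c' a ≫ CohB1.ProjSpaceOver.toBase (d a) S = Limits.Sigma.ι Q a ≫ e'.hom ≫ H.hom := by
  haveI := hH.1
  let s : ∀ a, P a ⟶ H₀.left := fun a => Limits.Sigma.ι P a ≫ e.hom
  haveI : LocallyOfFiniteType H₀.hom := by
    refine IsZariskiLocalAtSource.of_openCover ((sigmaOpenCover P).pushforwardIso e.hom) fun a => ?_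
    haveI := (hc a).1
    show LocallyOfFiniteType ((Limits.Sigma.ι P a ≫ e.hom) ≫ H₀.hom)
    rw [Category.assoc, ← (hc a).2]
    infer_instance
  let P2 : Over S := Over.mk (pullback.fst H₀.hom H₀.hom ≫ H₀.hom)
  haveI : IsLocallyNoetherian P2.left :=
    LocallyOfFiniteType.isLocallyNoetherian (pullback.fst H₀.hom H₀.hom)
  let p₁ : P2 ⟶ H₀ := Over.homMk (pullback.fst H₀.hom H₀.hom) rfl
  let p₂ : P2 ⟶ H₀ := Over.homMk (pullback.snd H₀.hom H₀.hom) pullback.condition.symm
  have mk : ∀ {T T' : Over S} (g : T' ⟶ T) (I : FGA.HilbSet f T),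
      IsProper ((FGA.hilbPull f g I.1).subschemeι ≫ PicF.XTproj f T') ∧
        Flat ((FGA.hilbPull f g I.1).subschemeι ≫ PicF.XTproj f T') := fun {T T'} g I => by
    haveI : IsProper (PicF.XTproj f T') := inferInstanceAs (IsProper (pullback.snd f T'.hom))
    refine ⟨inferInstance, ?_⟩
    rw [H9HilbLink.hilbPull_eq_comap, ← Scheme.IdealSheafData.comapIso_hom_fst, Category.assoc]
    refine (MorphismProperty.cancel_left_of_respectsIso @Flat (I.1.comapIso (PicF.XTmap f g)).hom _).2 ?_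
    have sq := (IsPullback.of_hasPullback (PicF.XTmap f g) I.1.subschemeι).flip.paste_vert
      (H9Quot.isPullback_XTmap f g)
    exact MorphismProperty.of_isPullback (P := @Flat) sq I.2.2
  obtain ⟨T', cc, hcc, huniv⟩ := exists_flagLocus f hL (⟨_, mk p₁ Z⟩ : FGA.HilbSet f P2) ⟨_, mk p₂ Z⟩
  haveI := hcc
  haveI : IsLocallyNoetherian T'.left := LocallyOfFiniteType.isLocallyNoetherian cc.left
  have hcomp : ∀ {T₁ T₂ : Over S} (g : T₁ ⟶ T₂) (q : T₂ ⟶ H₀),
      FGA.hilbPull f g (FGA.hilbPull f q Z.1) = FGA.hilbPull f (g ≫ q) Z.1 := fun g q => by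
    simp only [H9HilbLink.hilbPull_eq_comap, H9HilbLink.XTmap_comp, Scheme.IdealSheafData.comap_comp]
  refine ⟨T', ⟨_, mk (cc ≫ p₁) Z⟩, ⟨_, mk (cc ≫ p₂) Z⟩, ?_, inferInstance, fun T _ Y₁ Y₂ hY => ?_, ?_⟩
  · have := (huniv T' cc).2 ⟨𝟙 _, Category.id_comp _⟩
    rwa [hcomp, hcomp] at this
  · obtain ⟨g₁, hg₁, hu₁⟩ := hH.2 T Y₁
    obtain ⟨g₂, hg₂, hu₂⟩ := hH.2 T Y₂
    let g : T ⟶ P2 := Over.homMk (pullback.lift g₁.left g₂.left ((Over.w g₁).trans (Over.w g₂).symm))
      (by show pullback.lift _ _ _ ≫ pullback.fst _ _ ≫ H₀.hom = T.hom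
          rw [pullback.lift_fst_assoc]; exact Over.w g₁)
    have e₁ : g ≫ p₁ = g₁ := Over.OverMorphism.ext (pullback.lift_fst _ _ _)
    have e₂ : g ≫ p₂ = g₂ := Over.OverMorphism.ext (pullback.lift_snd _ _ _)
    obtain ⟨h, hh⟩ := (huniv T g).1 (by rw [hcomp, hcomp, e₁, e₂, hg₁, hg₂]; exact hY)
    refine ⟨h, ⟨?_, ?_⟩, fun h' ⟨h1, h2⟩ => ?_⟩
    · show FGA.hilbPull f h (FGA.hilbPull f (cc ≫ p₁) Z.1) = Y₁.1
      rw [hcomp, ← Category.assoc, hh, e₁, hg₁]
    · show FGA.hilbPull f h (FGA.hilbPull f (cc ≫ p₂) Z.1) = Y₂.1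
      rw [hcomp, ← Category.assoc, hh, e₂, hg₂]
    · have h1' : h' ≫ cc ≫ p₁ = g₁ := hu₁ _ (by show _ = _; rw [← hcomp]; exact h1)
      have h2' : h' ≫ cc ≫ p₂ = g₂ := hu₂ _ (by show _ = _; rw [← hcomp]; exact h2)
      refine Over.OverMorphism.ext ((cancel_mono cc.left).1 ?_)
      rw [← Over.comp_left, ← Over.comp_left, hh]
      refine pullback.hom_ext ?_ ?_
      · exact (congrArg CommaMorphism.left h1').trans (pullback.lift_fst _ _ _).symm
      · exact (congrArg CommaMorphism.left h2').trans (pullback.lift_snd _ _ _).symm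
  · let w : ∀ k : ι × ι, pullback (s k.1 ≫ H₀.hom) (s k.2 ≫ H₀.hom) ⟶ P2.left := fun k =>
      pullback.map _ _ H₀.hom H₀.hom (s k.1) (s k.2) (𝟙 S) (Category.comp_id _) (Category.comp_id _)
    haveI : ∀ k, IsOpenImmersion (w k) := fun k =>
      MorphismProperty.pullbackMap (P := @IsOpenImmersion) (inferInstance : IsOpenImmersion (s k.1))
        (inferInstance : IsOpenImmersion (s k.2)) rfl rfl
    let Q : ι × ι → Scheme.{u} := fun k => pullback cc.left (w k)
    have hrange : ∀ k, Set.range (pullback.fst cc.left (w k)) =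
        cc.left ⁻¹' (pullback.fst H₀.hom H₀.hom ⁻¹' Set.range (s k.1) ∩
          pullback.snd H₀.hom H₀.hom ⁻¹' Set.range (s k.2)) := fun k => by
      rw [Scheme.Pullback.range_fst]
      refine congrArg _ ?_
      exact Scheme.Pullback.range_map _ _ _ _ _ _ _ _ _
    have hsdis : ∀ a b x, x ∈ Set.range (s a) → x ∈ Set.range (s b) → a = b := fun a b x ha hb => by
      obtain ⟨y, rfl⟩ := ha
      obtain ⟨z, hz⟩ := hb
      have := e.hom.injective (show e.hom (Limits.Sigma.ι P b z) = e.hom (Limits.Sigma.ι P a y) from hz)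
      exact (congrArg Sigma.fst ((sigmaι_eq_iff _ _ _ _ _).1 this)).symm
    have hscov : ∀ x, ∃ a, x ∈ Set.range (s a) := fun x => by
      obtain ⟨a, z, hz⟩ := (sigmaOpenCover P).exists_eq (e.inv x)
      exact ⟨a, z, (congrArg e.hom hz).trans (by rw [← Scheme.Hom.comp_apply, Iso.inv_hom_id]; rfl)⟩
    obtain ⟨hcol⟩ := nonempty_isColimit_cofanMk_of (fun k => pullback.fst cc.left (w k))
      (top_le_iff.1 fun x _ => by
        obtain ⟨a, ha⟩ := hscov (pullback.fst H₀.hom H₀.hom (cc.left x))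
        obtain ⟨b, hb⟩ := hscov (pullback.snd H₀.hom H₀.hom (cc.left x))
        refine Opens.mem_iSup.2 ⟨(a, b), ?_⟩
        show x ∈ Set.range (pullback.fst cc.left (w (a, b)))
        rw [hrange]
        exact ⟨ha, hb⟩)
      (fun k k' hk => by
        rw [Function.onFun, disjoint_iff, ← le_bot_iff]
        rintro x ⟨hx, hx'⟩
        change x ∈ Set.range _ at hx hx'
        rw [hrange] at hx hx'
        exact (hk (Prod.ext (hsdis _ _ _ hx.1 hx'.1) (hsdis _ _ _ hx.2 hx'.2))).elim)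
    choose φ hφ hφ' using fun k : ι × ι => S1616.result S (m k.1) (m k.2)
    let μ : ∀ k : ι × ι, pullback (s k.1 ≫ H₀.hom) (s k.2 ≫ H₀.hom) ⟶
        pullback (CohB1.ProjSpaceOver.toBase (m k.1) S) (CohB1.ProjSpaceOver.toBase (m k.2) S) := fun k =>
      pullback.map _ _ _ _ (c k.1) (c k.2) (𝟙 S)
        (by rw [Category.comp_id, (hc k.1).2, Category.assoc]) (by rw [Category.comp_id, (hc k.2).2, Category.assoc])
    refine ⟨ι × ι, Q, IsColimit.coconePointUniqueUpToIso (coproductIsCoproduct Q) hcol,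
      fun k => m k.1 * m k.2 + m k.1 + m k.2, fun k => pullback.snd cc.left (w k) ≫ μ k ≫ φ k, fun k => ?_⟩
    haveI := hφ k
    haveI : IsClosedImmersion (μ k) := MorphismProperty.pullbackMap (P := @IsClosedImmersion) (hc k.1).1 (hc k.2).1
      (by rw [(hc k.1).2, Category.assoc]) (by rw [(hc k.2).2, Category.assoc])
    refine ⟨inferInstance, ?_⟩
    have hι : Limits.Sigma.ι Q k ≫ (IsColimit.coconePointUniqueUpToIso (coproductIsCoproduct Q) hcol).hom =
        pullback.fst cc.left (w k) :=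
      IsColimit.comp_coconePointUniqueUpToIso_hom (coproductIsCoproduct Q) hcol ⟨k⟩
    refine Eq.trans ?_ ((congrArg (· ≫ T'.hom) hι).symm.trans (Category.assoc _ _ _))
    refine Eq.trans ?_ (congrArg (fun t => pullback.fst cc.left (w k) ≫ t) (Over.w cc))
    show (pullback.snd cc.left (w k) ≫ μ k ≫ φ k) ≫ _ =
      pullback.fst cc.left (w k) ≫ cc.left ≫ pullback.fst H₀.hom H₀.hom ≫ H₀.hom
    refine ((Category.assoc _ _ _).trans (congrArg (fun t => pullback.snd cc.left (w k) ≫ t)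
      ((Category.assoc _ _ _).trans (congrArg (fun t => μ k ≫ t) (hφ' k))))).trans ?_
    refine Eq.trans ?_ (pullback.condition_assoc _).symm
    refine congrArg (fun t => pullback.snd cc.left (w k) ≫ t) ?_
    simp only [μ, w, pullback.lift_fst_assoc, Category.assoc, (hc k.1).2, s]

end Groth.Agent.QuotRep
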