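import Groth.Agent.QuotRep.QuotGlue
import Groth.Agent.QuotRep.QuotFGA
import Groth.Agent.RepLocal.Glue
import Groth.Agent.FibFlatMod.CritMain
import Groth.Agent.KFlatLib.Scheme.Grothendieck

/-!
# The Zariski sheaf of quotients with given Hilbert polynomial
-/

set_option autoImplicit false
set_option linter.style.haveILetI false
set_option linter.unusedSectionVars false
set_option backward.isDefEq.respectTransparency false
set_option backward.isDefEq.respectTransparency.types false
set_option maxHeartbeats 1000000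
set_option synthInstance.maxHeartbeats 400000

universe u

open CategoryTheory CategoryTheory.Limits AlgebraicGeometry TopologicalSpace Opposite

attribute [-instance] CategoryTheory.catToReflQuiver

noncomputable section

namespace Groth.Agent.QuotRep

open Groth.Agent

variable {X S : Scheme.{u}} (f : X ⟶ S) (E : X.Modules)

theorem quotPull_id_injective (T : Over S) :
    Function.Injective (FGA.quotPull f E (𝟙 T)) := by
  intro K K' h
  haveI : IsIso (PicF.XTmap f (𝟙 T)) := by
    have : PicF.XTmap f (𝟙 T) = 𝟙 _ := pullback.hom_ext (by simp [PicF.XTmap]) (by simp [PicF.XTmap])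
    rw [this]; infer_instance
  have h1 := ((quotPull_eq_iff (f := f) (E := E) (𝟙 T) K _).1 rfl)
  have h2 := ((quotPull_eq_iff (f := f) (E := E) (𝟙 T) K' _).1 h.symm)
  have h3 : SameQ (cokernel.π K.arrow) (cokernel.π K'.arrow) := sameQ_of_pullQ_local fun x => by
    obtain ⟨y, hy⟩ := (Scheme.homeoOfIso (asIso (PicF.XTmap f (𝟙 T)))).surjective x
    refine ⟨_, PicF.XTmap f (𝟙 T), inferInstance, ⟨y, hy⟩, ?_⟩
    have gen : ∀ (c : PicF.XT f T ⟶ X) (hc : PicF.XTmap f (𝟙 T) ≫ pullback.fst f T.hom = c),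
        SameQ (pullQ (PicF.XTmap f (𝟙 T)) (pullback.fst f T.hom) c hc (cokernel.π K.arrow))
          (pullQ (PicF.XTmap f (𝟙 T)) (pullback.fst f T.hom) c hc (cokernel.π K'.arrow)) →
        SameQ (pullQ (PicF.XTmap f (𝟙 T)) (pullback.fst f T.hom) _ rfl (cokernel.π K.arrow))
          (pullQ (PicF.XTmap f (𝟙 T)) (pullback.fst f T.hom) _ rfl (cokernel.π K'.arrow)) := by
      rintro c rfl h; exact h
    exact gen _ _ (h1.trans h2.symm)
  haveI : Epi (cokernel.π K.arrow) := inferInstance
  exact ((kernelSubobject_eq_iff (cokernel.π K.arrow) K).2 ⟨Iso.refl _, Category.comp_id _⟩).symm.trans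
    ((kernelSubobject_eq_iff (cokernel.π K.arrow) K').2 h3)

theorem quotPull_id (T : Over S) (K : Subobject (FGA.ET f E T)) : FGA.quotPull f E (𝟙 T) K = K := by
  refine quotPull_id_injective f E T ?_
  rw [H9Quot.quotPull_quotPull, Category.id_comp]

/-- Families of quotients as a set in the lower universe. -/
abbrev SubSm (T : Over S) : Type u := Shrink.{u} (Subobject (FGA.ET f E T))

variable (L : X.Modules) (Φ : Polynomial ℚ)

/-- The condition on a family of quotients. -/
def QP (T : Over S) (K : SubSm f E T) : Prop :=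
  IsQuot f L Φ T.hom (cokernel.π ((equivShrink _).symm K : Subobject (FGA.ET f E T)).arrow)

variable {f E L Φ}

theorem isQuot_quotPull [IsProper f] (hLi : PicF.IsInvertible L) {T T' : Over S} (g : T' ⟶ T)
    {K : Subobject (FGA.ET f E T)} (h : IsQuot f L Φ T.hom (cokernel.π K.arrow)) :
    IsQuot f L Φ T'.hom (cokernel.π (FGA.quotPull f E g K).arrow) := by
  haveI := h.epi
  exact (isQuot_pull_of_image hLi h.fp h.flat g.left (Over.w g) fun t j => h.poly (g.left t) j).of_sameQ
    ((sameQ_pullQ_congr (XTmap_eq (f := f) g).symm _ _ _ (FGA.XTmap_fst f g) _).trans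
      ((quotPull_eq_iff g K _).1 rfl))

theorem isQuot_congr {T : Over S} {K K' : Subobject (FGA.ET f E T)} (e : K = K')
    (h : IsQuot f L Φ T.hom (cokernel.π K.arrow)) : IsQuot f L Φ T.hom (cokernel.π K'.arrow) := by
  subst e; exact h

variable (f E) in
/-- The functor of quotients with given Hilbert polynomial. -/
def QFun [IsProper f] (L : X.Modules) (hLi : PicF.IsInvertible L) (Φ : Polynomial ℚ) :
    (Over S)ᵒᵖ ⥤ Type u where
  obj T := {K : SubSm f E T.unop // QP f E L Φ T.unop K}
  map {T T'} g := TypeCat.ofHom fun K => ⟨equivShrink _ (FGA.quotPull f E g.unop ((equivShrink _).symm K.1)), by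
    exact isQuot_congr (Equiv.symm_apply_apply _ _).symm (isQuot_quotPull hLi g.unop K.2)⟩
  map_id T := by
    refine ConcreteCategory.hom_ext _ _ fun K => ?_
    refine Subtype.ext ?_
    show equivShrink _ (FGA.quotPull f E (𝟙 T.unop) _) = K.1
    rw [quotPull_id, Equiv.apply_symm_apply]
  map_comp {T T' T''} g g' := by
    refine ConcreteCategory.hom_ext _ _ fun K => ?_
    refine Subtype.ext ?_
    show equivShrink _ (FGA.quotPull f E (g'.unop ≫ g.unop) _) =
      equivShrink _ (FGA.quotPull f E g'.unop ((equivShrink _).symm (equivShrink _ (FGA.quotPull f E g.unop _))))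
    rw [Equiv.symm_apply_apply, H9Quot.quotPull_quotPull]

variable [IsProper f] (hLi : PicF.IsInvertible L)

/-- The family underlying a section. -/
abbrev sub {T : Over S} (φ : (QFun f E L hLi Φ).obj (op T)) : Subobject (FGA.ET f E T) :=
  (equivShrink _).symm φ.1

theorem res_eq_iff {T T' : Over S} (g : T' ⟶ T) (φ : (QFun f E L hLi Φ).obj (op T))
    (ψ : (QFun f E L hLi Φ).obj (op T')) :
    RepLocal.res (QFun f E L hLi Φ) g φ = ψ ↔ FGA.quotPull f E g (sub hLi φ) = sub hLi ψ :=
  Subtype.ext_iff.trans ((Equiv.apply_eq_iff_eq_symm_apply _).trans Iff.rfl)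

theorem sub_res {T T' : Over S} (g : T' ⟶ T) (φ : (QFun f E L hLi Φ).obj (op T)) :
    sub hLi (RepLocal.res (QFun f E L hLi Φ) g φ) = FGA.quotPull f E g (sub hLi φ) :=
  ((res_eq_iff hLi g φ _).1 rfl).symm

theorem isOpenImmersion_XTmap {T T' : Over S} (g : T' ⟶ T) [IsOpenImmersion g.left] :
    IsOpenImmersion (PicF.XTmap f g) :=
  MorphismProperty.of_isPullback (H9Quot.isPullback_XTmap f g).flip inferInstance

/-- Quotients with given Hilbert polynomial form a Zariski sheaf. -/
theorem isLocal_QFun [LocallyOfFinitePresentation f] : RepLocal.IsLocal (QFun f E L hLi Φ) where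
  ext T κ U hU φ ψ h := by
    haveI : ∀ k, IsOpenImmersion (RepLocal.opIncl T (U k)).left := fun k =>
      inferInstanceAs (IsOpenImmersion (U k).ι)
    refine Subtype.ext ((equivShrink _).symm.injective ?_)
    have h' : ∀ k, FGA.quotPull f E (RepLocal.opIncl T (U k)) (sub hLi φ) =
        FGA.quotPull f E (RepLocal.opIncl T (U k)) (sub hLi ψ) := fun k => by
      rw [← sub_res, ← sub_res, h k]
    have hs : SameQ (cokernel.π (sub hLi φ).arrow) (cokernel.π (sub hLi ψ).arrow) :=
      sameQ_of_pullQ_local fun x => by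
        obtain ⟨k, hk⟩ := hU (PicF.XTproj f T x)
        haveI := isOpenImmersion_XTmap (f := f) (RepLocal.opIncl T (U k))
        obtain ⟨w, hw, -⟩ := Scheme.exists_preimage_of_isPullback
          (H9Quot.isPullback_XTmap f (RepLocal.opIncl T (U k))) x ⟨_, hk⟩ rfl
        refine ⟨_, PicF.XTmap f (RepLocal.opIncl T (U k)), inferInstance, ⟨w, hw⟩, ?_⟩
        have gen : ∀ {a : PicF.XT f (RepLocal.opOver T (U k)) ⟶ PicF.XT f T}
            {c : PicF.XT f (RepLocal.opOver T (U k)) ⟶ X} (hc : a ≫ pullback.fst f T.hom = c),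
            SameQ (pullQ a (pullback.fst f T.hom) c hc (cokernel.π (sub hLi φ).arrow))
              (pullQ a (pullback.fst f T.hom) c hc (cokernel.π (sub hLi ψ).arrow)) →
            SameQ (pullQ a (pullback.fst f T.hom) _ rfl (cokernel.π (sub hLi φ).arrow))
              (pullQ a (pullback.fst f T.hom) _ rfl (cokernel.π (sub hLi ψ).arrow)) := by
          intro a c hc h; subst hc; exact h
        exact gen _ (((quotPull_eq_iff _ _ _).1 (h' k)).trans ((quotPull_eq_iff _ _ _).1 rfl).symm)
    exact ((kernelSubobject_eq_iff (cokernel.π (sub hLi φ).arrow) _).2 ⟨Iso.refl _, Category.comp_id _⟩).symm.trans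
      ((kernelSubobject_eq_iff (cokernel.π (sub hLi φ).arrow) _).2 hs)
  glue T κ U hU φ h := by
    let a₀ := pullback.fst f T.hom
    let aU := fun k => PicF.XTmap f (RepLocal.opIncl T (U k))
    let cU := fun k => pullback.fst f (RepLocal.opOver T (U k)).hom
    have hcU : ∀ k, aU k ≫ a₀ = cU k := fun k => FGA.XTmap_fst f _
    haveI : ∀ k, IsOpenImmersion (RepLocal.opIncl T (U k)).left := fun k =>
      inferInstanceAs (IsOpenImmersion (U k).ι)
    haveI : ∀ k, IsOpenImmersion (aU k) := fun k => isOpenImmersion_XTmap _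
    let π : ∀ k, (Scheme.Modules.pullback (cU k)).obj E ⟶ cokernel (sub hLi (φ k)).arrow :=
      fun k => cokernel.π (sub hLi (φ k)).arrow
    let τ := fun k => (LimMod.trIso (aU k) a₀ (cU k) (hcU k)).app E
    let q : ∀ k, (Scheme.Modules.pullback (aU k)).obj (FGA.ET f E T) ⟶ cokernel (sub hLi (φ k)).arrow :=
      fun k => (τ k).hom ≫ π k
    haveI : ∀ k, Epi (q k) := fun k => epi_comp _ _
    have hfp : ∀ k, CohB1.IsFP (cokernel (sub hLi (φ k)).arrow) := fun k => (φ k).2.fp
    have hcov : ∀ x, ∃ k, x ∈ Set.range (aU k) := fun x => by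
      obtain ⟨k, hk⟩ := hU (PicF.XTproj f T x)
      obtain ⟨w, hw, -⟩ := Scheme.exists_preimage_of_isPullback
        (H9Quot.isPullback_XTmap f (RepLocal.opIncl T (U k))) x ⟨_, hk⟩ rfl
      exact ⟨k, w, hw⟩
    -- the two kinds of pullbacks of quotients
    have conv : ∀ k {R : Scheme.{u}} (j : R ⟶ PicF.XT f (RepLocal.opOver T (U k))) (c : R ⟶ PicF.XT f T)
        (hc : j ≫ aU k = c) (c' : R ⟶ X) (hc' : j ≫ cU k = c') (hcc : c ≫ a₀ = c'),
        pullQ j (aU k) c hc (q k) = (LimMod.trIso c a₀ c' hcc).hom.app E ≫ pullQ j (cU k) c' hc' (π k) := by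
      intro k R j c hc c' hc' hcc
      have key := H9Quot.trIso_trIso j (aU k) a₀ (cU k) (hcU k) c' hc' c hc hcc E
      show (LimMod.trIso j (aU k) c hc).inv.app _ ≫ (Scheme.Modules.pullback j).map ((τ k).hom ≫ π k) =
        _ ≫ (LimMod.trIso j (cU k) c' hc').inv.app E ≫ (Scheme.Modules.pullback j).map (π k)
      rw [Functor.map_comp, ← Category.assoc, ← Category.assoc]
      refine congrArg (fun t => t ≫ (Scheme.Modules.pullback j).map (π k)) ?_
      rw [← cancel_mono ((LimMod.trIso j (cU k) c' hc').hom.app E), Category.assoc, Category.assoc]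
      show (LimMod.trIso j (aU k) c hc).inv.app _ ≫ (Scheme.Modules.pullback j).map
        ((LimMod.trIso (aU k) a₀ (cU k) (hcU k)).hom.app E) ≫ _ = _
      rw [key, Iso.inv_hom_id_app]
      erw [Category.comp_id, Iso.inv_hom_id_app_assoc]
    have hc : ∀ k l, SameQ (pullQ (pullback.fst (aU k) (aU l)) (aU k) (pullback.fst (aU k) (aU l) ≫ aU k) rfl (q k))
        (pullQ (pullback.snd (aU k) (aU l)) (aU l) (pullback.fst (aU k) (aU l) ≫ aU k)
          pullback.condition.symm (q l)) := by
      intro k l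
      let W := RepLocal.opOver T (U k ⊓ U l)
      let j₁ := pullback.fst (aU k) (aU l)
      let j₂ := pullback.snd (aU k) (aU l)
      let c := j₁ ≫ aU k
      have hr : Set.range c ⊆ Set.range (PicF.XTmap f (RepLocal.opIncl T (U k ⊓ U l))) := by
        rintro _ ⟨z, rfl⟩
        have hk : PicF.XTproj f T (c z) ∈ U k := by
          rw [← Scheme.Hom.comp_apply, show c ≫ PicF.XTproj f T = (j₁ ≫ PicF.XTproj f _) ≫ (U k).ι by
            rw [Category.assoc, Category.assoc]
            exact congrArg (j₁ ≫ ·) (H9Quot.isPullback_XTmap f (RepLocal.opIncl T (U k))).w]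
          rw [Scheme.Hom.comp_apply]
          exact ((j₁ ≫ PicF.XTproj f (RepLocal.opOver T (U k))) z).2
        have hl : PicF.XTproj f T (c z) ∈ U l := by
          rw [← Scheme.Hom.comp_apply, show c ≫ PicF.XTproj f T = (j₂ ≫ PicF.XTproj f _) ≫ (U l).ι by
            rw [show c = j₂ ≫ aU l from pullback.condition, Category.assoc, Category.assoc]
            exact congrArg (j₂ ≫ ·) (H9Quot.isPullback_XTmap f (RepLocal.opIncl T (U l))).w]
          rw [Scheme.Hom.comp_apply]
          exact ((j₂ ≫ PicF.XTproj f (RepLocal.opOver T (U l))) z).2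
        obtain ⟨w, hw, -⟩ := Scheme.exists_preimage_of_isPullback
          (H9Quot.isPullback_XTmap f (RepLocal.opIncl T (U k ⊓ U l))) (c z) ⟨_, hk, hl⟩ rfl
        exact ⟨w, hw⟩
      haveI : IsOpenImmersion (RepLocal.opIncl T (U k ⊓ U l)).left := inferInstanceAs (IsOpenImmersion (U k ⊓ U l).ι)
      haveI := isOpenImmersion_XTmap (f := f) (RepLocal.opIncl T (U k ⊓ U l))
      let r := IsOpenImmersion.lift (PicF.XTmap f (RepLocal.opIncl T (U k ⊓ U l))) c hr
      have hrc : r ≫ PicF.XTmap f (RepLocal.opIncl T (U k ⊓ U l)) = c := IsOpenImmersion.lift_fac _ _ _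
      have hm₁ : r ≫ PicF.XTmap f (RepLocal.opMap T (inf_le_left : U k ⊓ U l ≤ U k)) = j₁ := by
        rw [← cancel_mono (aU k), Category.assoc, H9Quot.XTmap_comp', RepLocal.opMap_incl, hrc]
      have hm₂ : r ≫ PicF.XTmap f (RepLocal.opMap T (inf_le_right : U k ⊓ U l ≤ U l)) = j₂ := by
        rw [← cancel_mono (aU l), Category.assoc, H9Quot.XTmap_comp', RepLocal.opMap_incl, hrc]
        exact pullback.condition
      have e₁ := congrArg (sub hLi) (h k l)
      rw [sub_res, sub_res] at e₁
      have s₀ := ((quotPull_eq_iff _ (sub hLi (φ k)) _).1 e₁).trans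
        ((quotPull_eq_iff _ (sub hLi (φ l)) _).1 rfl).symm
      have s₁ := SameQ.pullQ r (c ≫ a₀) (show r ≫ pullback.fst f W.hom = c ≫ a₀ by
        rw [← hrc, Category.assoc]
        exact congrArg (r ≫ ·) (FGA.XTmap_fst f (RepLocal.opIncl T (U k ⊓ U l))).symm) s₀
      obtain ⟨e, he⟩ := (sameQ_pullQ_pullQ r _ (cU k) _ (FGA.XTmap_fst f _) (c ≫ a₀) _ j₁ hm₁ (π k)).symm.trans
        (s₁.trans (sameQ_pullQ_pullQ r _ (cU l) _ (FGA.XTmap_fst f _) (c ≫ a₀) _ j₂ hm₂ (π l)))
      refine ⟨e, ?_⟩
      rw [conv k j₁ c rfl (c ≫ a₀) (by rw [← hcU k, Category.assoc]) rfl,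
        conv l j₂ c pullback.condition.symm (c ≫ a₀) (by
          rw [← hcU l, ← Category.assoc]; exact congrArg (· ≫ a₀) pullback.condition.symm) rfl,
        Category.assoc, he]
    obtain ⟨G, p, hp, hGfp, hG⟩ := exists_glue_quot aU hcov (fun k => cokernel (sub hLi (φ k)).arrow) q hfp hc
    haveI := hp
    have hpk : ∀ k, SameQ (pullQ (aU k) a₀ (cU k) (hcU k) p) (π k) := fun k => by
      obtain ⟨e, he⟩ := hG k
      refine ⟨e, ?_⟩
      show ((LimMod.trIso (aU k) a₀ (cU k) (hcU k)).inv.app E ≫ (Scheme.Modules.pullback (aU k)).map p) ≫ e.hom = π k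
      rw [Category.assoc, he]
      exact Iso.inv_hom_id_app_assoc _ _ _
    have hGq := QCoh.isQCoh_of_isFP hGfp
    have hquot : IsQuot f L Φ T.hom p := by
      refine ⟨hp, hGfp, fun x => ?_, fun t j => ?_⟩
      · obtain ⟨k, w, hw⟩ := hcov x
        obtain ⟨e, -⟩ := hpk k
        rw [← hw]
        exact (FibFlatMod.flatAt_openImmersion (f := pullback.snd f T.hom)
          (f' := pullback.snd f (RepLocal.opOver T (U k)).hom) (jX := aU k) (jY := (U k).ι)
          (H9Quot.isPullback_XTmap f (RepLocal.opIncl T (U k))).w.symm G w).1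
          (GrFlat5.isFlatOverAt_of_iso _ e.symm w ((φ k).2.flat w))
      · obtain ⟨k, hk⟩ := hU t
        obtain ⟨e, -⟩ := hpk k
        refine Eq.trans ?_ ((φ k).2.poly ⟨t, hk⟩ j)
        refine (congrArg (Int.cast (R := ℚ))
          (eulerChar_pullQ hLi (RepLocal.opIncl T (U k)).left (Over.w _) hGq ⟨t, hk⟩ j).symm).trans ?_
        exact congrArg (Int.cast (R := ℚ)) (HilbSnap.eulerChar_congr _ (PicGrp.tensorModIso
          (((Scheme.Modules.pullbackCongr (XTmap_eq (f := f) (RepLocal.opIncl T (U k))).symm).app G) ≪≫ e)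
            (Iso.refl _)) _)
    have hks := sameQ_kernelSubobject p
    refine ⟨⟨equivShrink _ (kernelSubobject p), by
      exact isQuot_congr (Equiv.symm_apply_apply _ _).symm (hquot.of_sameQ hks)⟩, fun k => ?_⟩
    rw [res_eq_iff]
    show FGA.quotPull f E _ ((equivShrink _).symm (equivShrink _ (kernelSubobject p))) = _
    rw [Equiv.symm_apply_apply]
    rw [quotPull_eq_iff]
    exact (SameQ.pullQ _ _ _ hks.symm).trans (hpk k)

end Groth.Agent.QuotRep
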