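import Groth.Agent.QuotRep.QuotLocal
import Groth.Agent.QuotRep.FPLocal
import Groth.Agent.QuotRep.TwistQ
import Groth.Agent.QCoh.Submod
import Groth.Agent.InvX.GenLocusPull

/-!
# Gluing quotients of a module on an open cover
-/

set_option autoImplicit false
set_option linter.style.haveILetI false
set_option linter.unusedSectionVars false
set_option backward.isDefEq.respectTransparency false
set_option backward.isDefEq.respectTransparency.types false
set_option maxHeartbeats 1000000
set_option synthInstance.maxHeartbeats 400000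

universe u

open CategoryTheory CategoryTheory.Limits AlgebraicGeometry TopologicalSpace Opposite

attribute [-instance] CategoryTheory.catToReflQuiver

noncomputable section

namespace Groth.Agent.QuotRep

open Groth.Agent

/-- Inverse images of sections along an open immersion over its range. -/
theorem pullElt_bijective {V P : Scheme.{u}} (j : V ⟶ P) [IsOpenImmersion j] (M : P.Modules) (O : P.Opens)
    (hO : O ≤ j.opensRange) : Function.Bijective (fun s : Γ(M, O) => InvX.pullElt j s) := by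
  let e := (Scheme.Modules.restrictFunctorIsoPullback j).app M
  have key : ∀ s : Γ(M, O), InvX.pullElt j s =
      e.hom.app (j ⁻¹ᵁ O) (((Scheme.Modules.restrictAdjunction j).unit.app M).app O s) := fun s =>
    congr(($(Adjunction.unit_leftAdjointUniq_hom_app (Scheme.Modules.restrictAdjunction j)
      (Scheme.Modules.pullbackPushforwardAdjunction j) M)).app O s).symm
  have h1 : Function.Bijective (fun s : Γ(M, O) => ((Scheme.Modules.restrictAdjunction j).unit.app M).app O s) := by
    have hle : O ≤ j ''ᵁ (j ⁻¹ᵁ O) := fun x hx => by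
      obtain ⟨y, rfl⟩ := hO hx
      exact ⟨y, hx, rfl⟩
    have h0 : ∀ s : Γ(M, O), ((Scheme.Modules.restrictAdjunction j).unit.app M).app O s =
        (M.presheaf.map (homOfLE (j.image_preimage_le O)).op s : Γ(M, j ''ᵁ (j ⁻¹ᵁ O))) := fun s => rfl
    refine ⟨fun s t hst => ?_, fun z => ⟨M.presheaf.map (homOfLE hle).op (show Γ(M, j ''ᵁ (j ⁻¹ᵁ O)) from z), ?_⟩⟩
    · have := congrArg (fun w : Γ(M, j ''ᵁ (j ⁻¹ᵁ O)) => M.presheaf.map (homOfLE hle).op w)
        ((h0 s).symm.trans (hst.trans (h0 t)))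
      exact ((QCoh.map_map _ _ _).trans (QCoh.map_id' _ _)).symm.trans
        (this.trans ((QCoh.map_map _ _ _).trans (QCoh.map_id' _ _)))
    · exact (h0 _).trans ((QCoh.map_map _ _ _).trans (QCoh.map_id' _ _))
  rw [show (fun s : Γ(M, O) => InvX.pullElt j s) = (fun z => e.hom.app (j ⁻¹ᵁ O) z) ∘
    (fun s : Γ(M, O) => ((Scheme.Modules.restrictAdjunction j).unit.app M).app O s) from funext key]
  exact (ConcreteCategory.bijective_of_isIso (e.hom.app (j ⁻¹ᵁ O))).comp h1

/-- The value of a pulled back quotient on an inverse image of a section. -/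
theorem pullQ_pullElt {P V R : Scheme.{u}} (j : R ⟶ V) (a : V ⟶ P) {M : P.Modules} {F : V.Modules}
    (q : (Scheme.Modules.pullback a).obj M ⟶ F) {O : P.Opens} (s : Γ(M, O)) :
    (pullQ j a (j ≫ a) rfl q).app (j ⁻¹ᵁ (a ⁻¹ᵁ O)) (InvX.pullElt (j ≫ a) s) =
      InvX.pullElt j (q.app (a ⁻¹ᵁ O) (InvX.pullElt a s)) := by
  have key : ((LimMod.trIso j a (j ≫ a) rfl).hom.app M).app (j ⁻¹ᵁ (a ⁻¹ᵁ O))
      (InvX.pullElt j (InvX.pullElt a s)) = InvX.pullElt (j ≫ a) s := trIso_pb j a M s
  show ((Scheme.Modules.pullback j).map q).app _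
    (((LimMod.trIso j a (j ≫ a) rfl).inv.app M).app _ (InvX.pullElt (j ≫ a) s)) = _
  rw [← key]
  exact (congrArg (((Scheme.Modules.pullback j).map q).app (j ⁻¹ᵁ (a ⁻¹ᵁ O)))
    congr(($((LimMod.trIso j a (j ≫ a) rfl).hom_inv_id_app M)).app (j ⁻¹ᵁ (a ⁻¹ᵁ O))
      (InvX.pullElt j (InvX.pullElt a s)))).trans (InvX.map_pullElt j q (InvX.pullElt a s))

variable {P : Scheme.{u}} {M : P.Modules} {κ : Type u} {V : κ → Scheme.{u}} (a : ∀ k, V k ⟶ P)
  [∀ k, IsOpenImmersion (a k)]

/-- Quotients on the members of an open cover which agree on the overlaps come from a quotient. -/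
theorem exists_glue_quot (hcov : ∀ x : P, ∃ k, x ∈ Set.range (a k)) (F : ∀ k, (V k).Modules)
    (q : ∀ k, (Scheme.Modules.pullback (a k)).obj M ⟶ F k) [∀ k, Epi (q k)] (hF : ∀ k, CohB1.IsFP (F k))
    (hc : ∀ k l, SameQ (pullQ (pullback.fst (a k) (a l)) (a k) (pullback.fst (a k) (a l) ≫ a k) rfl (q k))
      (pullQ (pullback.snd (a k) (a l)) (a l) (pullback.fst (a k) (a l) ≫ a k) pullback.condition.symm (q l))) :
    ∃ (G : P.Modules) (π : M ⟶ G), Epi π ∧ CohB1.IsFP G ∧
      ∀ k, SameQ ((Scheme.Modules.pullback (a k)).map π) (q k) := by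
  let t : ∀ k, M ⟶ (Scheme.Modules.pushforward (a k)).obj (F k) := fun k =>
    (Scheme.Modules.pullbackPushforwardAdjunction (a k)).homEquiv _ _ (q k)
  have ht : ∀ k (O : P.Opens) (s : Γ(M, O)), (t k).app O s = (q k).app (a k ⁻¹ᵁ O) (InvX.pullElt (a k) s) :=
    fun k O s => by
    show ((Scheme.Modules.pullbackPushforwardAdjunction (a k)).homEquiv _ _ (q k)).app O s = _
    rw [Adjunction.homEquiv_unit]
    rfl
  let N : QCoh.SubMod M :=
    { mem := fun O =>
        { carrier := {s | ∀ k, (t k).app O s = 0}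
          zero_mem' := fun k => map_zero _
          add_mem' := fun {x y} hx hy k => by rw [map_add, hx k, hy k, add_zero]
          smul_mem' := fun r s hs k => by
            rw [Scheme.Modules.Hom.app_smul, hs k]
            exact smul_zero r }
      map_mem := fun {U W} i s hs k => (QCoh.map_app_comm (t k) (homOfLE i) s).trans (by rw [hs k, map_zero])
      of_locally := fun U s hs k =>
        TopCat.Presheaf.section_ext (⟨_, ((Scheme.Modules.pushforward (a k)).obj (F k)).isSheaf⟩ :
            TopCat.Sheaf Ab P) U _ _ fun x hx => by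
          obtain ⟨W, i, hxW, hW⟩ := hs x hx
          refine (TopCat.Presheaf.germ_res_apply ((Scheme.Modules.pushforward (a k)).obj (F k)).presheaf
            (homOfLE i) x hxW _).symm.trans ?_
          erw [← QCoh.map_app_comm (t k) (homOfLE i) s]
          rw [hW k]
          simp }
  have overlap : ∀ k l (O : P.Opens), O ≤ (a k).opensRange → ∀ s : Γ(M, O),
      (t k).app O s = 0 → (t l).app O s = 0 := fun k l O hO s hs => by
    let j₁ := pullback.fst (a k) (a l)
    let j₂ := pullback.snd (a k) (a l)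
    obtain ⟨e, he⟩ := hc k l
    have h1 : (pullQ j₁ (a k) (j₁ ≫ a k) rfl (q k)).app (j₁ ⁻¹ᵁ (a k ⁻¹ᵁ O)) (InvX.pullElt (j₁ ≫ a k) s) = 0 := by
      rw [pullQ_pullElt, ← ht, hs]
      exact map_zero _
    have h2 : (pullQ j₂ (a l) (j₁ ≫ a k) pullback.condition.symm (q l)).app (j₁ ⁻¹ᵁ (a k ⁻¹ᵁ O))
        (InvX.pullElt (j₁ ≫ a k) s) = 0 := by
      rw [← he]
      show e.hom.app _ ((pullQ j₁ (a k) (j₁ ≫ a k) rfl (q k)).app _ _) = 0
      rw [h1, map_zero]
    have h3 : ∀ (c : pullback (a k) (a l) ⟶ P) (hcc : j₂ ≫ a l = c),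
        (pullQ j₂ (a l) c hcc (q l)).app (c ⁻¹ᵁ O) (InvX.pullElt c s) = 0 →
          InvX.pullElt j₂ ((q l).app (a l ⁻¹ᵁ O) (InvX.pullElt (a l) s)) = 0 := by
      rintro c rfl h
      rw [← pullQ_pullElt]
      exact h
    have h4 := h3 _ pullback.condition.symm h2
    rw [ht]
    refine (pullElt_bijective j₂ (F l) (a l ⁻¹ᵁ O) fun z hz => ?_).1 (h4.trans (map_zero _).symm)
    obtain ⟨y, hy⟩ := hO hz
    obtain ⟨w, -, hw⟩ := Scheme.Pullback.exists_preimage_pullback y z hy
    exact ⟨w, hw⟩
  let G := cokernel N.ι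
  let π : M ⟶ G := cokernel.π N.ι
  have hiso : ∀ k, SameQ ((Scheme.Modules.pullback (a k)).map π) (q k) := fun k => by
    let pa := Scheme.Modules.pullback (a k)
    haveI := (Scheme.Modules.pullbackPushforwardAdjunction (a k)).isLeftAdjoint
    haveI : Epi (pa.map π) := inferInstance
    have hιt : N.ι ≫ t k = 0 := Scheme.Modules.hom_ext _ _ fun O => by
      ext z
      exact N.ι_app_mem O z k
    have w₁ : pa.map N.ι ≫ q k = 0 := by
      apply ((Scheme.Modules.pullbackPushforwardAdjunction (a k)).homEquiv _ _).injective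
      rw [Adjunction.homEquiv_naturality_left, Adjunction.homEquiv_unit, Adjunction.homEquiv_unit,
        Functor.map_zero, comp_zero]
      rw [← Adjunction.homEquiv_unit]
      exact hιt
    let d : pa.obj G ⟶ F k := (CokernelCofork.IsColimit.desc'
      (CokernelCofork.mapIsColimit _ (cokernelIsCokernel N.ι) pa) (q k) w₁).1
    have hd : pa.map π ≫ d = q k := (CokernelCofork.IsColimit.desc'
      (CokernelCofork.mapIsColimit _ (cokernelIsCokernel N.ι) pa) (q k) w₁).2
    have w₂ : kernel.ι (q k) ≫ pa.map π = 0 := Scheme.Modules.hom_ext _ _ fun U => by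
      ext y
      have hU : a k ''ᵁ U ≤ (a k).opensRange := by
        rintro _ ⟨z, -, rfl⟩
        exact ⟨z, rfl⟩
      have hpre : a k ⁻¹ᵁ (a k ''ᵁ U) = U := (a k).preimage_image_eq U
      let x : Γ(pa.obj M, a k ⁻¹ᵁ (a k ''ᵁ U)) :=
        (pa.obj M).presheaf.map (homOfLE hpre.le).op ((kernel.ι (q k)).app U y)
      obtain ⟨s, hs⟩ := (pullElt_bijective (a k) M _ hU).2 x
      have hx : (q k).app (a k ⁻¹ᵁ (a k ''ᵁ U)) x = 0 := by
        refine (QCoh.map_app_comm (q k) (homOfLE hpre.le) _).trans ?_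
        have : (q k).app U ((kernel.ι (q k)).app U y) = 0 := congr(($(kernel.condition (q k))).app U y)
        rw [this, map_zero]
      have hmem : s ∈ N.mem (a k ''ᵁ U) := fun l => overlap k l _ hU s (by rw [ht]; exact (congrArg _ hs).trans hx)
      obtain ⟨z, hz⟩ := N.exists_app_eq hmem
      have h0 : π.app (a k ''ᵁ U) s = 0 := by
        rw [← hz]
        exact congr(($(cokernel.condition N.ι)).app (a k ''ᵁ U) z)
      have h1 : (pa.map π).app (a k ⁻¹ᵁ (a k ''ᵁ U)) x = 0 := by
        rw [← hs]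
        refine (InvX.map_pullElt (a k) π s).trans ?_
        rw [h0]
        exact map_zero _
      have h2 : (pa.obj G).presheaf.map (homOfLE hpre.le).op ((pa.map π).app U ((kernel.ι (q k)).app U y)) = 0 :=
        (QCoh.map_app_comm (pa.map π) (homOfLE hpre.le) _).symm.trans h1
      have h3 := congrArg ((pa.obj G).presheaf.map (homOfLE hpre.ge).op) h2
      rw [map_zero] at h3
      exact ((QCoh.map_map _ _ _).trans (QCoh.map_id' _ _)).symm.trans h3
    let d' : F k ⟶ pa.obj G := Abelian.epiDesc (q k) (pa.map π) w₂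
    have hd' : q k ≫ d' = pa.map π := Abelian.comp_epiDesc _ _ _
    refine ⟨⟨d, d', ?_, ?_⟩, hd⟩
    · rw [← cancel_epi (pa.map π), ← Category.assoc, hd, hd', Category.comp_id]
    · rw [← cancel_epi (q k), ← Category.assoc, hd', hd, Category.comp_id]
  refine ⟨G, π, inferInstance, isFP_of_local fun x => ?_, hiso⟩
  obtain ⟨k, hk⟩ := hcov x
  obtain ⟨e, -⟩ := hiso k
  exact ⟨V k, a k, inferInstance, hk,
    (SheafOfModules.isFinitePresentation (R := (V k).ringCatSheaf)).prop_of_iso e.symm (hF k)⟩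

end Groth.Agent.QuotRep
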