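import Groth.Agent.QuotRep.CoreUniv
import Groth.Agent.QuotRep.FPLocal

/-!
# Quotients on a disjoint union
-/

set_option autoImplicit false
set_option linter.style.haveILetI false
set_option linter.unusedSectionVars false
set_option backward.isDefEq.respectTransparency false
set_option backward.isDefEq.respectTransparency.types false
set_option maxHeartbeats 1000000
set_option synthInstance.maxHeartbeats 400000

universe u

open CategoryTheory CategoryTheory.Limits AlgebraicGeometry TopologicalSpace Opposite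

attribute [-instance] CategoryTheory.catToReflQuiver

noncomputable section

namespace Groth.Agent.QuotRep

open Groth.Agent

theorem subsingleton_sections_bot {Z : Scheme.{u}} (F : Z.Modules) {U : Z.Opens} (h : U = ⊥) :
    Subsingleton Γ(F, U) := by
  subst h
  exact AddCommGrpCat.subsingleton_of_isZero
    ((TopCat.Sheaf.isTerminalOfEmpty ⟨F.presheaf, F.isSheaf⟩).isZero)

theorem app_pi_injective {X : Scheme.{u}} {κ : Type u} (G : κ → X.Modules) {U : X.Opens}
    (s : Γ(∏ᶜ G, U)) (h : ∀ k, (Pi.π G k).app U s = 0) : s = 0 := by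
  let Φ := Scheme.Modules.toPresheaf X ⋙ (CategoryTheory.evaluation X.Opensᵒᵖ Ab.{u}).obj (Opposite.op U)
  haveI : PreservesLimitsOfShape (Discrete κ) ((CategoryTheory.evaluation X.Opensᵒᵖ Ab.{u}).obj (Opposite.op U)) :=
    evaluation_preservesLimitsOfShape (C := Ab.{u}) _
  haveI : PreservesLimitsOfShape (Discrete κ) (Scheme.Modules.toPresheaf X) :=
    PreservesLimitsOfSize.preservesLimitsOfShape
  haveI : PreservesLimitsOfShape (Discrete κ) Φ := comp_preservesLimitsOfShape _ _
  refine (ConcreteCategory.bijective_of_isIso (piComparison Φ G)).1 ?_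
  refine Eq.trans ?_ (map_zero (piComparison Φ G).hom).symm
  refine Concrete.limit_ext _ _ _ fun ⟨y⟩ => ?_
  rw [map_zero]
  exact (ConcreteCategory.congr_hom (piComparison_comp_π Φ G y) s).trans (h y)

variable {X P : Scheme.{u}} {κ : Type u} {V : κ → Scheme.{u}} (a : ∀ k, V k ⟶ P) [∀ k, IsOpenImmersion (a k)]

/-- Quotients on the members of a disjoint open cover come from a quotient. -/
theorem exists_sigma_quot (hcov : ∀ x : P, ∃ k, x ∈ Set.range (a k))
    (hdis : ∀ k k', k ≠ k' → Disjoint (Set.range (a k)) (Set.range (a k'))) (c : P ⟶ X) {E : X.Modules}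
    (d : ∀ k, V k ⟶ X) (hd : ∀ k, a k ≫ c = d k) (F : ∀ k, (V k).Modules)
    (q : ∀ k, (Scheme.Modules.pullback (d k)).obj E ⟶ F k) [∀ k, Epi (q k)] (hF : ∀ k, CohB1.IsFP (F k)) :
    ∃ (G : P.Modules) (π : (Scheme.Modules.pullback c).obj E ⟶ G), Epi π ∧ CohB1.IsFP G ∧
      ∀ k, SameQ (pullQ (a k) c (d k) (hd k) π) (q k) := by
  let M := (Scheme.Modules.pullback c).obj E
  let ρr := fun k => (Scheme.Modules.restrictFunctorIsoPullback (a k)).hom.app M
  let τ := fun k => (LimMod.trIso (a k) c (d k) (hd k)).hom.app E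
  let q' : ∀ k, (Scheme.Modules.restrictFunctor (a k)).obj M ⟶ F k := fun k => ρr k ≫ τ k ≫ q k
  let t : ∀ k, M ⟶ (Scheme.Modules.pushforward (a k)).obj (F k) := fun k =>
    (Scheme.Modules.restrictAdjunction (a k)).homEquiv _ _ (q' k)
  let ρ := Pi.lift t
  let π := Abelian.factorThruImage ρ
  let ι := Abelian.image.ι ρ
  let m : ∀ k, (Scheme.Modules.restrictFunctor (a k)).obj (Abelian.image ρ) ⟶ F k := fun k =>
    (Scheme.Modules.restrictFunctor (a k)).map (ι ≫ Pi.π _ k) ≫
      (Scheme.Modules.restrictAdjunction (a k)).counit.app (F k)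
  have hm : ∀ k, (Scheme.Modules.restrictFunctor (a k)).map π ≫ m k = q' k := fun k => by
    refine (Functor.map_comp_assoc _ _ _ _).symm.trans ?_
    rw [← Category.assoc π, Abelian.image.fac, Pi.lift_π]
    exact ((Scheme.Modules.restrictAdjunction (a k)).homEquiv_counit _ _ _).symm.trans
      (((Scheme.Modules.restrictAdjunction (a k)).homEquiv _ _).symm_apply_apply _)
  have hepi : ∀ k, Epi (m k) := fun k => by
    haveI : Epi ((Scheme.Modules.restrictFunctor (a k)).map π ≫ m k) := by
      rw [hm k]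
      exact epi_comp' inferInstance (epi_comp' inferInstance inferInstance)
    exact epi_of_epi ((Scheme.Modules.restrictFunctor (a k)).map π) (m k)
  have hmono : ∀ k, Mono (m k) := fun k => by
    refine Preadditive.mono_of_cancel_zero _ fun {T} g hg => Scheme.Modules.hom_ext _ _ fun U => ?_
    ext y
    let s : Γ(Abelian.image ρ, a k ''ᵁ U) := g.app U y
    have hk0 : (Pi.π (fun k => (Scheme.Modules.pushforward (a k)).obj (F k)) k).app (a k ''ᵁ U) (ι.app (a k ''ᵁ U) s) = 0 := by
      haveI : IsIso ((Scheme.Modules.restrictAdjunction (a k)).counit.app (F k)) := inferInstance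
      refine (ConcreteCategory.bijective_of_isIso
        (((Scheme.Modules.restrictAdjunction (a k)).counit.app (F k)).app U)).1 ?_
      rw [map_zero]
      exact ConcreteCategory.congr_hom (congrArg (fun φ => Scheme.Modules.Hom.app φ U) hg) y
    refine QCoh.app_injective ι (a k ''ᵁ U) ?_
    refine (app_pi_injective _ (ι.app (a k ''ᵁ U) s) fun k' => ?_).trans (map_zero _).symm
    by_cases hkk : k' = k
    · subst hkk; exact hk0
    · haveI : Subsingleton Γ((Scheme.Modules.pushforward (a k')).obj (F k'), a k ''ᵁ U) := by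
        refine subsingleton_sections_bot (F k') (U := a k' ⁻¹ᵁ (a k ''ᵁ U)) (eq_bot_iff.2 fun z hz => ?_)
        obtain ⟨w, -, hw⟩ := hz
        exact (Set.disjoint_left.1 (hdis k' k hkk) ⟨z, rfl⟩ ⟨w, hw⟩).elim
      exact Subsingleton.elim _ _
  haveI : ∀ k, IsIso (m k) := fun k => by
    haveI := hepi k
    haveI := hmono k
    exact isIso_of_mono_of_epi _
  have hiso : ∀ k, SameQ (pullQ (a k) c (d k) (hd k) π) (q k) := fun k => by
    refine ⟨((Scheme.Modules.restrictFunctorIsoPullback (a k)).app _).symm ≪≫ asIso (m k), ?_⟩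
    show ((LimMod.trIso (a k) c (d k) (hd k)).inv.app E ≫ (Scheme.Modules.pullback (a k)).map π) ≫
      (Scheme.Modules.restrictFunctorIsoPullback (a k)).inv.app _ ≫ m k = q k
    rw [Category.assoc, NatTrans.naturality_assoc, hm k]
    show _ ≫ _ ≫ ρr k ≫ τ k ≫ q k = q k
    rw [Iso.inv_hom_id_app_assoc, Iso.inv_hom_id_app_assoc]
  refine ⟨_, π, inferInstance, isFP_of_local fun x => ?_, hiso⟩
  obtain ⟨k, hk⟩ := hcov x
  obtain ⟨e, -⟩ := hiso k
  exact ⟨V k, a k, inferInstance, hk,
    (SheafOfModules.isFinitePresentation (R := (V k).ringCatSheaf)).prop_of_iso e.symm (hF k)⟩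

end Groth.Agent.QuotRep

end
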