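import Groth.Agent.QuotRep.EpiCounit
import Groth.Agent.RelCube.PnFamily
import Groth.Agent.HilbBound.Bound
import Groth.Agent.GGFF.Descent
import Groth.Agent.PBC.Vanish
import Groth.Agent.PBC.Top
import Groth.Agent.PBC.Deg0Glob
import Groth.Agent.TwistFlat.H0Flat
import Groth.Agent.H9Existence.ProjLift
import Groth.Agent.ModStLib.FibGrpd
import Groth.Agent.S1647
import Groth.Agent.S11319
import Groth.Agent.HilbSnap.Basic
import Groth.Agent.PicClLib.Basic

/-!
# A flat family with regular fibres
-/

set_option autoImplicit false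
set_option linter.style.haveILetI false
set_option linter.unusedSectionVars false
set_option backward.isDefEq.respectTransparency false
set_option backward.isDefEq.respectTransparency.types false
set_option maxHeartbeats 1000000

universe u

open CategoryTheory CategoryTheory.Limits AlgebraicGeometry TopologicalSpace Opposite
open Groth.Agent.PnCoh.Finite
open scoped Groth.Agent.H23.PicMul

attribute [-instance] CategoryTheory.catToReflQuiver

noncomputable section

namespace Groth.Agent.QuotRep

open Groth.Agent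

variable {S : Scheme.{u}} {n : ℕ}

local notation "π" => CohB1.ProjSpaceOver.toBase n S

/-- The twists of a family on a fibre are the twists of a coherent module on projective space. -/
theorem exists_fibre_twists [IsLocallyNoetherian S] {Q : (CohB1.ProjSpaceOver n S).Modules} (hQ : Coh.IsCoh Q)
    (s : S) :
    ∃ (e : pullback π (S.fromSpecResidueField s) ≅ CohB1.ProjSpace n (S.residueField s))
      (M : (CohB1.ProjSpace n (S.residueField s)).Modules), Coh.IsCoh M ∧
      ∀ j : ℤ, Nonempty ((Scheme.Modules.pullback (pullback.fst π (S.fromSpecResidueField s))).obj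
        (CohB1.tensorMod Q (Twist.twistOver n S j)) ≅
          (Scheme.Modules.pullback e.hom).obj (CohB1.tensorMod M (Twist.twistProjSpace n (S.residueField s) j))) := by
  haveI := TwistFlat.isProper_toBase n (Y := S)
  haveI : IsLocallyNoetherian (CohB1.ProjSpaceOver n S) := LocallyOfFiniteType.isLocallyNoetherian π
  obtain ⟨e, -, htw⟩ := RelCube.exists_fibre_iso n S (S.fromSpecResidueField s)
  let ι := pullback.fst π (S.fromSpecResidueField s)
  let M := (Scheme.Modules.pullback e.inv).obj ((Scheme.Modules.pullback ι).obj Q)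
  haveI : IsLocallyNoetherian (CohB1.ProjSpace n (S.residueField s)) :=
    (Proj16.isNoetherian_proj (CohB1.polyGrading n (S.residueField s))).toIsLocallyNoetherian
  refine ⟨e, M, QCoh.isCoh_iff_isFP.2 (ModStLib.isFP_pullback _ (ModStLib.isFP_pullback _ (QCoh.isCoh_iff_isFP.1 hQ))),
    fun j => ?_⟩
  obtain ⟨τ⟩ := htw j
  refine H23.PicMul.cl_eq_iff.1 ?_
  show PicF.pullCl ι (PicF.cl (CohB1.tensorMod Q (Twist.twistOver n S j))) =
    PicF.pullCl e.hom (PicF.cl (CohB1.tensorMod M (Twist.twistProjSpace n (S.residueField s) j)))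
  rw [H23.PicMul.cl_tensor, H23.PicMul.cl_tensor, H23.PicMul.pullCl_mul, H23.PicMul.pullCl_mul]
  refine congrArg₂ (· * ·) (Eq.symm ?_) (H23.PicMul.cl_eq_iff.2 ⟨τ⟩)
  show PicF.pullCl e.hom (PicF.pullCl e.inv (PicF.cl ((Scheme.Modules.pullback ι).obj Q))) = _
  rw [PicClLib.pullCl_comp, e.hom_inv_id, PicClLib.pullCl_id]
  rfl

variable (n) in
/-- Direct images of the twists of a flat family with regular fibres. -/
theorem main_of_regular [IsNoetherian S] {Q : (CohB1.ProjSpaceOver n S).Modules} (hQ : Coh.IsCoh Q)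
    (hflat : FlatMod.IsFlatOver π Q) (m : ℤ)
    (hreg : ∀ (s : S) (i : ℕ), 1 ≤ i → Subsingleton (Coh.HH (pullback π (S.fromSpecResidueField s))
      ((Scheme.Modules.pullback (pullback.fst π (S.fromSpecResidueField s))).obj
        (CohB1.tensorMod Q (Twist.twistOver n S (m - i)))) i))
    (d : ℤ) (hd : m ≤ d) :
    FlatMod.IsFinLocFree ((Coh.push π).obj (CohB1.tensorMod Q (Twist.twistOver n S d))) ∧
      (∀ i : ℕ, 1 ≤ i → IsZero ((Coh.RpushAb π i).obj (Coh.toAb (CohB1.tensorMod Q (Twist.twistOver n S d))))) ∧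
      Epi ((Scheme.Modules.pullbackPushforwardAdjunction π).counit.app (CohB1.tensorMod Q (Twist.twistOver n S d))) := by
  haveI := TwistFlat.isProper_toBase n (Y := S)
  haveI := RelCube.lfp_toBase' n S
  haveI : IsLocallyNoetherian (CohB1.ProjSpaceOver n S) := LocallyOfFiniteType.isLocallyNoetherian π
  let G := CohB1.tensorMod Q (Twist.twistOver n S d)
  have hinv := RelCube.isInvertible_twistOver n S d
  have hG : CohB1.IsFP G := HilbSnap.isFP_tensor_invertible (QCoh.isCoh_iff_isFP.1 hQ) hinv
  have hfl : FlatMod.IsFlatOver π G := TwistFlat.isFlatOver_tensor π hinv hflat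
  have hfib : ∀ s : S, (∀ i : ℕ, 1 ≤ i → Subsingleton (CohIII.fiberH π G s i)) ∧
      Curv2.IsGloballyGenerated ((Scheme.Modules.pullback (Scheme.Hom.fiberι π s)).obj G) := by
    intro s
    obtain ⟨e, M, hM, htw⟩ := exists_fibre_twists hQ s
    let K := (S.residueField s : Type u)
    haveI : IsProper (pullback.snd π (S.fromSpecResidueField s)) := inferInstance
    haveI : IsProper (CohB1.ProjSpace.toSpec n K) := PnCoh.Chow.isProper_toSpec n K
    have hm : Curv2.IsMRegular K n M m := by
      intro i hi _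
      obtain ⟨τ⟩ := htw (m - i)
      haveI := QCoh.subsingleton_HH_of_iso τ i (hreg s i hi)
      have hX : Coh.IsQCoh ((Scheme.Modules.pullback e.hom).obj
          (CohB1.tensorMod M (Twist.twistProjSpace n K (m - i)))) :=
        QCoh.isQCoh_pullback _ (ProjRegular.isCoh_twistBy hM (m - i)).1
      refine QCoh.subsingleton_HH_of_iso ((Scheme.Modules.pullbackComp _ _).app _ ≪≫
        (Scheme.Modules.pullbackCongr e.inv_hom_id).app _ ≪≫ (Scheme.Modules.pullbackId _).app _) i
        (H9Existence.subsingleton_HH_pullback_iso (pullback.snd π (S.fromSpecResidueField s)) e.inv hX i this)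
    obtain ⟨τ⟩ := htw d
    refine ⟨fun i hi => ?_, AmpleX.isGloballyGenerated_of_iso τ.symm (GGFF.isGloballyGenerated_pullback e.hom
      (S1647.result K n M hM d (HilbBound.isMRegular_mono hM hd hm)))⟩
    exact QCoh.subsingleton_HH_of_iso τ.symm i (H9Existence.subsingleton_HH_pullback_iso (CohB1.ProjSpace.toSpec n K)
      e.hom (ProjRegular.isCoh_twistBy hM d).1 i (HilbBound.subsingleton_of_regular hM hm hi (by omega)))
  obtain ⟨hlf, hbc⟩ := PBC.isFinLocFree_and_isIso_bc0 π hG hfl ⊤ fun s _ => Or.inr ((hfib s).1 1 le_rfl)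
  refine ⟨PBC.isFinLocFree_of_restrict_top hlf, fun i hi => ?_,
    epi_counit_of_fibre π (QCoh.isQCoh_of_isFP hG) (QCoh.isFT_of_isFP hG) (fun s => ?_) fun s => (hfib s).2⟩
  · obtain ⟨t⟩ := S11319.result π G i
    have hz := PBC.isZero_restrict_of_fiberH π G hG hfl i ⊤ fun y _ => (hfib y).1 i hi
    have hz' : IsZero ((Coh.Rpush π i).obj G) := by
      refine QCoh.isZero_of_cover (QCoh.isQCoh_Rpush π (QCoh.isQCoh_of_isFP hG) i)
        (fun U : S.affineOpens => U.1) (fun U => U.2)
        (fun x => by obtain ⟨U, hU, hx⟩ := QCoh.exists_affine_mem x; exact ⟨⟨U, hU⟩, hx⟩) fun U => ?_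
      have h' : (⊤ : S.Opens).ι ''ᵁ ((⊤ : S.Opens).ι ⁻¹ᵁ U.1) = U.1 := by
        rw [Scheme.Hom.image_preimage_eq_opensRange_inf, Scheme.Opens.opensRange_ι, top_inf_eq]
      rw [← h']
      exact subsingleton_of_forall_eq 0 fun z =>
        congr(($(hz.eq_of_src (𝟙 _) 0)).app ((⊤ : S.Opens).ι ⁻¹ᵁ U.1) z)
    exact ((Functor.map_isZero (QCoh.toAbFunctor S) hz').of_iso t.symm)
  · exact hbc _ _ _ _ _ (IsPullback.of_hasPullback π (S.fromSpecResidueField s)) fun _ => trivial

end Groth.Agent.QuotRep

end
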