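import Groth.Agent.ExistEasy.PP.PullSec
import Groth.Agent.InvX.GenEpi
import Groth.Agent.AmpleX.CounitEpi
import Groth.Agent.KFlatLib.Perfect.LocFree
import Groth.Agent.KFlatLib.Perfect.Tensor
import Groth.Agent.QCoh.Support
import Groth.Agent.QCoh.LocFree

/-!
# Tuples of sections as maps out of free modules
-/

set_option autoImplicit false
set_option linter.style.haveILetI false
set_option linter.unusedSectionVars false
set_option backward.isDefEq.respectTransparency false
set_option backward.isDefEq.respectTransparency.types false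
set_option maxHeartbeats 1000000
set_option synthInstance.maxHeartbeats 400000

universe u

open CategoryTheory CategoryTheory.Limits AlgebraicGeometry TopologicalSpace Opposite

attribute [-instance] CategoryTheory.catToReflQuiver

noncomputable section

namespace Groth.Agent.QuotRep

open Groth.Agent

variable {X Y : Scheme.{u}} {N n : ℕ} {L M : X.Modules}

/-- The map out of a free module given by a tuple of sections. -/
def secHom (v : Fin N → Γ(L, (⊤ : X.Opens))) : FlatMod.freeMod X N ⟶ L :=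
  Sigma.desc fun j => InvX.ofSect (v j)

/-- The standard sections of a free module. -/
def basis (X : Scheme.{u}) (N : ℕ) (j : Fin N) : Γ(FlatMod.freeMod X N, (⊤ : X.Opens)) :=
  InvX.one (Sigma.ι (fun _ : Fin N => Coh.structureModule X) j)

theorem ι_secHom (v : Fin N → Γ(L, (⊤ : X.Opens))) (j : Fin N) :
    Sigma.ι (fun _ : Fin N => Coh.structureModule X) j ≫ secHom v = InvX.ofSect (v j) :=
  Sigma.ι_desc _ _

theorem secHom_basis_apply (v : Fin N → Γ(L, (⊤ : X.Opens))) (j : Fin N) :
    (secHom v).app ⊤ (basis X N j) = v j :=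
  (congrArg InvX.one (ι_secHom v j)).trans (InvX.one_ofSect _)

theorem hom_ext_basis {f g : FlatMod.freeMod X N ⟶ L}
    (h : ∀ j, f.app ⊤ (basis X N j) = g.app ⊤ (basis X N j)) : f = g :=
  Sigma.hom_ext _ _ fun j => AmpleX.hom_ext_one' (h j)

theorem secHom_comp (v : Fin N → Γ(L, (⊤ : X.Opens))) (φ : L ⟶ M) :
    secHom v ≫ φ = secHom fun j => φ.app ⊤ (v j) := by
  refine hom_ext_basis fun j => ?_
  rw [secHom_basis_apply]
  exact congrArg (φ.app ⊤) (secHom_basis_apply v j)

theorem secHom_basis : secHom (basis X N) = 𝟙 (FlatMod.freeMod X N) := by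
  refine hom_ext_basis fun j => ?_
  rw [secHom_basis_apply]
  rfl

theorem eq_secHom (f : FlatMod.freeMod X N ⟶ L) : f = secHom fun j => f.app ⊤ (basis X N j) :=
  hom_ext_basis fun j => (secHom_basis_apply (fun j => f.app ⊤ (basis X N j)) j).symm

theorem secHom_injective {v w : Fin N → Γ(L, (⊤ : X.Opens))} (h : secHom v = secHom w) : v = w :=
  funext fun j => by rw [← secHom_basis_apply v j, h, secHom_basis_apply]

/-- Maps agreeing on generating sections are equal. -/
theorem hom_ext_sec {v : Fin N → Γ(L, (⊤ : X.Opens))} [Epi (secHom v)] {φ ψ : L ⟶ M}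
    (h : ∀ j, φ.app ⊤ (v j) = ψ.app ⊤ (v j)) : φ = ψ := by
  rw [← cancel_epi (secHom v), secHom_comp, secHom_comp]
  exact congrArg secHom (funext h)

/-- The pullback of a global section. -/
abbrev pullTop (g : Y ⟶ X) (L : X.Modules) (x : Γ(L, (⊤ : X.Opens))) :
    Γ((Scheme.Modules.pullback g).obj L, (⊤ : Y.Opens)) :=
  QCoh.pullSec g L (V := (⊤ : X.Opens)) (W := (⊤ : Y.Opens)) le_top x

theorem pullTop_eq_unit (g : Y ⟶ X) (L : X.Modules) (x : Γ(L, (⊤ : X.Opens))) :
    pullTop g L x = ((Scheme.Modules.pullbackPushforwardAdjunction g).unit.app L).app ⊤ x :=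
  QCoh.map_id' (U := (⊤ : Y.Opens)) (homOfLE le_top) _

/-- The unit section pulls back to the unit section. -/
theorem pullbackObjUnitToUnit_pullSec (g : Y ⟶ X) :
    let e : (Scheme.Modules.pullback g).obj (Coh.structureModule X) ⟶ Coh.structureModule Y :=
      SheafOfModules.pullbackObjUnitToUnit g.toRingCatSheafHom
    e.app ⊤ (pullTop g (Coh.structureModule X) (1 : Γ(X, ⊤))) =
      (1 : Γ(Y, ⊤)) := by
  intro e
  rw [pullTop_eq_unit]
  have h : (Scheme.Modules.pullbackPushforwardAdjunction g).homEquiv _ _ e =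
      SheafOfModules.unitToPushforwardObjUnit g.toRingCatSheafHom := Equiv.apply_symm_apply _ _
  rw [Adjunction.homEquiv_unit] at h
  refine Eq.trans (congrArg (fun k : Coh.structureModule X ⟶ (Scheme.Modules.pushforward g).obj (Coh.structureModule Y) => k.app ⊤ (1 : Γ(X, ⊤))) h) ?_
  exact map_one (g.app ⊤).hom

/-- The pullback of a tuple of sections. -/
theorem secHom_pullSec (g : Y ⟶ X) (v : Fin N → Γ(L, (⊤ : X.Opens))) :
    (KFlatLib.pullFreeIso g N).inv ≫ (Scheme.Modules.pullback g).map (secHom v) =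
      secHom fun j => pullTop g L (v j) := by
  let e : (Scheme.Modules.pullback g).obj (Coh.structureModule X) ⟶ Coh.structureModule Y :=
    SheafOfModules.pullbackObjUnitToUnit g.toRingCatSheafHom
  haveI : IsIso e := inferInstanceAs (IsIso (SheafOfModules.pullbackObjUnitToUnit g.toRingCatSheafHom))
  haveI := (Scheme.Modules.pullbackPushforwardAdjunction g).isLeftAdjoint
  refine Sigma.hom_ext _ _ fun j => ?_
  rw [ι_secHom]
  have h1 : Sigma.ι (fun _ : Fin N => Coh.structureModule Y) j ≫ (KFlatLib.pullFreeIso g N).inv =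
      inv e ≫ (Scheme.Modules.pullback g).map (Sigma.ι (fun _ : Fin N => Coh.structureModule X) j) := by
    simp [KFlatLib.pullFreeIso, e]
  rw [← Category.assoc, h1, Category.assoc, ← Functor.map_comp, ι_secHom, IsIso.inv_comp_eq]
  refine ((Scheme.Modules.pullbackPushforwardAdjunction g).homEquiv _ _).injective ?_
  refine AmpleX.hom_ext_one' ?_
  rw [Adjunction.homEquiv_unit, Adjunction.homEquiv_unit]
  have hps : ∀ {M : X.Modules} (x : Γ(M, (⊤ : X.Opens))), pullTop g M x =
      ((Scheme.Modules.pullbackPushforwardAdjunction g).unit.app M).app ⊤ x := fun x => pullTop_eq_unit g _ x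
  show ((Scheme.Modules.pullback g).map (InvX.ofSect (v j))).app ⊤
      (((Scheme.Modules.pullbackPushforwardAdjunction g).unit.app _).app ⊤ (1 : Γ(X, ⊤))) =
    (InvX.ofSect (pullTop g L (v j))).app ⊤
      (e.app ⊤ (((Scheme.Modules.pullbackPushforwardAdjunction g).unit.app _).app ⊤ (1 : Γ(X, ⊤))))
  rw [← hps, pullbackObjUnitToUnit_pullSec, ExistEasy.pullSec_natural]
  refine Eq.trans (congrArg _ (InvX.one_ofSect (v j))) ?_
  exact (InvX.one_ofSect _).symm

theorem epi_pullSec (g : Y ⟶ X) (v : Fin N → Γ(L, (⊤ : X.Opens))) [Epi (secHom v)] :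
    Epi (secHom fun j => pullTop g L (v j)) := by
  haveI := (Scheme.Modules.pullbackPushforwardAdjunction g).isLeftAdjoint
  rw [← secHom_pullSec]
  infer_instance

theorem isIso_pullSec (g : Y ⟶ X) (v : Fin N → Γ(L, (⊤ : X.Opens))) [IsIso (secHom v)] :
    IsIso (secHom fun j => pullTop g L (v j)) := by
  rw [← secHom_pullSec]
  infer_instance

/-- Linear combinations of sections. -/
def comb (v : Fin N → Γ(L, (⊤ : X.Opens))) (a : Fin N → Γ(X, ⊤)) : Γ(L, (⊤ : X.Opens)) :=
  ∑ j, a j • v j

theorem app_comb (φ : L ⟶ M) (v : Fin N → Γ(L, (⊤ : X.Opens))) (a : Fin N → Γ(X, ⊤)) :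
    φ.app ⊤ (comb v a) = comb (fun j => φ.app ⊤ (v j)) a := by
  rw [comb, map_sum]
  exact Finset.sum_congr rfl fun j _ => Scheme.Modules.Hom.app_smul φ _ _

theorem exists_comb (s : Γ(FlatMod.freeMod X N, (⊤ : X.Opens))) : ∃! a, comb (basis X N) a = s := by
  classical
  let c : ∀ j : Fin N, FlatMod.freeMod X N ⟶ Coh.structureModule X := fun j =>
    Sigma.desc fun i => if i = j then 𝟙 _ else 0
  have hc : ∀ i j, InvX.one (Sigma.ι (fun _ : Fin N => Coh.structureModule X) i ≫ c j) =
      if i = j then (1 : Γ(X, ⊤)) else 0 := fun i j => by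
    rw [show Sigma.ι (fun _ : Fin N => Coh.structureModule X) i ≫ c j = if i = j then 𝟙 _ else 0 from Sigma.ι_desc _ _]
    split_ifs <;> rfl
  have hval : ∀ a j, (c j).app ⊤ (comb (basis X N) a) = a j := fun a j => by
    rw [app_comb, comb, Finset.sum_eq_single j]
    · refine (congrArg (a j • ·) ((hc j j).trans (if_pos rfl))).trans ?_
      exact mul_one (a j)
    · intro i _ hi
      refine (congrArg (a i • ·) ((hc i j).trans (if_neg hi))).trans ?_
      exact smul_zero _
    · exact fun h => absurd (Finset.mem_univ j) h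
  have hid : 𝟙 (FlatMod.freeMod X N) = ∑ j, c j ≫ Sigma.ι (fun _ : Fin N => Coh.structureModule X) j := by
    refine Sigma.hom_ext _ _ fun i => ?_
    rw [Category.comp_id, Preadditive.comp_sum, Finset.sum_eq_single i]
    · rw [← Category.assoc, show Sigma.ι (fun _ : Fin N => Coh.structureModule X) i ≫ c i = _ from Sigma.ι_desc _ _,
        if_pos rfl, Category.id_comp]
    · intro j _ hj
      rw [← Category.assoc, show Sigma.ι (fun _ : Fin N => Coh.structureModule X) i ≫ c j = _ from Sigma.ι_desc _ _,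
        if_neg hj.symm, zero_comp]
    · exact fun h => absurd (Finset.mem_univ i) h
  refine ⟨fun j => (c j).app ⊤ s, ?_, fun a ha => funext fun j => by rw [← hval a j, ha]⟩
  have e : InvX.ofSect s ≫ 𝟙 _ = InvX.ofSect s := Category.comp_id _
  rw [hid, Preadditive.comp_sum] at e
  have e1 := congr(($e).app ⊤ (1 : Γ(X, ⊤)))
  rw [show (InvX.ofSect s).app ⊤ (1 : Γ(X, ⊤)) = s from InvX.one_ofSect s] at e1
  refine Eq.trans ?_ e1
  let ev : (Coh.structureModule X ⟶ FlatMod.freeMod X N) →+ Γ(FlatMod.freeMod X N, (⊤ : X.Opens)) :=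
    AddMonoidHom.mk' (fun φ => φ.app ⊤ (1 : Γ(X, ⊤))) fun _ _ => rfl
  refine Eq.trans ?_ (map_sum ev _ _).symm
  refine Finset.sum_congr rfl fun j _ => ?_
  show (show Γ(X, ⊤) from (c j).app ⊤ s) • basis X N j = (Sigma.ι (fun _ : Fin N => Coh.structureModule X) j).app ⊤
    ((c j).app ⊤ ((InvX.ofSect s).app ⊤ (1 : Γ(X, ⊤))))
  rw [show (InvX.ofSect s).app ⊤ (1 : Γ(X, ⊤)) = s from InvX.one_ofSect s]
  refine Eq.trans ?_ (InvX.app_eq_smul _ _).symm
  exact congrArg ((show Γ(X, ⊤) from (c j).app ⊤ s) • ·) (AModX.res_self _).symm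

theorem secHom_app_comb (v : Fin N → Γ(L, (⊤ : X.Opens))) (a : Fin N → Γ(X, ⊤)) :
    (secHom v).app ⊤ (comb (basis X N) a) = comb v a := by
  rw [app_comb]
  exact congrArg (comb · a) (funext (secHom_basis_apply v))

/-- Coordinates with respect to a frame. -/
theorem existsUnique_coord (e : Fin n → Γ(L, (⊤ : X.Opens))) [IsIso (secHom e)] (s : Γ(L, (⊤ : X.Opens))) :
    ∃! a, comb e a = s := by
  obtain ⟨a, ha, hu⟩ := exists_comb ((inv (secHom e)).app ⊤ s)
  refine ⟨a, ?_, fun b hb => hu b ?_⟩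
  · show comb e a = s
    rw [← secHom_app_comb, ha]
    exact congr(($(IsIso.inv_hom_id (secHom e))).app ⊤ s)
  · show comb (basis X n) b = _
    rw [← hb, ← secHom_app_comb e b]
    exact (congr(($(IsIso.hom_inv_id (secHom e))).app ⊤ (comb (basis X n) b))).symm

/-- Generating sections give all sections over an affine scheme as combinations. -/
theorem exists_comb_of_epi [IsAffine X] (hL : Coh.IsQCoh L) (v : Fin N → Γ(L, (⊤ : X.Opens))) [Epi (secHom v)]
    (s : Γ(L, (⊤ : X.Opens))) : ∃ a, comb v a = s := by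
  obtain ⟨z, hz⟩ := QCoh.app_surjective_of_epi
    (QCoh.isQCoh_of_isFP (QCoh.isFP_of_isFinLocFree (KFlatLib.isFinLocFree_freeMod N))) hL (secHom v)
    (isAffineOpen_top X) s
  obtain ⟨a, ha, -⟩ := exists_comb z
  exact ⟨a, by rw [← secHom_app_comb, ha, hz]⟩

theorem pullSec_comb (g : Y ⟶ X) (v : Fin N → Γ(L, (⊤ : X.Opens))) (a : Fin N → Γ(X, ⊤)) :
    pullTop g L (comb v a) =
      comb (fun j => pullTop g L (v j)) fun j => g.appTop (a j) := by
  let φ : Γ(L, (⊤ : X.Opens)) →+ Γ((Scheme.Modules.pullback g).obj L, (⊤ : Y.Opens)) :=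
    AddMonoidHom.mk' (pullTop g L) fun x y => QCoh.pullSec_add g L _ x y
  refine (map_sum φ _ _).trans (Finset.sum_congr rfl fun j _ => ?_)
  show pullTop g L (a j • v j) = _
  rw [pullTop, QCoh.pullSec_smul, show g.appLE ⊤ ⊤ le_top = g.appTop from (Scheme.Hom.app_eq_appLE g).symm]

end Groth.Agent.QuotRep

end
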